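import Mathlib
import Cfsg.Agent.S2353
import Cfsg.Agent.H7.PSL2

set_option autoImplicit false

namespace Cfsg.Agent.H7

open Matrix Polynomial
open scoped MatrixGroups commutatorElement

/-- `w` takes, on commutators, a value not commuting with some commutator. -/
def NLC (w : FreeGroup ℕ) (H : Type*) [Group H] : Prop :=
  ∃ (f : ℕ → H) (x : H), (∀ i, f i ∈ commutator H) ∧ x ∈ commutator H ∧
    ¬ Commute (FreeGroup.lift f w) x

theorem lift_comp_hom {H K : Type*} [Group H] [Group K] (φ : H →* K) (f : ℕ → H)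
    (w : FreeGroup ℕ) : FreeGroup.lift (fun i => φ (f i)) w = φ (FreeGroup.lift f w) := by
  have h : FreeGroup.lift (fun i => φ (f i)) = φ.comp (FreeGroup.lift f) := by
    apply FreeGroup.ext_hom
    intro a
    simp
  rw [h]
  rfl

theorem map_mem_commutator {H K : Type*} [Group H] [Group K] (φ : H →* K) {x : H}
    (hx : x ∈ commutator H) : φ x ∈ commutator K := by
  rw [commutator_def] at hx ⊢
  have h1 : φ x ∈ Subgroup.map φ ⁅(⊤ : Subgroup H), ⊤⁆ := Subgroup.mem_map_of_mem φ hx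
  rw [Subgroup.map_commutator] at h1
  exact Subgroup.commutator_mono le_top le_top h1

theorem NLC.map {w : FreeGroup ℕ} {H K : Type*} [Group H] [Group K] (φ : H →* K)
    (hφ : Function.Injective φ) (h : NLC w H) : NLC w K := by
  obtain ⟨f, x, hf, hx, hc⟩ := h
  refine ⟨fun i => φ (f i), φ x, fun i => map_mem_commutator φ (hf i),
    map_mem_commutator φ hx, ?_⟩
  rw [lift_comp_hom]
  intro h
  apply hc
  apply hφ
  rw [map_mul, map_mul]
  exact h

/-- If `NLC w K'`, `K` contains the commutator subgroup of `K'`, and `G ≅ K / Z(K)`, then `w` is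
not a law in `G`. -/
theorem NLC.not_law_quot {w : FreeGroup ℕ} {K' K G : Type*} [Group K'] [Group K] [Group G]
    (h : NLC w K') (ι : K →* K') (hc : commutator K' ≤ ι.range)
    (e : G ≃* K ⧸ Subgroup.center K) : ¬ ∀ f : ℕ → G, FreeGroup.lift f w = 1 := by
  obtain ⟨f, x, hf, hx, hcomm⟩ := h
  intro hlaw
  choose k hk using fun i => hc (hf i)
  obtain ⟨y, hy⟩ := hc hx
  have h1 := hlaw (fun i => e.symm (QuotientGroup.mk (k i)))
  have h2 : FreeGroup.lift (fun i => e.symm (QuotientGroup.mk (k i))) w =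
      e.symm (QuotientGroup.mk (FreeGroup.lift k w)) :=
    lift_comp_hom (e.symm.toMonoidHom.comp (QuotientGroup.mk' _)) k w
  rw [h2] at h1
  have h3 : (QuotientGroup.mk (FreeGroup.lift k w) : K ⧸ Subgroup.center K) = 1 := by
    simpa using h1
  rw [QuotientGroup.eq_one_iff] at h3
  have h4 := Subgroup.mem_center_iff.mp h3 y
  apply hcomm
  have h5 : FreeGroup.lift f w = ι (FreeGroup.lift k w) := by
    rw [← lift_comp_hom]
    have h6 : f = fun i => ι (k i) := funext fun i => (hk i).symm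
    rw [h6]
  rw [h5, ← hy]
  show ι _ * ι y = ι y * ι _
  rw [← map_mul, ← map_mul, h4]

/-- If `NLC w K'`, `K` contains the commutator subgroup of `K'`, and `G ≅ K`, then `w` is
not a law in `G`. -/
theorem NLC.not_law_equiv {w : FreeGroup ℕ} {K' K G : Type*} [Group K'] [Group K] [Group G]
    (h : NLC w K') (ι : K →* K') (hc : commutator K' ≤ ι.range)
    (e : G ≃* K) : ¬ ∀ f : ℕ → G, FreeGroup.lift f w = 1 := by
  obtain ⟨f, x, hf, hx, hcomm⟩ := h
  intro hlaw
  choose k hk using fun i => hc (hf i)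
  obtain ⟨y, hy⟩ := hc hx
  have h1 := hlaw (fun i => e.symm (k i))
  have h2 : FreeGroup.lift (fun i => e.symm (k i)) w = e.symm (FreeGroup.lift k w) :=
    lift_comp_hom e.symm.toMonoidHom k w
  rw [h2] at h1
  have h3 : FreeGroup.lift k w = 1 := by simpa using h1
  apply hcomm
  have h5 : FreeGroup.lift f w = ι (FreeGroup.lift k w) := by
    rw [← lift_comp_hom]
    have h6 : f = fun i => ι (k i) := funext fun i => (hk i).symm
    rw [h6]
  rw [h5, h3, map_one]
  exact Commute.one_left x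

section SL2

variable {F : Type*} [Field F]

/-- The lower unipotent matrix. -/
def slLower (x : F) : SL(2, F) := ⟨!![1, 0; x, 1], by simp [Matrix.det_fin_two_of]⟩

/-- The diagonal matrix `diag(c, c⁻¹)`. -/
def slDiag (c : F) (hc : c ≠ 0) : SL(2, F) :=
  ⟨!![c, 0; 0, c⁻¹], by simp [Matrix.det_fin_two_of, hc]⟩

theorem slUpper_mem_commutator (c x : F) (hc0 : c ≠ 0) (hc : c ^ 2 ≠ 1) :
    slUpper x ∈ commutator SL(2, F) := by
  have hc1 : c ^ 2 - 1 ≠ 0 := sub_ne_zero.mpr hc
  have h1 : ⁅slDiag c hc0, slUpper (x / (c ^ 2 - 1))⁆ = slUpper x := by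
    rw [commutatorElement_def, mul_inv_eq_iff_eq_mul, mul_inv_eq_iff_eq_mul]
    apply Subtype.ext
    simp only [Matrix.SpecialLinearGroup.coe_mul]
    show !![c, 0; 0, c⁻¹] * !![1, x / (c ^ 2 - 1); 0, 1] =
      !![1, x; 0, 1] * !![1, x / (c ^ 2 - 1); 0, 1] * !![c, 0; 0, c⁻¹]
    ext i j
    fin_cases i <;> fin_cases j <;> simp [Matrix.mul_apply, Fin.sum_univ_two] <;> field_simp <;>
      ring
  rw [← h1, commutator_def]
  exact Subgroup.commutator_mem_commutator (Subgroup.mem_top _) (Subgroup.mem_top _)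

theorem slLower_mem_commutator (c x : F) (hc0 : c ≠ 0) (hc : c ^ 2 ≠ 1) :
    slLower x ∈ commutator SL(2, F) := by
  have hc1 : c ^ 2 - 1 ≠ 0 := sub_ne_zero.mpr hc
  have h1 : ⁅slDiag c⁻¹ (inv_ne_zero hc0), slLower (x / (c ^ 2 - 1))⁆ = slLower x := by
    rw [commutatorElement_def, mul_inv_eq_iff_eq_mul, mul_inv_eq_iff_eq_mul]
    apply Subtype.ext
    simp only [Matrix.SpecialLinearGroup.coe_mul]
    show !![c⁻¹, 0; 0, c⁻¹⁻¹] * !![1, 0; x / (c ^ 2 - 1), 1] =
      !![1, 0; x, 1] * !![1, 0; x / (c ^ 2 - 1), 1] * !![c⁻¹, 0; 0, c⁻¹⁻¹]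
    ext i j
    fin_cases i <;> fin_cases j <;> simp [Matrix.mul_apply, Fin.sum_univ_two] <;> field_simp <;>
      ring
  rw [← h1, commutator_def]
  exact Subgroup.commutator_mem_commutator (Subgroup.mem_top _) (Subgroup.mem_top _)

theorem genA_mem_commutator (c x : F) (hc0 : c ≠ 0) (hc : c ^ 2 ≠ 1) :
    Cfsg.Agent.S2353.genA x ∈ commutator SL(2, F) := by
  have h1 : Cfsg.Agent.S2353.genA x = slUpper x * slLower x := by
    apply Subtype.ext
    rw [Matrix.SpecialLinearGroup.coe_mul]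
    show !![1 + x * x, x; x, 1] = !![1, x; 0, 1] * !![1, 0; x, 1]
    ext i j
    fin_cases i <;> fin_cases j <;> simp [Matrix.mul_apply, Fin.sum_univ_two]
  rw [h1]
  exact mul_mem (slUpper_mem_commutator c x hc0 hc) (slLower_mem_commutator c x hc0 hc)

end SL2

/-- For a non-trivial word `w`, `SL_2(F)` has the property `NLC w` for all large finite fields. -/
theorem nlc_SL2 (w : FreeGroup ℕ) (hw : w ≠ 1) :
    ∃ N : ℕ, ∀ (F : Type*) [Field F] [Finite F], N ≤ Nat.card F → NLC w SL(2, F) := by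
  classical
  obtain ⟨p, L, hL⟩ : ∃ p L, w.toWord = p :: L := by
    cases h : w.toWord with
    | nil => exact absurd (FreeGroup.toWord_eq_nil_iff.mp h) hw
    | cons p L => exact ⟨p, L, rfl⟩
  have hred : FreeGroup.IsReduced (p :: L) := by
    rw [← hL]
    exact FreeGroup.isReduced_toWord
  have hwL : w = FreeGroup.mk (p :: L) := by rw [← hL, FreeGroup.mk_toWord]
  refine ⟨Cfsg.Agent.S2353.bound (p :: L) + 4, ?_⟩
  intro F _ _ hN
  have := Fintype.ofFinite F
  rw [Nat.card_eq_fintype_card] at hN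
  obtain ⟨h1, h2⟩ := Cfsg.Agent.S2353.inv_word (F := F) L p hred
  obtain ⟨M, hM⟩ : ∃ M, M = Cfsg.Agent.S2353.wordMat (fun i => (X : F[X]) ^ (i + 1)) (p :: L) :=
    ⟨_, rfl⟩
  rw [← hM] at h1 h2
  have hQ : M.1 1 0 ≠ 0 ∧ (M.1 1 0).natDegree ≤ Cfsg.Agent.S2353.bound (p :: L) := by
    rcases hb : p.2 with _ | _
    · obtain ⟨h3, h4, h5⟩ := h2 hb
      refine ⟨?_, h5⟩
      intro h
      rw [h, natDegree_zero] at h4
      omega
    · obtain ⟨h3, h4, h5⟩ := h1 hb
      exact ⟨h3, by omega⟩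
  obtain ⟨t, ht⟩ := Polynomial.exists_eval_ne_zero_of_natDegree_lt_card (M.1 1 0) hQ.1 (by
    rw [Cardinal.mk_fintype]
    exact_mod_cast (by omega : (M.1 1 0).natDegree < Fintype.card F))
  have hdeg : ((X : F[X]) ^ 3 - X).natDegree = 3 := by
    rw [natDegree_sub_eq_left_of_natDegree_lt (by rw [natDegree_X_pow, natDegree_X]; omega),
      natDegree_X_pow]
  obtain ⟨c, hc⟩ := Polynomial.exists_eval_ne_zero_of_natDegree_lt_card ((X : F[X]) ^ 3 - X)
    (by intro h; rw [h, natDegree_zero] at hdeg; omega) (by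
    rw [Cardinal.mk_fintype, hdeg]
    exact_mod_cast (by omega : 3 < Fintype.card F))
  have hc0 : c ≠ 0 := by
    rintro rfl
    simp at hc
  have hc1 : c ^ 2 ≠ 1 := by
    intro h
    apply hc
    simp only [eval_sub, eval_pow, eval_X]
    rw [show c ^ 3 = c ^ 2 * c by ring, h]
    ring
  refine ⟨fun i => Cfsg.Agent.S2353.genA (t ^ (i + 1)), slUpper 1,
    fun i => genA_mem_commutator c _ hc0 hc1, slUpper_mem_commutator c 1 hc0 hc1, ?_⟩
  rw [hwL, Cfsg.Agent.S2353.lift_eq_wordMat]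
  intro hcomm
  apply ht
  have h4 := Cfsg.Agent.S2353.map_wordMat (Polynomial.evalRingHom t)
    (fun i => (X : F[X]) ^ (i + 1)) (p :: L)
  rw [← hM] at h4
  have h5 : (fun i => (Polynomial.evalRingHom t) ((X : F[X]) ^ (i + 1))) =
      fun i => t ^ (i + 1) := by
    funext i
    simp
  rw [h5] at h4
  rw [← h4] at hcomm
  have h6 : (Matrix.SpecialLinearGroup.map (Polynomial.evalRingHom t) M * slUpper 1).1 0 0 =
      (slUpper 1 * Matrix.SpecialLinearGroup.map (Polynomial.evalRingHom t) M).1 0 0 := by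
    rw [hcomm.eq]
  rw [sl2_mul_apply, sl2_mul_apply] at h6
  have e00 : (slUpper (1 : F)).1 0 0 = 1 := rfl
  have e01 : (slUpper (1 : F)).1 0 1 = 1 := rfl
  have e10 : (slUpper (1 : F)).1 1 0 = 0 := rfl
  rw [e00, e01, e10, Matrix.SpecialLinearGroup.map_apply_coe] at h6
  simpa using h6

end Cfsg.Agent.H7
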