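import Mathlib
import Cfsg.Prelude.Def_Classical
import Cfsg.Agent.H7.Law

set_option autoImplicit false

namespace Cfsg.Agent.H7

open Matrix
open scoped MatrixGroups

/-! ### Cayley embedding into symmetric groups -/

theorem NLC.perm_of_card_le {w : FreeGroup ℕ} {H : Type*} [Group H] [Finite H] (h : NLC w H)
    (k : ℕ) (hk : Nat.card H ≤ k) : NLC w (Equiv.Perm (Fin k)) := by
  classical
  have := Fintype.ofFinite H
  obtain ⟨ι⟩ : Nonempty (H ↪ Fin k) := Function.Embedding.nonempty_of_card_le (by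
    simpa [Nat.card_eq_fintype_card] using hk)
  have h1 : NLC w (Equiv.Perm H) := h.map (MulAction.toPermHom H H) MulAction.toPerm_injective
  exact h1.map (Equiv.Perm.viaEmbeddingHom ι) (Equiv.Perm.viaEmbeddingHom_injective ι)

/-! ### Permutation matrices -/

section Perm

variable {n : Type} [Fintype n] [DecidableEq n] (F : Type*) [Field F]

/-- Permutation matrices, as a homomorphism to `GL`. -/
noncomputable def permGL : Equiv.Perm n →* GL n F :=
  (Matrix.permMatrixHom (n := n) (R := F)).toHomUnits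

theorem permGL_coe (σ : Equiv.Perm n) :
    ((permGL F σ : GL n F) : Matrix n n F) = σ⁻¹.permMatrix F := rfl

theorem permGL_mulVec (σ : Equiv.Perm n) (v : n → F) :
    ((permGL F σ : GL n F) : Matrix n n F) *ᵥ v = v ∘ (σ⁻¹ : Equiv.Perm n) := by
  rw [permGL_coe, Matrix.permMatrix_mulVec]

theorem permGL_injective : Function.Injective (permGL (n := n) F) := by
  intro σ τ h
  have h2 : σ⁻¹ = τ⁻¹ := by
    ext a
    have h3 : (Pi.single (σ⁻¹ a) (1 : F) : n → F) ∘ (σ⁻¹ : Equiv.Perm n) =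
        Pi.single (σ⁻¹ a) (1 : F) ∘ (τ⁻¹ : Equiv.Perm n) := by
      rw [← permGL_mulVec, ← permGL_mulVec, h]
    have h4 := congrFun h3 a
    simp only [Function.comp_apply, Pi.single_eq_same] at h4
    by_contra hne
    rw [Pi.single_eq_of_ne (Ne.symm hne)] at h4
    exact one_ne_zero h4
  exact inv_injective h2

end Perm

/-! ### Block embeddings -/

section Block

variable {F : Type*} [Field F]
variable {ι α β : Type} [Fintype ι] [DecidableEq ι] [Fintype α] [DecidableEq α]
  [Fintype β] [DecidableEq β]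

/-- The block embedding `A ↦ diag(A, 1)` along an equivalence `ι ≃ α ⊕ β`. -/
def blockMat (e : ι ≃ α ⊕ β) : Matrix α α F →* Matrix ι ι F where
  toFun A := (Matrix.fromBlocks A 0 0 1).submatrix e e
  map_one' := by
    rw [Matrix.fromBlocks_one, Matrix.submatrix_one_equiv]
  map_mul' A B := by
    rw [Matrix.submatrix_mul_equiv, Matrix.fromBlocks_multiply]
    simp

theorem blockMat_injective (e : ι ≃ α ⊕ β) : Function.Injective (blockMat (F := F) e) := by
  intro A B h
  have h1 : (Matrix.fromBlocks A 0 0 (1 : Matrix β β F)) = Matrix.fromBlocks B 0 0 1 := by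
    have h2 := congrArg (fun M : Matrix ι ι F => M.submatrix e.symm e.symm) h
    simpa [blockMat] using h2
  exact (Matrix.fromBlocks_inj.mp h1).1

theorem blockMat_mulVec (e : ι ≃ α ⊕ β) (A : Matrix α α F) (v : ι → F) :
    blockMat e A *ᵥ v = fun i => Sum.elim (A *ᵥ fun a => v (e.symm (Sum.inl a)))
      (fun b => v (e.symm (Sum.inr b))) (e i) := by
  show (Matrix.fromBlocks A 0 0 1).submatrix e e *ᵥ v = _
  rw [Matrix.submatrix_mulVec_equiv, Matrix.fromBlocks_mulVec]
  funext i
  simp only [Function.comp_apply]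
  congr 1
  · funext a
    simp [Function.comp_def]
  · funext b
    simp [Function.comp_def]

/-- The block embedding on `GL`. -/
def blockGL (e : ι ≃ α ⊕ β) : GL α F →* GL ι F := Units.map (blockMat e)

theorem blockGL_injective (e : ι ≃ α ⊕ β) : Function.Injective (blockGL (F := F) e) :=
  Units.map_injective (blockMat_injective e)

theorem blockGL_mem (e : ι ≃ α ⊕ β) (f₁ : (α → F) → (α → F) → F) (f₂ : (β → F) → (β → F) → F)
    (f : (ι → F) → (ι → F) → F)
    (hf : ∀ u v, f u v = f₁ (fun a => u (e.symm (Sum.inl a))) (fun a => v (e.symm (Sum.inl a))) +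
      f₂ (fun b => u (e.symm (Sum.inr b))) (fun b => v (e.symm (Sum.inr b))))
    (g : GL α F) (hg : g ∈ Cfsg.preserving (Units.coeHom (Matrix α α F)) f₁) :
    blockGL e g ∈ Cfsg.preserving (Units.coeHom (Matrix ι ι F)) f := by
  intro u v
  show f (blockMat e g.1 *ᵥ u) (blockMat e g.1 *ᵥ v) = f u v
  rw [hf, hf u v, blockMat_mulVec, blockMat_mulVec]
  simp only [Equiv.apply_symm_apply, Sum.elim_inl, Sum.elim_inr]
  congr 1
  exact hg _ _

/-- The block embedding between form-preserving subgroups. -/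
def blockPres (e : ι ≃ α ⊕ β) (f₁ : (α → F) → (α → F) → F) (f₂ : (β → F) → (β → F) → F)
    (f : (ι → F) → (ι → F) → F)
    (hf : ∀ u v, f u v = f₁ (fun a => u (e.symm (Sum.inl a))) (fun a => v (e.symm (Sum.inl a))) +
      f₂ (fun b => u (e.symm (Sum.inr b))) (fun b => v (e.symm (Sum.inr b)))) :
    Cfsg.preserving (Units.coeHom (Matrix α α F)) f₁ →*
      Cfsg.preserving (Units.coeHom (Matrix ι ι F)) f :=
  ((blockGL e).comp (Subgroup.subtype _)).codRestrict _
    (fun g => blockGL_mem e f₁ f₂ f hf g.1 g.2)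

theorem blockPres_injective (e : ι ≃ α ⊕ β) (f₁ : (α → F) → (α → F) → F)
    (f₂ : (β → F) → (β → F) → F) (f : (ι → F) → (ι → F) → F)
    (hf : ∀ u v, f u v = f₁ (fun a => u (e.symm (Sum.inl a))) (fun a => v (e.symm (Sum.inl a))) +
      f₂ (fun b => u (e.symm (Sum.inr b))) (fun b => v (e.symm (Sum.inr b)))) :
    Function.Injective (blockPres e f₁ f₂ f hf) := by
  intro g h hgh
  apply Subtype.ext
  apply blockGL_injective e
  exact congrArg Subtype.val hgh

end Block

/-! ### Hyperbolic embeddings -/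

section Hyp

variable {F : Type*} [Field F] {α : Type} [Fintype α] [DecidableEq α]

/-- `g ↦ diag(g, g⁻ᵀ)`. -/
def hypMat : GL α F →* Matrix (α ⊕ α) (α ⊕ α) F where
  toFun g := Matrix.fromBlocks g.1 0 0 ((g⁻¹ : GL α F).1)ᵀ
  map_one' := by
    simp [Matrix.fromBlocks_one]
  map_mul' g h := by
    rw [Matrix.fromBlocks_multiply]
    simp [Matrix.transpose_mul]

theorem hypMat_injective : Function.Injective (hypMat (F := F) (α := α)) := by
  intro g h hgh
  apply Units.ext
  exact (Matrix.fromBlocks_inj.mp hgh).1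

/-- `g ↦ diag(g, g⁻ᵀ)` into `GL`. -/
def hypGL : GL α F →* GL (α ⊕ α) F := hypMat.toHomUnits

theorem hypGL_injective : Function.Injective (hypGL (F := F) (α := α)) := by
  intro g h hgh
  apply hypMat_injective
  have := congrArg (fun x : GL (α ⊕ α) F => x.1) hgh
  exact this

theorem hypMat_mulVec_inl (g : GL α F) (v : α ⊕ α → F) (a : α) :
    (hypMat g *ᵥ v) (Sum.inl a) = (g.1 *ᵥ fun a => v (Sum.inl a)) a := by
  show (Matrix.fromBlocks g.1 0 0 ((g⁻¹ : GL α F).1)ᵀ *ᵥ v) (Sum.inl a) = _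
  rw [Matrix.fromBlocks_mulVec]
  simp [Function.comp_def]

theorem hypMat_mulVec_inr (g : GL α F) (v : α ⊕ α → F) (a : α) :
    (hypMat g *ᵥ v) (Sum.inr a) = (((g⁻¹ : GL α F).1)ᵀ *ᵥ fun a => v (Sum.inr a)) a := by
  show (Matrix.fromBlocks g.1 0 0 ((g⁻¹ : GL α F).1)ᵀ *ᵥ v) (Sum.inr a) = _
  rw [Matrix.fromBlocks_mulVec]
  simp [Function.comp_def]

theorem hyp_dot (g : GL α F) (x y : α → F) :
    (g.1 *ᵥ x) ⬝ᵥ (((g⁻¹ : GL α F).1)ᵀ *ᵥ y) = x ⬝ᵥ y := by
  rw [dotProduct_comm, Matrix.dotProduct_mulVec, Matrix.mulVec_transpose, Matrix.vecMul_vecMul]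
  have h1 : (g⁻¹ : GL α F).1 * g.1 = 1 := by
    rw [← Units.val_mul, inv_mul_cancel, Units.val_one]
  rw [h1, Matrix.vecMul_one, dotProduct_comm]

theorem hypGL_mem_plus (m : ℕ) (g : GL (Fin m) F) :
    hypGL g ∈ Cfsg.isometryGroup F (Cfsg.quadFormPlus m F) := by
  intro u v
  show Cfsg.quadFormPlus m F (hypMat g *ᵥ u) = Cfsg.quadFormPlus m F u
  unfold Cfsg.quadFormPlus
  simp only [hypMat_mulVec_inl, hypMat_mulVec_inr]
  exact hyp_dot g _ _

/-- `GL_m(F) → O⁺_{2m}(F)`. -/
def hypPlus (m : ℕ) : GL (Fin m) F →* Cfsg.isometryGroup F (Cfsg.quadFormPlus m F) :=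
  hypGL.codRestrict _ (hypGL_mem_plus m)

theorem hypPlus_injective (m : ℕ) : Function.Injective (hypPlus (F := F) m) := by
  intro g h hgh
  apply hypGL_injective
  exact congrArg Subtype.val hgh

theorem hypMat_mem_symplectic (g : GL α F) : hypMat g ∈ Matrix.symplecticGroup α F := by
  rw [SymplecticGroup.mem_iff]
  show Matrix.fromBlocks g.1 0 0 ((g⁻¹ : GL α F).1)ᵀ * Matrix.J α F *
    (Matrix.fromBlocks g.1 0 0 ((g⁻¹ : GL α F).1)ᵀ)ᵀ = Matrix.J α F
  have h1 : g.1 * (g⁻¹ : GL α F).1 = 1 := by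
    rw [← Units.val_mul, mul_inv_cancel, Units.val_one]
  have h2 : ((g⁻¹ : GL α F).1)ᵀ * (g.1)ᵀ = 1 := by
    rw [← Matrix.transpose_mul, h1, Matrix.transpose_one]
  rw [Matrix.J, Matrix.fromBlocks_multiply, Matrix.fromBlocks_transpose,
    Matrix.fromBlocks_multiply]
  simp only [Matrix.mul_zero, Matrix.zero_mul, add_zero, zero_add, Matrix.mul_one,
    Matrix.mul_neg, Matrix.neg_mul, Matrix.transpose_transpose, Matrix.transpose_zero, h1, h2, neg_zero]

/-- `GL_m(F) → Sp_{2m}(F)`. -/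
def hypSp : GL α F →* Matrix.symplecticGroup α F where
  toFun g := ⟨hypMat g, hypMat_mem_symplectic g⟩
  map_one' := Subtype.ext (map_one hypMat)
  map_mul' g h := Subtype.ext (map_mul hypMat g h)

theorem hypSp_injective : Function.Injective (hypSp (F := F) (α := α)) := by
  intro g h hgh
  apply hypMat_injective
  exact congrArg Subtype.val hgh

end Hyp

end Cfsg.Agent.H7
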