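import Mathlib
import Cfsg.Prelude.Def_Classical
import Cfsg.Agent.H7.LawEmb

set_option autoImplicit false

namespace Cfsg.Agent.H7

open Matrix Polynomial
open scoped MatrixGroups

section Herm2

variable {F : Type*} [Field F] (φ : F →+* F) (l z : F)

/-- The base change matrix from the standard Hermitian form to the alternating one. -/
def hermT : Matrix (Fin 2) (Fin 2) F := !![1, l; z, φ z * l]

theorem hermT_alt (hφ : φ (φ z) = z) (hl : l * φ l = -1) (u v : Fin 2 → F) :
    (hermT φ l z *ᵥ u) 0 * φ ((hermT φ l z *ᵥ v) 1) -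
      (hermT φ l z *ᵥ u) 1 * φ ((hermT φ l z *ᵥ v) 0)
      = -(z - φ z) * (u 0 * φ (v 0) + u 1 * φ (v 1)) := by
  simp only [hermT, Matrix.mulVec, dotProduct, Fin.sum_univ_two, Matrix.of_apply,
    Matrix.cons_val_zero, Matrix.cons_val_one, map_add, map_mul, hφ, one_mul, map_one]
  linear_combination (u 1 * φ (v 1) * (z - φ z)) * hl

theorem sl_alt (g : Matrix (Fin 2) (Fin 2) F) (hdet : g.det = 1)
    (hg : ∀ i j, φ (g i j) = g i j) (x y : Fin 2 → F) :
    (g *ᵥ x) 0 * φ ((g *ᵥ y) 1) - (g *ᵥ x) 1 * φ ((g *ᵥ y) 0) =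
      x 0 * φ (y 1) - x 1 * φ (y 0) := by
  rw [Matrix.det_fin_two] at hdet
  simp only [Matrix.mulVec, dotProduct, Fin.sum_univ_two, map_add, map_mul, hg]
  linear_combination (x 0 * φ (y 1) - x 1 * φ (y 0)) * hdet

theorem herm_conj_mem (q : ℕ) (hq : ∀ x, φ x = x ^ q) (hφ : ∀ x, φ (φ x) = x)
    (hl : l * φ l = -1) (hz : z ≠ φ z)
    (T : GL (Fin 2) F) (hT : T.1 = hermT φ l z) (g : GL (Fin 2) F) (hdet : g.1.det = 1)
    (hg : ∀ i j, φ (g.1 i j) = g.1 i j) :
    T⁻¹ * g * T ∈ Cfsg.preserving (Units.coeHom (Matrix (Fin 2) (Fin 2) F))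
      (Cfsg.hermForm 2 F q) := by
  intro u v
  show Cfsg.hermForm 2 F q ((T⁻¹ * g * T).1 *ᵥ u) ((T⁻¹ * g * T).1 *ᵥ v) =
    Cfsg.hermForm 2 F q u v
  have key : ∀ u v : Fin 2 → F, -(z - φ z) * Cfsg.hermForm 2 F q u v =
      (T.1 *ᵥ u) 0 * φ ((T.1 *ᵥ v) 1) - (T.1 *ᵥ u) 1 * φ ((T.1 *ᵥ v) 0) := by
    intro u v
    rw [hT, hermT_alt φ l z (hφ z) hl]
    simp [Cfsg.hermForm, Fin.sum_univ_two, hq]
  have hTM : ∀ u : Fin 2 → F, T.1 *ᵥ ((T⁻¹ * g * T).1 *ᵥ u) = g.1 *ᵥ (T.1 *ᵥ u) := by
    intro u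
    rw [Matrix.mulVec_mulVec, Matrix.mulVec_mulVec, ← Units.val_mul, ← Units.val_mul]
    congr 2
    group
  have hne : -(z - φ z) ≠ 0 := neg_ne_zero.mpr (sub_ne_zero.mpr hz)
  apply mul_left_cancel₀ hne
  rw [key, key, hTM, hTM, sl_alt φ g.1 hdet hg]

end Herm2

section FixedField

variable {F : Type*} [Field F] [Fintype F]

theorem two_le_of_card_sq_law {q : ℕ} (hq : Fintype.card F = q ^ 2) : 2 ≤ q := by
  have h1 : 1 < Fintype.card F := Fintype.one_lt_card
  rw [hq] at h1
  by_contra h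
  have h2 : q ≤ 1 := by omega
  have h3 : q ^ 2 ≤ 1 ^ 2 := Nat.pow_le_pow_left h2 2
  omega

/-- The Frobenius `x ↦ x ^ q` as a ring homomorphism when `|F| = q²`. -/
theorem exists_frob {q : ℕ} (hq : Fintype.card F = q ^ 2) :
    ∃ φ : F →+* F, (∀ x, φ x = x ^ q) ∧ ∀ x, φ (φ x) = x := by
  obtain ⟨n, hp, hn⟩ := FiniteField.card F (ringChar F)
  have h1 : q ∣ ringChar F ^ (n : ℕ) := by
    rw [← hn, hq]
    exact dvd_pow_self q (by norm_num)
  obtain ⟨k, -, hk⟩ := (Nat.dvd_prime_pow hp).mp h1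
  haveI : ExpChar F (ringChar F) := ExpChar.prime hp
  refine ⟨iterateFrobenius F (ringChar F) k, fun x => ?_, fun x => ?_⟩
  · rw [iterateFrobenius_def, hk]
  · rw [iterateFrobenius_def, iterateFrobenius_def, ← hk, ← pow_mul, ← sq, ← hq,
      FiniteField.pow_card]

open Classical in
theorem card_fixed_le {q : ℕ} (hq2 : 2 ≤ q) :
    (Finset.univ.filter (fun x : F => x ^ q = x)).card ≤ q := by
  have hdeg : ((X : F[X]) ^ q - X).natDegree = q := by
    rw [natDegree_sub_eq_left_of_natDegree_lt (by rw [natDegree_X_pow, natDegree_X]; omega),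
      natDegree_X_pow]
  have hne : ((X : F[X]) ^ q - X) ≠ 0 := by
    intro h
    rw [h, natDegree_zero] at hdeg
    omega
  calc (Finset.univ.filter (fun x : F => x ^ q = x)).card
      ≤ ((X : F[X]) ^ q - X).roots.toFinset.card := by
        apply Finset.card_le_card
        intro x hx
        rw [Finset.mem_filter] at hx
        rw [Multiset.mem_toFinset, mem_roots hne]
        simp [hx.2]
    _ ≤ Multiset.card ((X : F[X]) ^ q - X).roots := Multiset.toFinset_card_le _
    _ ≤ ((X : F[X]) ^ q - X).natDegree := Polynomial.card_roots' _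
    _ = q := hdeg

open Classical in
theorem norm_image {q : ℕ} (hq : Fintype.card F = q ^ 2) :
    Finset.univ.image (fun x : F => x ^ (q + 1)) = Finset.univ.filter (fun x : F => x ^ q = x) := by
  have hq2 := two_le_of_card_sq_law hq
  have h1 : Finset.univ.image (fun x : F => x ^ (q + 1)) ⊆
      Finset.univ.filter (fun x : F => x ^ q = x) := by
    intro y hy
    rw [Finset.mem_image] at hy
    obtain ⟨x, -, rfl⟩ := hy
    rw [Finset.mem_filter]
    refine ⟨Finset.mem_univ _, ?_⟩
    rw [← pow_mul, add_mul, one_mul, pow_add, ← sq, ← hq, FiniteField.pow_card, mul_comm]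
    rw [pow_succ]
  apply Finset.eq_of_subset_of_card_le h1
  have h2 := Finset.card_le_mul_card_image (f := fun x : F => x ^ (q + 1)) Finset.univ (q + 1)
    (by
      intro b _
      calc (Finset.univ.filter (fun a : F => a ^ (q + 1) = b)).card
          ≤ (nthRoots (q + 1) b).toFinset.card := by
            apply Finset.card_le_card
            intro x hx
            rw [Finset.mem_filter] at hx
            rw [Multiset.mem_toFinset, mem_nthRoots (by omega)]
            exact hx.2
        _ ≤ Multiset.card (nthRoots (q + 1) b) := Multiset.toFinset_card_le _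
        _ ≤ q + 1 := card_nthRoots _ _)
  rw [Finset.card_univ, hq] at h2
  have h3 := card_fixed_le (F := F) hq2
  by_contra hlt
  push Not at hlt
  have h4 : (Finset.univ.image (fun x : F => x ^ (q + 1))).card + 1 ≤ q := by omega
  have h5 : (q + 1) * ((Finset.univ.image (fun x : F => x ^ (q + 1))).card + 1) ≤ (q + 1) * q :=
    Nat.mul_le_mul_left _ h4
  nlinarith

open Classical in
theorem card_fixed {q : ℕ} (hq : Fintype.card F = q ^ 2) :
    (Finset.univ.filter (fun x : F => x ^ q = x)).card = q := by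
  have hq2 := two_le_of_card_sq_law hq
  apply le_antisymm (card_fixed_le hq2)
  have h2 := Finset.card_le_mul_card_image (f := fun x : F => x ^ (q + 1)) Finset.univ (q + 1)
    (by
      intro b _
      calc (Finset.univ.filter (fun a : F => a ^ (q + 1) = b)).card
          ≤ (nthRoots (q + 1) b).toFinset.card := by
            apply Finset.card_le_card
            intro x hx
            rw [Finset.mem_filter] at hx
            rw [Multiset.mem_toFinset, mem_nthRoots (by omega)]
            exact hx.2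
        _ ≤ Multiset.card (nthRoots (q + 1) b) := Multiset.toFinset_card_le _
        _ ≤ q + 1 := card_nthRoots _ _)
  rw [Finset.card_univ, hq, norm_image hq] at h2
  by_contra hlt
  push Not at hlt
  have h4 : (Finset.univ.filter (fun x : F => x ^ q = x)).card + 1 ≤ q := by omega
  have h5 := Nat.mul_le_mul_left (q + 1) h4
  nlinarith

open Classical in
theorem exists_norm_neg_one {q : ℕ} (hq : Fintype.card F = q ^ 2) :
    ∃ l : F, l ^ (q + 1) = -1 := by
  obtain ⟨φ, hφ, -⟩ := exists_frob hq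
  have h1 : (-1 : F) ∈ Finset.univ.filter (fun x : F => x ^ q = x) := by
    rw [Finset.mem_filter]
    refine ⟨Finset.mem_univ _, ?_⟩
    rw [← hφ, map_neg, map_one]
  rw [← norm_image hq, Finset.mem_image] at h1
  obtain ⟨l, -, hl⟩ := h1
  exact ⟨l, hl⟩

open Classical in
theorem exists_not_fixed {q : ℕ} (hq : Fintype.card F = q ^ 2) : ∃ z : F, z ≠ z ^ q := by
  have hq2 := two_le_of_card_sq_law hq
  by_contra h
  push Not at h
  have h1 : Finset.univ.filter (fun x : F => x ^ q = x) = Finset.univ := by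
    apply Finset.filter_true_of_mem
    intro x _
    exact (h x).symm
  have h2 := card_fixed hq
  rw [h1, Finset.card_univ, hq] at h2
  nlinarith

end FixedField

section UnitaryEmb

universe u

variable {F : Type u} [Field F] [Fintype F]

/-- The full unitary group `U_n` as a subgroup of `GL_n`. -/
abbrev glU (n : ℕ) (F : Type*) [Field F] (q : ℕ) : Subgroup (GL (Fin n) F) :=
  Cfsg.preserving (Units.coeHom (Matrix (Fin n) (Fin n) F)) (Cfsg.hermForm n F q)

theorem slMap_injective {R S : Type*} [CommRing R] [CommRing S] (f : R →+* S)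
    (hf : Function.Injective f) :
    Function.Injective (Matrix.SpecialLinearGroup.map (n := Fin 2) f) := by
  intro g h hgh
  apply Subtype.ext
  ext i j
  apply hf
  have h1 := congrArg (fun A : SL(2, S) => A.1 i j) hgh
  simpa [Matrix.SpecialLinearGroup.map_apply_coe] using h1

theorem nlc_unitary2 {w : FreeGroup ℕ} (N₀ : ℕ)
    (hN : ∀ (K : Type u) [Field K] [Finite K], N₀ ≤ Nat.card K → NLC w SL(2, K)) {q : ℕ}
    (hq : Fintype.card F = q ^ 2) (hqN : N₀ ≤ q) : NLC w (glU 2 F q) := by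
  classical
  obtain ⟨φ, hφ, hφφ⟩ := exists_frob hq
  obtain ⟨l, hl⟩ := exists_norm_neg_one hq
  obtain ⟨z, hz⟩ := exists_not_fixed hq
  let S : Subfield F := φ.eqLocusField (RingHom.id F)
  have hS : ∀ x, x ∈ S ↔ x ^ q = x := fun x => by
    rw [← hφ]
    exact Iff.rfl
  have hcard : Nat.card S = q := by
    rw [Nat.card_eq_fintype_card,
      Fintype.card_of_subtype (Finset.univ.filter (fun x : F => x ^ q = x)) (by
        intro x
        simp [hS])]
    exact card_fixed hq
  have h1 : NLC w SL(2, S) := hN S (by rw [hcard]; exact hqN)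
  have hl' : l * φ l = -1 := by
    rw [hφ, ← pow_succ']
    exact hl
  have hl0 : l ≠ 0 := by
    rintro rfl
    simp at hl'
  have hdetT : (hermT φ l z).det ≠ 0 := by
    rw [hermT, Matrix.det_fin_two_of]
    have h2 : (1 : F) * (φ z * l) - l * z = l * (φ z - z) := by ring
    rw [h2]
    exact mul_ne_zero hl0 (sub_ne_zero.mpr (by rw [hφ]; exact hz.symm))
  let T : GL (Fin 2) F := Matrix.GeneralLinearGroup.mkOfDetNeZero (hermT φ l z) hdetT
  let c : SL(2, S) →* GL (Fin 2) F := (MulAut.conj T⁻¹).toMonoidHom.comp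
    (Matrix.SpecialLinearGroup.toGL.comp (Matrix.SpecialLinearGroup.map S.subtype))
  have hc_inj : Function.Injective c := by
    intro g h hgh
    have h2 : Matrix.SpecialLinearGroup.toGL (Matrix.SpecialLinearGroup.map S.subtype g) =
        Matrix.SpecialLinearGroup.toGL (Matrix.SpecialLinearGroup.map S.subtype h) :=
      (MulAut.conj T⁻¹).injective hgh
    exact slMap_injective S.subtype Subtype.val_injective
      (Matrix.SpecialLinearGroup.toGL_injective h2)
  have hc_mem : ∀ g, c g ∈ glU 2 F q := by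
    intro g
    have h2 : c g = T⁻¹ * Matrix.SpecialLinearGroup.toGL
        (Matrix.SpecialLinearGroup.map S.subtype g) * T := by
      show T⁻¹ * _ * T⁻¹⁻¹ = _
      rw [inv_inv]
      rfl
    rw [h2]
    apply herm_conj_mem φ l z q hφ hφφ hl' (by rw [hφ]; exact hz) T rfl
    · exact (Matrix.SpecialLinearGroup.map S.subtype g).2
    · intro i j
      exact (g.1 i j).2
  exact h1.map (c.codRestrict _ hc_mem) (fun g h hgh => hc_inj (congrArg Subtype.val hgh))

/-- The decomposition `Fin n ≃ Fin 2 ⊕ Fin (n - 2)`. -/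
def finTwoSum (n : ℕ) (hn : 2 ≤ n) : Fin n ≃ Fin 2 ⊕ Fin (n - 2) :=
  (finCongr (by omega : n = 2 + (n - 2))).trans finSumFinEquiv.symm

theorem nlc_unitary {w : FreeGroup ℕ} (N₀ : ℕ)
    (hN : ∀ (K : Type u) [Field K] [Finite K], N₀ ≤ Nat.card K → NLC w SL(2, K)) {q : ℕ}
    (hq : Fintype.card F = q ^ 2) (hqN : N₀ ≤ q) (n : ℕ) (hn : 2 ≤ n) : NLC w (glU n F q) := by
  have h1 := nlc_unitary2 N₀ hN hq hqN
  refine h1.map (blockPres (finTwoSum n hn) (Cfsg.hermForm 2 F q)
    (fun u v => ∑ b, u b * v b ^ q) (Cfsg.hermForm n F q) ?_) (blockPres_injective _ _ _ _ _)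
  intro u v
  unfold Cfsg.hermForm
  rw [← Equiv.sum_comp (finTwoSum n hn).symm, Fintype.sum_sum_type]

omit [Fintype F] in
theorem permGL_mem_glU (n q : ℕ) (σ : Equiv.Perm (Fin n)) : permGL F σ ∈ glU n F q := by
  intro u v
  show Cfsg.hermForm n F q ((permGL F σ).1 *ᵥ u) ((permGL F σ).1 *ᵥ v) = Cfsg.hermForm n F q u v
  rw [permGL_mulVec, permGL_mulVec]
  unfold Cfsg.hermForm
  exact Equiv.sum_comp (σ⁻¹ : Equiv.Perm (Fin n)) (fun i => u i * v i ^ q)

omit [Fintype F] in
theorem nlc_unitary_perm {w : FreeGroup ℕ} (n q : ℕ) (h : NLC w (Equiv.Perm (Fin n))) :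
    NLC w (glU n F q) :=
  h.map ((permGL F).codRestrict _ (permGL_mem_glU n q))
    (fun g h hgh => permGL_injective F (congrArg Subtype.val hgh))

/-- `SU_n → U_n`. -/
def suToU (n : ℕ) (F : Type*) [Field F] (q : ℕ) : Cfsg.SU n F q →* glU n F q :=
  (Matrix.SpecialLinearGroup.toGL.comp (Cfsg.SU n F q).subtype).codRestrict _ (fun g => g.2)

theorem det_eq_one_of_mem_commutator_law {n : Type} [Fintype n] [DecidableEq n] {F : Type*} [Field F]
    (U : Subgroup (GL n F)) (x : U) (hx : x ∈ commutator U) : (x.1.1 : Matrix n n F).det = 1 := by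
  have h := Abelianization.commutator_subset_ker
    (Matrix.GeneralLinearGroup.det.comp U.subtype) hx
  rw [MonoidHom.mem_ker] at h
  have h2 := congrArg Units.val h
  simpa using h2

omit [Fintype F] in
theorem commutator_le_range_suToU (n q : ℕ) : commutator (glU n F q) ≤ (suToU n F q).range := by
  intro x hx
  have hdet := det_eq_one_of_mem_commutator_law _ x hx
  refine ⟨⟨⟨x.1.1, hdet⟩, x.2⟩, ?_⟩
  apply Subtype.ext
  apply Units.ext
  rfl

end UnitaryEmb

end Cfsg.Agent.H7
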