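import Mathlib
import Cfsg.Prelude.Def_Classical
import Cfsg.Prelude.Def_ClassicalGeometry
import Cfsg.Agent.H7.OrthCard
import Cfsg.Agent.H49.Omega2

set_option autoImplicit false

namespace Cfsg.Agent.H7

open Matrix Cfsg Module

section FixParity

variable {F : Type*} [Field F] {ι : Type} [Fintype ι] [DecidableEq ι]
  (Q : QuadraticForm F (ι → F))

/-- The fixed space of an isometry. -/
def fixSub (g : ↥(isometryGroup F ⇑Q)) : Submodule F (ι → F) :=
  LinearMap.ker (Matrix.mulVecLin ((g : GL ι F) : Matrix ι ι F) - LinearMap.id)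

theorem mem_fixSub (g : ↥(isometryGroup F ⇑Q)) (x : ι → F) :
    x ∈ fixSub Q g ↔ ((g : GL ι F) : Matrix ι ι F) *ᵥ x = x := by
  rw [fixSub, LinearMap.mem_ker, LinearMap.sub_apply, Matrix.mulVecLin_apply, LinearMap.id_apply,
    sub_eq_zero]

theorem fixSub_one : fixSub Q 1 = ⊤ := by
  ext x
  rw [mem_fixSub]
  simp

/-- If `g` fixes a vector not orthogonal to `v`, the fixed space of `r_v g` is the part of the
fixed space of `g` orthogonal to `v`. -/
theorem fixSub_refl_mul (g : ↥(isometryGroup F ⇑Q)) (v : ι → F) (hv : Q v ≠ 0) (x₀ : ι → F)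
    (hx₀ : ((g : GL ι F) : Matrix ι ι F) *ᵥ x₀ = x₀)
    (hvx₀ : QuadraticMap.polar ⇑Q v x₀ ≠ 0) :
    fixSub Q (Cfsg.Agent.H49.reflG Q v * g) =
      fixSub Q g ⊓ LinearMap.ker (QuadraticMap.polarBilin Q v) := by
  ext x
  rw [Submodule.mem_inf, mem_fixSub, mem_fixSub, LinearMap.mem_ker,
    QuadraticMap.polarBilin_apply_apply, Cfsg.Agent.H49.coe_mul_mulVec]
  constructor
  · intro hx
    have h1 : ((g : GL ι F) : Matrix ι ι F) *ᵥ x =
        ((Cfsg.Agent.H49.reflG Q v : GL ι F) : Matrix ι ι F) *ᵥ x := by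
      have h0 := congrArg
        (fun y => ((Cfsg.Agent.H49.reflG Q v : GL ι F) : Matrix ι ι F) *ᵥ y) hx
      beta_reduce at h0
      rw [← Cfsg.Agent.H49.coe_mul_mulVec, Cfsg.Agent.H49.reflG_mul_self] at h0
      simpa using h0
    rw [Cfsg.Agent.H49.reflG_coe, Cfsg.Agent.H49.reflectionMatrix_mulVec] at h1
    have h2 := Cfsg.Agent.H49.isometry_polar Q g x x₀
    rw [h1, hx₀, QuadraticMap.polar_sub_left, QuadraticMap.polar_smul_left] at h2
    have hc : (Q v)⁻¹ * QuadraticMap.polar ⇑Q v x = 0 := by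
      have h3 : ((Q v)⁻¹ * QuadraticMap.polar ⇑Q v x) * QuadraticMap.polar ⇑Q v x₀ = 0 := by
        simp only [smul_eq_mul] at h2
        linear_combination -h2
      exact (mul_eq_zero.mp h3).resolve_right hvx₀
    have hpx : QuadraticMap.polar ⇑Q v x = 0 := (mul_eq_zero.mp hc).resolve_left (inv_ne_zero hv)
    refine ⟨?_, hpx⟩
    rw [h1, hc, zero_smul, sub_zero]
  · rintro ⟨hgx, hpx⟩
    rw [hgx, Cfsg.Agent.H49.reflG_coe, Cfsg.Agent.H49.reflectionMatrix_mulVec, hpx]
    simp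

theorem finrank_fix_refl_mul (g : ↥(isometryGroup F ⇑Q)) (v : ι → F) (hv : Q v ≠ 0)
    (x₀ : ι → F) (hx₀ : ((g : GL ι F) : Matrix ι ι F) *ᵥ x₀ = x₀)
    (hvx₀ : QuadraticMap.polar ⇑Q v x₀ ≠ 0) :
    finrank F (fixSub Q g) = finrank F (fixSub Q (Cfsg.Agent.H49.reflG Q v * g)) + 1 := by
  rw [fixSub_refl_mul Q g v hv x₀ hx₀ hvx₀]
  set W := fixSub Q g with hW
  set K := LinearMap.ker (QuadraticMap.polarBilin Q v) with hK
  have hsup : W ⊔ K = ⊤ := by
    rw [eq_top_iff]
    intro x _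
    have hx : x = (QuadraticMap.polar ⇑Q v x / QuadraticMap.polar ⇑Q v x₀) • x₀ +
        (x - (QuadraticMap.polar ⇑Q v x / QuadraticMap.polar ⇑Q v x₀) • x₀) := by abel
    rw [hx]
    apply Submodule.add_mem_sup
    · exact W.smul_mem _ ((mem_fixSub Q g x₀).mpr hx₀)
    · rw [hK, LinearMap.mem_ker, QuadraticMap.polarBilin_apply_apply, QuadraticMap.polar_sub_right,
        QuadraticMap.polar_smul_right, smul_eq_mul]
      field_simp
      ring
  have hK1 : finrank F K + 1 = finrank F (ι → F) := by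
    have h1 := LinearMap.finrank_range_add_finrank_ker (QuadraticMap.polarBilin Q v)
    have h2 : LinearMap.range (QuadraticMap.polarBilin Q v) = ⊤ := by
      rw [LinearMap.range_eq_top]
      intro t
      refine ⟨(t / QuadraticMap.polar ⇑Q v x₀) • x₀, ?_⟩
      rw [map_smul, QuadraticMap.polarBilin_apply_apply, smul_eq_mul]
      field_simp
    rw [h2, finrank_top, Module.finrank_self, ← hK] at h1
    omega
  have h3 := Submodule.finrank_sup_add_finrank_inf_eq W K
  rw [hsup, finrank_top] at h3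
  omega

/-- If the fixed space of `g` is orthogonal to `v`, then `r_v g` fixes a vector not orthogonal
to `v`. -/
theorem exists_fix_not_perp (hQ : (QuadraticMap.polarBilin Q).Nondegenerate)
    (g : ↥(isometryGroup F ⇑Q)) (v : ι → F) (hv : Q v ≠ 0)
    (hperp : ∀ x, ((g : GL ι F) : Matrix ι ι F) *ᵥ x = x → QuadraticMap.polar ⇑Q v x = 0) :
    ∃ y, ((Cfsg.Agent.H49.reflG Q v * g : ↥(isometryGroup F ⇑Q)) : GL ι F).1 *ᵥ y = y ∧
      QuadraticMap.polar ⇑Q v y ≠ 0 := by
  set A := LinearMap.range (Matrix.mulVecLin ((g : GL ι F) : Matrix ι ι F) - LinearMap.id)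
    with hA
  have hAle : LinearMap.BilinForm.orthogonal (QuadraticMap.polarBilin Q) A ≤ fixSub Q g := by
    intro m hm
    rw [LinearMap.BilinForm.mem_orthogonal_iff] at hm
    rw [mem_fixSub]
    have h1 : ∀ x, QuadraticMap.polar ⇑Q x
        (((g⁻¹ : ↥(isometryGroup F ⇑Q)) : GL ι F).1 *ᵥ m - m) = 0 := by
      intro x
      have h0 := hm (((g : GL ι F) : Matrix ι ι F) *ᵥ x - x) ⟨x, by
        simp [Matrix.mulVecLin_apply]⟩
      change QuadraticMap.polar ⇑Q (((g : GL ι F) : Matrix ι ι F) *ᵥ x - x) m = 0 at h0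
      rw [QuadraticMap.polar_sub_left] at h0
      have e : QuadraticMap.polar ⇑Q (((g : GL ι F) : Matrix ι ι F) *ᵥ x) m =
          QuadraticMap.polar ⇑Q x (((g⁻¹ : ↥(isometryGroup F ⇑Q)) : GL ι F).1 *ᵥ m) := by
        conv_lhs => rw [← Cfsg.Agent.H49.coe_mulVec_inv_cancel g m]
        rw [Cfsg.Agent.H49.isometry_polar]
      rw [QuadraticMap.polar_sub_right, ← e]
      exact h0
    have h2 : ((g⁻¹ : ↥(isometryGroup F ⇑Q)) : GL ι F).1 *ᵥ m - m = 0 :=
      hQ.2 _ (fun x => h1 x)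
    have h3 := congrArg (fun y => ((g : GL ι F) : Matrix ι ι F) *ᵥ y) (sub_eq_zero.mp h2)
    beta_reduce at h3
    rw [Cfsg.Agent.H49.coe_mulVec_inv_cancel] at h3
    exact h3.symm
  have hv_mem : v ∈ A := by
    rw [← LinearMap.BilinForm.orthogonal_orthogonal hQ (Cfsg.Agent.H49.polarBilin_isRefl Q) A]
    apply LinearMap.BilinForm.orthogonal_le hAle
    rw [LinearMap.BilinForm.mem_orthogonal_iff]
    intro n hn
    show QuadraticMap.polar ⇑Q n v = 0
    rw [QuadraticMap.polar_comm]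
    exact hperp n ((mem_fixSub Q g n).mp hn)
  obtain ⟨y, hy⟩ := hv_mem
  have hy' : ((g : GL ι F) : Matrix ι ι F) *ᵥ y = y + v := by
    simp only [LinearMap.sub_apply, Matrix.mulVecLin_apply, LinearMap.id_apply] at hy
    rw [← hy]
    abel
  have hQy := Cfsg.Agent.H49.isometry_apply g y
  rw [hy', qf_add] at hQy
  have hpol : QuadraticMap.polar ⇑Q v y = -Q v := by
    rw [QuadraticMap.polar_comm]
    linear_combination hQy
  refine ⟨y, ?_, ?_⟩
  · rw [Cfsg.Agent.H49.coe_mul_mulVec, hy', Cfsg.Agent.H49.reflG_coe,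
      Cfsg.Agent.H49.reflectionMatrix_mulVec, QuadraticMap.polar_add_right, hpol,
      Cfsg.Agent.H49.polar_self']
    have h1 : (Q v)⁻¹ * (-Q v + 2 * Q v) = 1 := by
      field_simp
      ring
    rw [h1, one_smul]
    abel
  · rw [hpol]
    exact neg_ne_zero.mpr hv

/-- Multiplying by a reflection changes the parity of the dimension of the fixed space. -/
theorem fix_parity_flip (hQ : (QuadraticMap.polarBilin Q).Nondegenerate)
    (g : ↥(isometryGroup F ⇑Q)) (v : ι → F) (hv : Q v ≠ 0) :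
    Even (finrank F (fixSub Q (Cfsg.Agent.H49.reflG Q v * g))) ↔
      ¬ Even (finrank F (fixSub Q g)) := by
  by_cases hc : ∃ x₀, ((g : GL ι F) : Matrix ι ι F) *ᵥ x₀ = x₀ ∧
      QuadraticMap.polar ⇑Q v x₀ ≠ 0
  · obtain ⟨x₀, hx₀, hvx₀⟩ := hc
    have h1 := finrank_fix_refl_mul Q g v hv x₀ hx₀ hvx₀
    rw [h1, Nat.even_add_one, not_not]
  · push Not at hc
    obtain ⟨y, hy, hvy⟩ := exists_fix_not_perp Q hQ g v hv hc
    have h1 := finrank_fix_refl_mul Q (Cfsg.Agent.H49.reflG Q v * g) v hv y hy hvy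
    rw [← mul_assoc, Cfsg.Agent.H49.reflG_mul_self, one_mul] at h1
    rw [h1, Nat.even_add_one]

/-- Products of an even number of reflections have fixed spaces of the parity of the
dimension. -/
theorem even_fix_of_mem_evenSub (hQ : (QuadraticMap.polarBilin Q).Nondegenerate)
    (g : ↥(isometryGroup F ⇑Q))
    (hg : g ∈ Cfsg.Agent.H49.evenSub (Cfsg.Agent.H49.reflSet Q)) :
    Even (finrank F (fixSub Q g)) ↔ Even (finrank F (ι → F)) := by
  have key : ∀ g ∈ Cfsg.Agent.H49.evenSub (Cfsg.Agent.H49.reflSet Q),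
      ∀ h : ↥(isometryGroup F ⇑Q),
      (Even (finrank F (fixSub Q (g * h))) ↔ Even (finrank F (fixSub Q h))) := by
    intro g hg
    unfold Cfsg.Agent.H49.evenSub at hg
    induction hg using Subgroup.closure_induction with
    | mem x hx =>
      obtain ⟨s, ⟨u, hu, rfl⟩, t, ⟨w, hw, rfl⟩, rfl⟩ := hx
      intro h
      rw [mul_assoc, fix_parity_flip Q hQ _ u hu, fix_parity_flip Q hQ _ w hw, not_not]
    | one =>
      intro h
      rw [one_mul]
    | mul x y _ _ hx hy =>
      intro h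
      rw [mul_assoc, hx, hy]
    | inv x _ hx =>
      intro h
      have h1 := hx (x⁻¹ * h)
      rw [mul_inv_cancel_left] at h1
      exact h1.symm
  have h1 := key g hg 1
  rw [mul_one, fixSub_one, finrank_top] at h1
  exact h1

theorem reflG_not_mem_evenSub (hQ : (QuadraticMap.polarBilin Q).Nondegenerate)
    (v : ι → F) (hv : Q v ≠ 0) :
    Cfsg.Agent.H49.reflG Q v ∉ Cfsg.Agent.H49.evenSub (Cfsg.Agent.H49.reflSet Q) := by
  intro hmem
  have h1 := even_fix_of_mem_evenSub Q hQ _ hmem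
  have h2 := fix_parity_flip Q hQ 1 v hv
  rw [mul_one, fixSub_one, finrank_top] at h2
  tauto

/-- In characteristic two, `Ω(Q)` has index two in the orthogonal group. -/
theorem index_commutator_char_two [Fintype F] (h2 : (2 : F) = 0)
    (hQ : (QuadraticMap.polarBilin Q).Nondegenerate) {m : ℕ}
    (hV : finrank F (ι → F) = 2 * m) (hex : Fintype.card F ≠ 2 ∨ m ≠ 2)
    (v : ι → F) (hv : Q v ≠ 0) :
    (commutator ↥(isometryGroup F ⇑Q)).index = 2 := by
  have hcomm := Cfsg.Agent.H49.commutator_eq_evenSub_two Q h2 hQ hV hex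
  have hr : Cfsg.Agent.H49.reflG Q v ∉ commutator ↥(isometryGroup F ⇑Q) := by
    rw [hcomm]
    exact reflG_not_mem_evenSub Q hQ v hv
  have hn : (commutator ↥(isometryGroup F ⇑Q)).Normal := inferInstance
  rw [Subgroup.index_eq_two_iff]
  refine ⟨Cfsg.Agent.H49.reflG Q v, fun b => ?_⟩
  rcases Cfsg.Agent.H49.mem_commutator_or_two Q h2 hQ hV hex b with hb | hb
  · right
    refine ⟨hb, fun hbr => hr ?_⟩
    have h3 := Subgroup.mul_mem _ (Subgroup.inv_mem _ hb) hbr
    simpa using h3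
  · left
    have h1 := hb (Cfsg.Agent.H49.reflG Q v) ⟨v, hv, rfl⟩
    have h3 : b * Cfsg.Agent.H49.reflG Q v ∈ commutator ↥(isometryGroup F ⇑Q) := by
      have h4 := hn.conj_mem _ h1 (Cfsg.Agent.H49.reflG Q v)⁻¹
      simpa [mul_assoc] using h4
    refine ⟨h3, fun hb' => hr ?_⟩
    have h5 := Subgroup.mul_mem _ (Subgroup.inv_mem _ hb') h3
    simpa using h5

end FixParity

end Cfsg.Agent.H7
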