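import Mathlib

set_option autoImplicit false

namespace Cfsg.Agent.H7

section Quat

variable {G : Type*} [Group G]

/-- The map `i ↦ c ^ i` for `i : ZMod N`. -/
def zpowVal (N : ℕ) (c : G) (i : ZMod N) : G := c ^ i.val

theorem zpowVal_add {N : ℕ} [NeZero N] (c : G) (hc : c ^ N = 1) (i j : ZMod N) :
    zpowVal N c (i + j) = zpowVal N c i * zpowVal N c j := by
  unfold zpowVal
  rw [ZMod.val_add, ← pow_eq_pow_mod _ hc, pow_add]

theorem zpowVal_zero {N : ℕ} [NeZero N] (c : G) : zpowVal N c 0 = 1 := by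
  unfold zpowVal
  rw [ZMod.val_zero, pow_zero]

theorem zpowVal_neg {N : ℕ} [NeZero N] (c : G) (hc : c ^ N = 1) (i : ZMod N) :
    zpowVal N c (-i) = (zpowVal N c i)⁻¹ := by
  apply eq_inv_of_mul_eq_one_left
  rw [← zpowVal_add c hc, neg_add_cancel, zpowVal_zero]

theorem zpowVal_comm {N : ℕ} (c : G) (i j : ZMod N) :
    zpowVal N c i * zpowVal N c j = zpowVal N c j * zpowVal N c i := by
  unfold zpowVal
  rw [← pow_add, ← pow_add, add_comm]

theorem zpowVal_conj {N : ℕ} (c w : G) (hcw : c * w = w * c⁻¹) (i : ZMod N) :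
    zpowVal N c i * w = w * (zpowVal N c i)⁻¹ := by
  unfold zpowVal
  induction i.val with
  | zero => simp
  | succ k ih =>
    rw [pow_succ, mul_assoc, hcw, ← mul_assoc, ih, mul_assoc, ← mul_inv_rev, ← pow_succ',
      ← pow_succ]

/-- A pair `c, w` satisfying the quaternion relations gives an injective homomorphism from the
generalised quaternion group. -/
theorem exists_quaternion_hom (n : ℕ) (hn : 2 ≤ n) (c w : G) (hc : orderOf c = 2 * n)
    (hw : w * w = c ^ n) (hcw : c * w = w * c⁻¹) :
    ∃ φ : QuaternionGroup n →* G, Function.Injective φ := by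
  have : NeZero (2 * n) := ⟨by omega⟩
  have hcN : c ^ (2 * n) = 1 := by rw [← hc]; exact pow_orderOf_eq_one c
  have hEn : zpowVal (2 * n) c (n : ZMod (2 * n)) = c ^ n := by
    unfold zpowVal
    rw [ZMod.val_natCast, Nat.mod_eq_of_lt (by omega)]
  let f : QuaternionGroup n → G := fun x =>
    match x with
    | QuaternionGroup.a i => zpowVal (2 * n) c i
    | QuaternionGroup.xa i => w * zpowVal (2 * n) c i
  have hf_mul : ∀ x y, f (x * y) = f x * f y := by
    rintro (i | i) (j | j)
    · show zpowVal (2 * n) c (i + j) = zpowVal (2 * n) c i * zpowVal (2 * n) c j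
      exact zpowVal_add c hcN i j
    · show w * zpowVal (2 * n) c (j - i) = zpowVal (2 * n) c i * (w * zpowVal (2 * n) c j)
      rw [← mul_assoc, zpowVal_conj c w hcw, mul_assoc, sub_eq_neg_add, zpowVal_add c hcN,
        zpowVal_neg c hcN]
    · show w * zpowVal (2 * n) c (i + j) = w * zpowVal (2 * n) c i * zpowVal (2 * n) c j
      rw [zpowVal_add c hcN, mul_assoc]
    · show zpowVal (2 * n) c ((n : ZMod (2 * n)) + j - i) =
        w * zpowVal (2 * n) c i * (w * zpowVal (2 * n) c j)
      rw [mul_assoc, ← mul_assoc (zpowVal (2 * n) c i), zpowVal_conj c w hcw, mul_assoc,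
        ← mul_assoc w w, hw, add_sub_assoc, zpowVal_add c hcN, sub_eq_neg_add, zpowVal_add c hcN,
        zpowVal_neg c hcN, hEn]
  let φ : QuaternionGroup n →* G :=
    { toFun := f
      map_one' := by
        show zpowVal (2 * n) c 0 = 1
        exact zpowVal_zero c
      map_mul' := hf_mul }
  refine ⟨φ, ?_⟩
  rw [injective_iff_map_eq_one]
  rintro (i | i) hi
  · have h1 : c ^ i.val = 1 := hi
    have h2 : orderOf c ∣ i.val := orderOf_dvd_of_pow_eq_one h1
    rw [hc] at h2
    have h3 : i.val < 2 * n := ZMod.val_lt i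
    have h4 : i.val = 0 := Nat.eq_zero_of_dvd_of_lt h2 h3
    have h5 : i = 0 := (ZMod.val_eq_zero i).mp h4
    rw [h5]
    rfl
  · exfalso
    have h1 : w * c ^ i.val = 1 := hi
    have h2 : w = (c ^ i.val)⁻¹ := eq_inv_of_mul_eq_one_left h1
    have h3 : c * w = w * c := by
      rw [h2]
      exact ((Commute.refl c).pow_right _).inv_right.eq
    rw [hcw] at h3
    have h4 : c⁻¹ = c := mul_left_cancel h3
    have h5 : c ^ 2 = 1 := by
      rw [pow_two]
      nth_rewrite 1 [← h4]
      exact inv_mul_cancel c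
    have h6 : orderOf c ∣ 2 := orderOf_dvd_of_pow_eq_one h5
    rw [hc] at h6
    have := Nat.le_of_dvd (by norm_num) h6
    omega

end Quat

end Cfsg.Agent.H7
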