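import Mathlib
import Cfsg.Prelude.Def_Classical
import Cfsg.Prelude.Def_ClassicalGeometry
import Cfsg.Agent.H7.OmegaCenter
import Cfsg.Agent.H49.ClassTwo

set_option autoImplicit false

namespace Cfsg.Agent.H7

open Matrix Cfsg Module

theorem exists_third {m : ℕ} (hm : 3 ≤ m) (j k : Fin m) : ∃ k' : Fin m, k' ≠ j ∧ k' ≠ k := by
  have h : ∃ n : ℕ, n < 3 ∧ n ≠ j.val ∧ n ≠ k.val := by
    by_cases h0 : 0 ≠ j.val ∧ 0 ≠ k.val
    · exact ⟨0, by omega, h0⟩
    · by_cases h1 : 1 ≠ j.val ∧ 1 ≠ k.val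
      · exact ⟨1, by omega, h1⟩
      · exact ⟨2, by omega, by omega, by omega⟩
  obtain ⟨n, hn, hnj, hnk⟩ := h
  exact ⟨⟨n, by omega⟩, fun h => hnj (congrArg Fin.val h), fun h => hnk (congrArg Fin.val h)⟩

section PlusCenter

variable {F : Type*} [Field F] (m : ℕ)

/-- The hyperbolic vector `e_i + f_i` of the plus-type form. -/
def hypP (i : Fin m) : Fin m ⊕ Fin m → F :=
  Pi.single (Sum.inl i) 1 + Pi.single (Sum.inr i) 1

theorem QP_single (k : Fin m ⊕ Fin m) :
    Cfsg.Agent.H49.QP m F (Pi.single k 1) = 0 := by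
  rw [Cfsg.Agent.H49.QP_apply]
  rcases k with i | i <;> simp [Pi.single_apply]

theorem polar_QP_hypP (i : Fin m) (y : Fin m ⊕ Fin m → F) :
    QuadraticMap.polar ⇑(Cfsg.Agent.H49.QP m F) (hypP m i) y = y (Sum.inr i) + y (Sum.inl i) := by
  rw [hypP, QuadraticMap.polar_add_left, Cfsg.Agent.H49.polar_QP_single_inl,
    Cfsg.Agent.H49.polar_QP_single_inr]

theorem QP_hypP (i : Fin m) : Cfsg.Agent.H49.QP m F (hypP m i) = 1 := by
  rw [hypP, qf_add, QP_single, QP_single, Cfsg.Agent.H49.polar_QP_single_inl]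
  simp

/-- An isometry of the plus-type form centralising `Ω` is `± 1` (all characteristics), given that
`Ω` contains the products of two reflections of norm one and the orthogonal group is transitive
on vectors of norm one. -/
theorem cent_QP_scalar (hm : 3 ≤ m) (z : ↥(isometryGroup F ⇑(Cfsg.Agent.H49.QP m F)))
    (hz : CentOmega (Cfsg.Agent.H49.QP m F) z)
    (hrr : ∀ u w : Fin m ⊕ Fin m → F, Cfsg.Agent.H49.QP m F u = 1 →
      Cfsg.Agent.H49.QP m F w = 1 →
      Cfsg.Agent.H49.reflG (Cfsg.Agent.H49.QP m F) u *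
        Cfsg.Agent.H49.reflG (Cfsg.Agent.H49.QP m F) w ∈
        commutator ↥(isometryGroup F ⇑(Cfsg.Agent.H49.QP m F)))
    (htr : ∀ u u' : Fin m ⊕ Fin m → F, Cfsg.Agent.H49.QP m F u = 1 →
      Cfsg.Agent.H49.QP m F u' = 1 →
      ∃ g : ↥(isometryGroup F ⇑(Cfsg.Agent.H49.QP m F)),
        ((g : GL (Fin m ⊕ Fin m) F) : Matrix (Fin m ⊕ Fin m) (Fin m ⊕ Fin m) F) *ᵥ u = u') :
    ∃ c : F, ((z : GL (Fin m ⊕ Fin m) F) : Matrix (Fin m ⊕ Fin m) (Fin m ⊕ Fin m) F) = c • 1 ∧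
      c * c = 1 := by
  set k0 : Fin m := ⟨0, by omega⟩ with hk0
  set k1 : Fin m := ⟨1, by omega⟩ with hk1
  set k2 : Fin m := ⟨2, by omega⟩ with hk2
  have h01 : k0 ≠ k1 := fun h => by simpa [hk0, hk1] using congrArg Fin.val h
  have h02 : k0 ≠ k2 := fun h => by simpa [hk0, hk2] using congrArg Fin.val h
  have h12 : k1 ≠ k2 := fun h => by simpa [hk1, hk2] using congrArg Fin.val h
  have hS : ∀ u : Fin m ⊕ Fin m → F, Cfsg.Agent.H49.QP m F u = 1 →
      ∃ α : F, ((z : GL (Fin m ⊕ Fin m) F) : Matrix (Fin m ⊕ Fin m) (Fin m ⊕ Fin m) F) *ᵥ u =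
        α • u := by
    intro u hu
    obtain ⟨g, hg⟩ := htr (hypP m k0) u (QP_hypP m k0) hu
    exact cent_eigen_orbit' (Cfsg.Agent.H49.QP m F) z hz (hypP m k0) (hypP m k1) (hypP m k2)
      (Pi.single (Sum.inl k0) 1)
      (by rw [QP_hypP]; exact one_ne_zero)
      (hrr _ _ (QP_hypP m k0) (QP_hypP m k1)) (hrr _ _ (QP_hypP m k0) (QP_hypP m k2))
      (by rw [polar_QP_hypP]; simp [hypP, Pi.single_apply, h01])
      (by rw [polar_QP_hypP]; simp [hypP, Pi.single_apply, h02])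
      (by rw [polar_QP_hypP]; simp [Pi.single_apply, h01])
      (by rw [polar_QP_hypP]; simp [Pi.single_apply, h02])
      (by rw [polar_QP_hypP]; simp)
      (Sum.inl k1) (by simp [hypP, Pi.single_apply, h01]) (by simp [hypP, Pi.single_apply, h12])
      (by simp [hypP])
      u g hg
  choose cf hcf using fun k : Fin m => hS (hypP m k) (QP_hypP m k)
  have hbasis : ∀ (j k : Fin m), k ≠ j → ∀ s : Fin m ⊕ Fin m → F,
      (s = Pi.single (Sum.inl j) 1 ∨ s = Pi.single (Sum.inr j) 1) →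
      ((z : GL (Fin m ⊕ Fin m) F) : Matrix (Fin m ⊕ Fin m) (Fin m ⊕ Fin m) F) *ᵥ s =
        cf k • s := by
    intro j k hkj s hs
    obtain ⟨k', hk'j, hk'k⟩ := exists_third hm j k
    have hQs : Cfsg.Agent.H49.QP m F s = 0 := by
      rcases hs with rfl | rfl <;> exact QP_single m _
    have hps : ∀ l : Fin m, l ≠ j →
        QuadraticMap.polar ⇑(Cfsg.Agent.H49.QP m F) (hypP m l) s = 0 := by
      intro l hl
      rw [polar_QP_hypP]
      rcases hs with rfl | rfl <;> simp [Pi.single_apply, hl]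
    obtain ⟨μ, hμ⟩ := hS (hypP m k + s) (by rw [qf_add, QP_hypP, hQs, hps k hkj]; ring)
    obtain ⟨μ', hμ'⟩ := hS (hypP m k' + s) (by rw [qf_add, QP_hypP, hQs, hps k' hk'j]; ring)
    exact eigen_of_four _ (hypP m k) (hypP m k') s (cf k) (cf k') μ μ' (Sum.inl k)
      (by simp [hypP]) (by simp [hypP, Pi.single_apply, hk'k])
      (by rcases hs with rfl | rfl <;> simp [Pi.single_apply, hkj])
      (hcf k) hμ (hcf k') hμ'
  have hc1 : cf k1 = cf k0 := by
    have e1 := hcf k1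
    rw [hypP, Matrix.mulVec_add, hbasis k1 k0 h01 _ (Or.inl rfl),
      hbasis k1 k0 h01 _ (Or.inr rfl)] at e1
    have e2 := congrFun e1 (Sum.inl k1)
    simp [Pi.single_apply] at e2
    exact e2.symm
  refine ⟨cf k0, eq_smul_one_of_single _ _ ?_, ?_⟩
  · rintro (j | j)
    · by_cases hj : k0 = j
      · rw [← hc1]
        exact hbasis j k1 (hj ▸ h01.symm) _ (Or.inl rfl)
      · exact hbasis j k0 hj _ (Or.inl rfl)
    · by_cases hj : k0 = j
      · rw [← hc1]
        exact hbasis j k1 (hj ▸ h01.symm) _ (Or.inr rfl)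
      · exact hbasis j k0 hj _ (Or.inr rfl)
  · have h1 := Cfsg.Agent.H49.isometry_apply z (hypP m k0)
    rw [hcf k0, QuadraticMap.map_smul, QP_hypP] at h1
    simpa using h1

end PlusCenter

end Cfsg.Agent.H7
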