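import Mathlib
import Cfsg.Prelude.Def_Classical
import Cfsg.Prelude.Def_ClassicalGeometry
import Cfsg.Agent.H7.OmegaCenter
import Cfsg.Agent.H7.OmegaPlus
import Cfsg.Agent.H7.OmegaTwo
import Cfsg.Agent.H7.PSL2
import Cfsg.Agent.S0264
import Cfsg.Agent.S0287

set_option autoImplicit false

namespace Cfsg.Agent.H7

open Matrix Cfsg

open scoped MatrixGroups

section Omega4

variable {F : Type*} [Field F]

/-- The `2 × 2` matrix attached to a vector of the plus-type space of dimension four. -/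
def phiM : (Fin 2 ⊕ Fin 2 → F) →ₗ[F] Matrix (Fin 2) (Fin 2) F where
  toFun v := !![v (Sum.inl 0), v (Sum.inl 1); -v (Sum.inr 1), v (Sum.inr 0)]
  map_add' := by
    intro x y
    ext i j
    fin_cases i <;> fin_cases j <;> simp [add_comm]
  map_smul' := by
    intro c x
    ext i j
    fin_cases i <;> fin_cases j <;> simp

/-- The coordinates of a `2 × 2` matrix. -/
def psiM : Matrix (Fin 2) (Fin 2) F →ₗ[F] (Fin 2 ⊕ Fin 2 → F) where
  toFun X := Sum.elim ![X 0 0, X 0 1] ![X 1 1, -X 1 0]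
  map_add' := by
    intro X Y
    funext i
    rcases i with i | i <;> fin_cases i <;> simp [add_comm]
  map_smul' := by
    intro c X
    funext i
    rcases i with i | i <;> fin_cases i <;> simp

theorem phiM_apply (v : Fin 2 ⊕ Fin 2 → F) :
    phiM v = !![v (Sum.inl 0), v (Sum.inl 1); -v (Sum.inr 1), v (Sum.inr 0)] := rfl

theorem psiM_apply (X : Matrix (Fin 2) (Fin 2) F) :
    psiM X = Sum.elim ![X 0 0, X 0 1] ![X 1 1, -X 1 0] := rfl

theorem psiM_phiM (v : Fin 2 ⊕ Fin 2 → F) : psiM (phiM v) = v := by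
  funext i
  rcases i with i | i <;> fin_cases i <;> simp [phiM_apply, psiM_apply]

theorem phiM_psiM (X : Matrix (Fin 2) (Fin 2) F) : phiM (psiM X) = X := by
  ext i j
  fin_cases i <;> fin_cases j <;> simp [phiM_apply, psiM_apply]

theorem det_phiM (v : Fin 2 ⊕ Fin 2 → F) : (phiM v).det = quadFormPlus 2 F v := by
  rw [phiM_apply, Matrix.det_fin_two_of]
  simp [quadFormPlus, Fin.sum_univ_two]

/-- The action of `GL₂ × GL₂` on `2 × 2` matrices by `X ↦ g X h⁻¹`, in coordinates. -/
def actM (p : GL (Fin 2) F × GL (Fin 2) F) :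
    (Fin 2 ⊕ Fin 2 → F) →ₗ[F] (Fin 2 ⊕ Fin 2 → F) :=
  psiM.comp ((LinearMap.mulLeft F (p.1 : Matrix (Fin 2) (Fin 2) F)).comp
    ((LinearMap.mulRight F ((p.2⁻¹ : GL (Fin 2) F) : Matrix (Fin 2) (Fin 2) F)).comp phiM))

theorem actM_apply (p : GL (Fin 2) F × GL (Fin 2) F) (v : Fin 2 ⊕ Fin 2 → F) :
    actM p v = psiM ((p.1 : Matrix (Fin 2) (Fin 2) F) * phiM v *
      ((p.2⁻¹ : GL (Fin 2) F) : Matrix (Fin 2) (Fin 2) F)) := by
  simp [actM, mul_assoc]

theorem phiM_actM (p : GL (Fin 2) F × GL (Fin 2) F) (v : Fin 2 ⊕ Fin 2 → F) :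
    phiM (actM p v) = (p.1 : Matrix (Fin 2) (Fin 2) F) * phiM v *
      ((p.2⁻¹ : GL (Fin 2) F) : Matrix (Fin 2) (Fin 2) F) := by
  rw [actM_apply, phiM_psiM]

/-- The action as a monoid homomorphism into the endomorphisms. -/
def actHom : GL (Fin 2) F × GL (Fin 2) F →* Module.End F (Fin 2 ⊕ Fin 2 → F) where
  toFun := actM
  map_one' := by
    apply LinearMap.ext
    intro v
    rw [actM_apply]
    simp [psiM_phiM]
  map_mul' := by
    intro g h
    apply LinearMap.ext
    intro v
    rw [Module.End.mul_apply, actM_apply, actM_apply, phiM_actM, Prod.fst_mul, Prod.snd_mul,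
      _root_.mul_inv_rev, Units.val_mul, Units.val_mul]
    simp only [mul_assoc]

/-- The action as a homomorphism `GL₂(F) × GL₂(F) → GL₄(F)`. -/
noncomputable def rho4GL : GL (Fin 2) F × GL (Fin 2) F →* GL (Fin 2 ⊕ Fin 2) F :=
  ((LinearMap.toMatrixAlgEquiv' (R := F)
    (n := Fin 2 ⊕ Fin 2)).toRingEquiv.toMulEquiv.toMonoidHom.comp actHom).toHomUnits

theorem rho4GL_mulVec (p : GL (Fin 2) F × GL (Fin 2) F) (v : Fin 2 ⊕ Fin 2 → F) :
    ((rho4GL p : GL (Fin 2 ⊕ Fin 2) F) :
      Matrix (Fin 2 ⊕ Fin 2) (Fin 2 ⊕ Fin 2) F) *ᵥ v = actM p v := by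
  show LinearMap.toMatrix' (actM p) *ᵥ v = actM p v
  rw [LinearMap.toMatrix'_mulVec]

theorem rho4GL_mem (p : GL (Fin 2) F × GL (Fin 2) F)
    (h : (p.1 : Matrix (Fin 2) (Fin 2) F).det = (p.2 : Matrix (Fin 2) (Fin 2) F).det) :
    rho4GL p ∈ isometryGroup F (quadFormPlus 2 F) := by
  rw [Cfsg.Agent.H49.mem_isometryGroup_iff]
  intro v
  rw [rho4GL_mulVec, ← det_phiM, ← det_phiM, phiM_actM, Matrix.det_mul, Matrix.det_mul, h,
    mul_right_comm, ← Matrix.det_mul, ← Units.val_mul, mul_inv_cancel]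
  simp

/-- The diagonal matrix `diag(u, 1)`. -/
def diagU : Fˣ →* GL (Fin 2) F where
  toFun u := ⟨Matrix.diagonal ![(u : F), 1], Matrix.diagonal ![((u⁻¹ : Fˣ) : F), 1],
    by ext i j; fin_cases i <;> fin_cases j <;> simp,
    by ext i j; fin_cases i <;> fin_cases j <;> simp⟩
  map_one' := by
    apply Units.ext
    ext i j
    fin_cases i <;> fin_cases j <;> simp
  map_mul' := by
    intro a b
    apply Units.ext
    ext i j
    fin_cases i <;> fin_cases j <;> simp

theorem det_diagU (u : Fˣ) : ((diagU u : GL (Fin 2) F) : Matrix (Fin 2) (Fin 2) F).det = u := by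
  simp [diagU, Matrix.det_diagonal, Fin.prod_univ_two]

/-- `a ↦ (a, diag(det a, 1))`. -/
noncomputable def tauL : GL (Fin 2) F →* GL (Fin 2) F × GL (Fin 2) F :=
  (MonoidHom.id _).prod (diagU.comp Matrix.GeneralLinearGroup.det)

/-- `a ↦ (diag(det a, 1), a)`. -/
noncomputable def tauR : GL (Fin 2) F →* GL (Fin 2) F × GL (Fin 2) F :=
  (diagU.comp Matrix.GeneralLinearGroup.det).prod (MonoidHom.id _)

/-- Left multiplication, corrected by a diagonal matrix, as a homomorphism into `O⁺₄`. -/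
noncomputable def rhoL : GL (Fin 2) F →* ↥(isometryGroup F (quadFormPlus 2 F)) :=
  (rho4GL.comp tauL).codRestrict _ (fun a => rho4GL_mem _ (by
    simp [tauL, det_diagU]))

/-- Right multiplication, corrected by a diagonal matrix, as a homomorphism into `O⁺₄`. -/
noncomputable def rhoR : GL (Fin 2) F →* ↥(isometryGroup F (quadFormPlus 2 F)) :=
  (rho4GL.comp tauR).codRestrict _ (fun a => rho4GL_mem _ (by
    simp [tauR, det_diagU]))

/-- The action of `SL₂ × SL₂` as a homomorphism into `O⁺₄`. -/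
noncomputable def rhoS : SL(2, F) × SL(2, F) →* ↥(isometryGroup F (quadFormPlus 2 F)) :=
  (rho4GL.comp (Matrix.SpecialLinearGroup.toGL.prodMap
    Matrix.SpecialLinearGroup.toGL)).codRestrict _ (fun p => rho4GL_mem _ (by
      simp))

theorem diagU_det_toGL (s : SL(2, F)) :
    diagU (Matrix.GeneralLinearGroup.det (Matrix.SpecialLinearGroup.toGL s)) = 1 := by
  have : Matrix.GeneralLinearGroup.det (Matrix.SpecialLinearGroup.toGL s) = 1 := by
    apply Units.ext
    simp
  rw [this, map_one]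

theorem rhoS_eq (p : SL(2, F) × SL(2, F)) :
    rhoS p = rhoL (Matrix.SpecialLinearGroup.toGL p.1) *
      rhoR (Matrix.SpecialLinearGroup.toGL p.2) := by
  apply Subtype.ext
  show rho4GL (Matrix.SpecialLinearGroup.toGL p.1, Matrix.SpecialLinearGroup.toGL p.2) =
    rho4GL (tauL (Matrix.SpecialLinearGroup.toGL p.1)) *
      rho4GL (tauR (Matrix.SpecialLinearGroup.toGL p.2))
  rw [← map_mul]
  congr 1
  simp [tauL, tauR]

/-- The action of `SL₂(F) × SL₂(F)` lands in `Ω⁺₄(F)`. -/
noncomputable def sigma4 (hF : ∃ a : F, a ≠ 0 ∧ a ≠ 1) :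
    SL(2, F) × SL(2, F) →* ↥(Omega F (quadFormPlus 2 F)) :=
  rhoS.codRestrict _ (fun p => by
    rw [rhoS_eq]
    have hmem : ∀ (r : GL (Fin 2) F →* ↥(isometryGroup F (quadFormPlus 2 F))) (s : SL(2, F)),
        r (Matrix.SpecialLinearGroup.toGL s) ∈ commutator ↥(isometryGroup F (quadFormPlus 2 F)) := by
      intro r s
      apply Cfsg.Agent.H49.map_mem_commutator r
      rw [Cfsg.Agent.S0264.result 2 (fun _ => hF), ← range_toGL_eq_ker_det]
      exact ⟨s, rfl⟩
    exact Subgroup.mul_mem _ (hmem rhoL p.1) (hmem rhoR p.2))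

theorem sigma4_mulVec (hF : ∃ a : F, a ≠ 0 ∧ a ≠ 1) (p : SL(2, F) × SL(2, F))
    (v : Fin 2 ⊕ Fin 2 → F) :
    (((sigma4 hF p : ↥(isometryGroup F (quadFormPlus 2 F))) :
      GL (Fin 2 ⊕ Fin 2) F) :
      Matrix (Fin 2 ⊕ Fin 2) (Fin 2 ⊕ Fin 2) F) *ᵥ v =
      psiM (p.1.1 * phiM v * (p.2⁻¹).1) := by
  have h := rho4GL_mulVec (Matrix.SpecialLinearGroup.toGL p.1, Matrix.SpecialLinearGroup.toGL p.2) v
  rw [actM_apply] at h
  rw [← map_inv] at h
  exact h

theorem sigma4_ker (hF : ∃ a : F, a ≠ 0 ∧ a ≠ 1) (p : SL(2, F) × SL(2, F)) :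
    p ∈ (sigma4 hF).ker ↔ p.1 = p.2 ∧ p.1 ∈ Subgroup.center SL(2, F) := by
  rw [MonoidHom.mem_ker]
  constructor
  · intro h
    have hv : ∀ X : Matrix (Fin 2) (Fin 2) F, p.1.1 * X * (p.2⁻¹).1 = X := by
      intro X
      have h1 := sigma4_mulVec hF p (psiM X)
      rw [h, phiM_psiM] at h1
      have h2 := congrArg phiM h1
      rw [phiM_psiM] at h2
      rw [← h2]
      simp [phiM_psiM]
    have h12 : p.1 = p.2 := by
      have h1 := hv 1
      rw [mul_one, ← Matrix.SpecialLinearGroup.coe_mul] at h1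
      have h2 : p.1 * p.2⁻¹ = 1 := Subtype.ext h1
      exact mul_inv_eq_one.mp h2
    refine ⟨h12, ?_⟩
    have hc : ∀ X : Matrix (Fin 2) (Fin 2) F, p.1.1 * X = X * p.1.1 := by
      intro X
      have h1 := hv X
      rw [← h12] at h1
      have h3 := congrArg (fun Y => Y * p.1.1) h1
      beta_reduce at h3
      rw [mul_assoc, ← Matrix.SpecialLinearGroup.coe_mul, inv_mul_cancel,
        Matrix.SpecialLinearGroup.coe_one, mul_one] at h3
      exact h3
    rw [sl2_mem_center_iff]
    have h1 := hc !![0, 1; 0, 0]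
    have h2 := hc !![0, 0; 1, 0]
    have e1 := congrFun (congrFun h1 0) 0
    have e2 := congrFun (congrFun h1 0) 1
    have e3 := congrFun (congrFun h2 0) 0
    simp [Matrix.mul_apply, Fin.sum_univ_two] at e1 e2 e3
    exact ⟨e3, e1.symm, e2⟩
  · rintro ⟨h12, hc⟩
    rw [sl2_mem_center_iff] at hc
    obtain ⟨h01, h10, h00⟩ := hc
    apply Subtype.ext
    apply Cfsg.Agent.H49.isometry_ext
    intro v
    rw [sigma4_mulVec, ← h12]
    have hcomm : p.1.1 * phiM v = phiM v * p.1.1 := by
      ext i j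
      fin_cases i <;> fin_cases j <;>
        simp [phiM_apply, Matrix.mul_apply, Fin.sum_univ_two, h01, h10, h00] <;> ring
    rw [hcomm, mul_assoc, ← Matrix.SpecialLinearGroup.coe_mul, mul_inv_cancel,
      Matrix.SpecialLinearGroup.coe_one, mul_one, psiM_phiM]
    simp

theorem card_sigma4_ker (hF : ∃ a : F, a ≠ 0 ∧ a ≠ 1) :
    Nat.card (sigma4 hF).ker = Nat.card (Subgroup.center SL(2, F)) := by
  apply Nat.card_congr
  exact
    { toFun := fun p => ⟨p.1.1, ((sigma4_ker hF p.1).mp p.2).2⟩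
      invFun := fun z => ⟨(z.1, z.1), (sigma4_ker hF _).mpr ⟨rfl, z.2⟩⟩
      left_inv := fun p => by
        apply Subtype.ext
        apply Prod.ext
        · rfl
        · exact ((sigma4_ker hF p.1).mp p.2).1
      right_inv := fun z => rfl }

theorem center_SL2_eq_bot_of_two (h2 : (2 : F) = 0) : Subgroup.center SL(2, F) = ⊥ := by
  rw [Subgroup.eq_bot_iff_forall]
  intro A hA
  rw [sl2_mem_center_iff] at hA
  obtain ⟨h01, h10, h00⟩ := hA
  have hdet := sl2_det A
  rw [h01, zero_mul, sub_zero, ← h00] at hdet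
  have h3 : (A.1 0 0 - 1) * (A.1 0 0 - 1) = 0 := by linear_combination hdet + (1 - A.1 0 0) * h2
  have ha : A.1 0 0 = 1 := sub_eq_zero.mp (mul_self_eq_zero.mp h3)
  apply Subtype.ext
  ext i j
  fin_cases i <;> fin_cases j <;> simp [h01, h10, ha, ← h00]

theorem sigma4_surjective [Fintype F] (hF3 : 3 ≤ Fintype.card F)
    (hF : ∃ a : F, a ≠ 0 ∧ a ≠ 1) : Function.Surjective (sigma4 hF) := by
  classical
  rw [← MonoidHom.range_eq_top]
  apply Subgroup.eq_top_of_card_eq
  have h1 := Nat.card_congr (QuotientGroup.quotientKerEquivRange (sigma4 hF)).toEquiv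
  rw [← h1]
  have h2 := Subgroup.card_eq_card_quotient_mul_card_subgroup (sigma4 hF).ker
  rw [card_sigma4_ker, Nat.card_prod, card_SL2] at h2
  have hO := Cfsg.Agent.S0287.result (F := F) rfl 2 (by norm_num)
  simp only [Nat.add_one_sub_one, Finset.prod_range_one, zero_add, mul_one] at hO
  have h3 := Subgroup.card_mul_index (commutator ↥(isometryGroup F (quadFormPlus 2 F)))
  rw [hO] at h3
  change Nat.card ↥(Omega F (quadFormPlus 2 F)) * _ = _ at h3
  have hq1 : 1 ≤ Fintype.card F ^ 2 := Nat.one_le_pow _ _ (by omega)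
  obtain ⟨N, hN⟩ : ∃ N, Fintype.card F * (Fintype.card F ^ 2 - 1) = N := ⟨_, rfl⟩
  have h4 : 2 * Fintype.card F ^ 2 * (Fintype.card F ^ 2 - 1) * (Fintype.card F ^ 2 - 1)
      = 2 * (N * N) := by rw [← hN]; ring
  rw [h4] at h3
  rw [hN] at h2
  by_cases h2F : (2 : F) = 0
  · have hidx := index_commutator_char_two (Cfsg.Agent.H49.QP 2 F) h2F
      (Cfsg.Agent.H49.QP_nondeg 2 F) (m := 2) (Cfsg.Agent.H49.finrank_plus 2 F)
      (Or.inl (by omega)) (hypP 2 0) (by rw [QP_hypP]; exact one_ne_zero)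
    rw [Cfsg.Agent.H49.QP_coe] at hidx
    rw [hidx] at h3
    rw [center_SL2_eq_bot_of_two h2F, Subgroup.card_bot, mul_one] at h2
    omega
  · have hqodd : Odd (Fintype.card F) := by
      rw [Nat.odd_iff]
      exact FiniteField.odd_card_of_char_ne_two (fun h => h2F (by
        have := ringChar.of_eq h
        exact CharTwo.two_eq_zero))
    have hidx := Cfsg.Agent.H18.index_commutator (Cfsg.Agent.H49.QP 2 F) h2F
      (Cfsg.Agent.H49.QP_nondeg 2 F) (by
        simp only [Fintype.card_sum, Fintype.card_fin]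
        omega)
    rw [Cfsg.Agent.H49.QP_coe] at hidx
    rw [hidx] at h3
    rw [card_center_SL2 hqodd] at h2
    omega

/-- `PSL₂(F)` has trivial centre, for every field `F`. -/
theorem center_PSL2_eq_bot : Subgroup.center (Matrix.ProjectiveSpecialLinearGroup (Fin 2) F) = ⊥ := by
  rw [Subgroup.eq_bot_iff_forall]
  intro x hx
  induction x using QuotientGroup.induction_on with
  | H g =>
    rw [QuotientGroup.eq_one_iff, sl2_mem_center_iff]
    have key : ∀ h : SL(2, F), ∃ ε : F, (ε = 1 ∨ (ε = -1 ∧ (2 : F) ≠ 0)) ∧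
        (g * h).1 = ε • (h * g).1 := by
      intro h
      have h1 := Subgroup.mem_center_iff.mp hx (QuotientGroup.mk h)
      rw [← QuotientGroup.mk_mul, ← QuotientGroup.mk_mul, QuotientGroup.eq,
        sl2_mem_center_iff] at h1
      obtain ⟨z01, z10, z00⟩ := h1
      set z := (h * g)⁻¹ * (g * h) with hz
      have hzdet := sl2_det z
      rw [z01, zero_mul, sub_zero, ← z00] at hzdet
      obtain ⟨c, hc⟩ : ∃ c, z.1 0 0 = c := ⟨_, rfl⟩
      rw [hc] at hzdet
      have hc1 : c = 1 ∨ (c = -1 ∧ (2 : F) ≠ 0) := by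
        rcases mul_self_eq_one_iff.mp hzdet with h | h
        · exact Or.inl h
        · by_cases h2 : (2 : F) = 0
          · left
            rw [h]
            linear_combination -h2
          · exact Or.inr ⟨h, h2⟩
      refine ⟨c, hc1, ?_⟩
      have e1 : g * h = (h * g) * z := by rw [hz]; group
      rw [e1, Matrix.SpecialLinearGroup.coe_mul]
      have e2 : z.1 = c • (1 : Matrix (Fin 2) (Fin 2) F) := by
        ext i j
        fin_cases i <;> fin_cases j <;> simp [z01, z10, ← z00, hc]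
      rw [e2, Matrix.mul_smul, mul_one]
    have hdet := sl2_det g
    obtain ⟨ε, hε, e1⟩ := key (slUpper 1)
    obtain ⟨L, hL⟩ : ∃ L : SL(2, F), L.1 = !![1, 0; 1, 1] :=
      ⟨⟨!![1, 0; 1, 1], by simp [Matrix.det_fin_two_of]⟩, rfl⟩
    obtain ⟨ε', hε', e2⟩ := key L
    have a1 := congrFun (congrFun e1 0) 0
    have a2 := congrFun (congrFun e1 0) 1
    have a3 := congrFun (congrFun e1 1) 0
    have b1 := congrFun (congrFun e2 0) 0
    have b2 := congrFun (congrFun e2 0) 1
    simp only [Matrix.smul_apply, smul_eq_mul, sl2_mul_apply] at a1 a2 a3 b1 b2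
    simp [slUpper, hL] at a1 a2 a3 b1 b2
    have hc : g.1 1 0 = 0 ∧ g.1 0 0 = g.1 1 1 := by
      rcases hε with rfl | ⟨rfl, h2⟩
      · refine ⟨?_, ?_⟩
        · linear_combination -a1
        · linear_combination a2
      · exfalso
        have hc0 : g.1 1 0 = 0 := by
          have : (2 : F) * g.1 1 0 = 0 := by linear_combination a3
          exact (mul_eq_zero.mp this).resolve_left h2
        have ha0 : g.1 0 0 = 0 := by
          have : (2 : F) * g.1 0 0 = 0 := by linear_combination a1 - hc0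
          exact (mul_eq_zero.mp this).resolve_left h2
        rw [ha0, hc0] at hdet
        simp at hdet
    have hb : g.1 0 1 = 0 := by
      rcases hε' with rfl | ⟨rfl, h2⟩
      · linear_combination b1
      · exfalso
        have hb0 : g.1 0 1 = 0 := by
          have : (2 : F) * g.1 0 1 = 0 := by linear_combination b2
          exact (mul_eq_zero.mp this).resolve_left h2
        have ha0 : g.1 0 0 = 0 := by
          have : (2 : F) * g.1 0 0 = 0 := by linear_combination b1 - hb0
          exact (mul_eq_zero.mp this).resolve_left h2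
        rw [ha0, hb0] at hdet
        simp at hdet
    exact ⟨hb, hc.1, hc.2⟩

end Omega4

/-- If `f : A → B` and `p : A → C` are surjective with `ker f ≤ ker p ≤ Z(A)` and `C` is
centreless, then `B / Z(B) ≅ C`. -/
theorem quotient_center_equiv {A B C : Type*} [Group A] [Group B] [Group C]
    (f : A →* B) (hf : Function.Surjective f) (p : A →* C) (hp : Function.Surjective p)
    (hfp : f.ker ≤ p.ker) (hpc : p.ker ≤ Subgroup.center A) (hC : Subgroup.center C = ⊥) :
    Nonempty (B ⧸ Subgroup.center B ≃* C) := by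
  let π : B →* C := (QuotientGroup.lift f.ker p hfp).comp
    (QuotientGroup.quotientKerEquivOfSurjective f hf).symm.toMonoidHom
  have hπ : ∀ a, π (f a) = p a := by
    intro a
    show (QuotientGroup.lift f.ker p hfp)
      ((QuotientGroup.quotientKerEquivOfSurjective f hf).symm (f a)) = p a
    have h1 : (QuotientGroup.quotientKerEquivOfSurjective f hf).symm (f a) =
        QuotientGroup.mk a := by
      rw [MulEquiv.symm_apply_eq]
      rfl
    rw [h1]
    rfl
  have hπs : Function.Surjective π := by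
    intro c
    obtain ⟨a, rfl⟩ := hp c
    exact ⟨f a, hπ a⟩
  have hker : π.ker = Subgroup.center B := by
    ext b
    rw [MonoidHom.mem_ker]
    constructor
    · intro hb
      obtain ⟨a, rfl⟩ := hf b
      rw [hπ] at hb
      have ha : a ∈ Subgroup.center A := hpc (MonoidHom.mem_ker.mpr hb)
      rw [Subgroup.mem_center_iff]
      intro b'
      obtain ⟨a', rfl⟩ := hf b'
      rw [← map_mul, ← map_mul, Subgroup.mem_center_iff.mp ha a']
    · intro hb
      have h1 : π b ∈ Subgroup.center C := by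
        rw [Subgroup.mem_center_iff]
        intro c
        obtain ⟨b', rfl⟩ := hπs c
        rw [← map_mul, ← map_mul, Subgroup.mem_center_iff.mp hb b']
      rw [hC] at h1
      exact Subgroup.mem_bot.mp h1
  exact ⟨(QuotientGroup.quotientMulEquivOfEq hker.symm).trans
    (QuotientGroup.quotientKerEquivOfSurjective π hπs)⟩

/-- The centre of a product of centreless groups is trivial. -/
theorem center_prod_eq_bot {A B : Type*} [Group A] [Group B]
    (hA : Subgroup.center A = ⊥) (hB : Subgroup.center B = ⊥) :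
    Subgroup.center (A × B) = ⊥ := by
  rw [Subgroup.eq_bot_iff_forall]
  intro x hx
  have h1 : x.1 ∈ Subgroup.center A := by
    rw [Subgroup.mem_center_iff]
    intro a
    have := congrArg Prod.fst (Subgroup.mem_center_iff.mp hx (a, 1))
    simpa using this
  have h2 : x.2 ∈ Subgroup.center B := by
    rw [Subgroup.mem_center_iff]
    intro b
    have := congrArg Prod.snd (Subgroup.mem_center_iff.mp hx (1, b))
    simpa using this
  rw [hA] at h1
  rw [hB] at h2
  exact Prod.ext (Subgroup.mem_bot.mp h1) (Subgroup.mem_bot.mp h2)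

theorem exists_ne_zero_ne_one {F : Type*} [Field F] [Fintype F] (hF : 3 ≤ Fintype.card F) :
    ∃ a : F, a ≠ 0 ∧ a ≠ 1 := by
  classical
  by_contra hne
  push Not at hne
  have hsub : (Finset.univ : Finset F) ⊆ {0, 1} := by
    intro a _
    by_cases ha : a = 0
    · simp [ha]
    · simp [hne a ha]
  have h1 := Finset.card_le_card hsub
  rw [Finset.card_univ] at h1
  have h2 : ({0, 1} : Finset F).card ≤ 2 := Finset.card_le_two
  omega

end Cfsg.Agent.H7
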