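import Mathlib
import Cfsg.Agent.H7.SL2
import Cfsg.Agent.H7.PSL2

set_option autoImplicit false

namespace Cfsg.Agent.H7

open Matrix

open scoped MatrixGroups

section VonDyck

variable {F : Type*} [Field F]

/-- Cayley–Hamilton for `SL₂`. -/
theorem sl2_cayley (g : SL(2, F)) : g.1 * g.1 = (g.1 0 0 + g.1 1 1) • g.1 - 1 := by
  have hdet := sl2_det g
  ext i j
  fin_cases i <;> fin_cases j <;> simp [Matrix.mul_apply, Fin.sum_univ_two] <;>
    first | ring1 | linear_combination -hdet | linear_combination hdet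

theorem pow_three_of_quad {M : Matrix (Fin 2) (Fin 2) F} (t : F) (h : M * M = t • M - 1) :
    M ^ 3 = (t * t - 1) • M - t • (1 : Matrix (Fin 2) (Fin 2) F) := by
  have h3 : M ^ 3 = M * M * M := by rw [pow_succ, pow_two]
  rw [h3, h, sub_mul, smul_mul_assoc, h, one_mul]
  module

theorem pow_four_of_quad {M : Matrix (Fin 2) (Fin 2) F} (t : F) (h : M * M = t • M - 1) :
    M ^ 4 = (t ^ 3 - 2 * t) • M - (t * t - 1) • (1 : Matrix (Fin 2) (Fin 2) F) := by
  rw [pow_succ, pow_three_of_quad t h, sub_mul, smul_mul_assoc, h, smul_mul_assoc, one_mul]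
  module

theorem pow_five_of_quad {M : Matrix (Fin 2) (Fin 2) F} (t : F) (h : M * M = t • M - 1) :
    M ^ 5 = (t ^ 4 - 3 * t ^ 2 + 1) • M - (t ^ 3 - 2 * t) • (1 : Matrix (Fin 2) (Fin 2) F) := by
  rw [pow_succ, pow_four_of_quad t h, sub_mul, smul_mul_assoc, h, smul_mul_assoc, one_mul]
  module

/-- A matrix of `SL₂` whose underlying matrix is `± 1` is central. -/
theorem sl2_mem_center_of_coe (g : SL(2, F)) (c : F) (h : g.1 = c • (1 : Matrix (Fin 2) (Fin 2) F)) :
    g ∈ Subgroup.center SL(2, F) := by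
  rw [sl2_mem_center_iff, h]
  simp

/-- An element of `SL₂` of trace zero squares into the centre. -/
theorem sl2_sq_mem_center_of_trace (g : SL(2, F)) (h : g.1 0 0 + g.1 1 1 = 0) :
    g ^ 2 ∈ Subgroup.center SL(2, F) := by
  apply sl2_mem_center_of_coe _ (-1)
  have hc := sl2_cayley g
  rw [h, zero_smul, zero_sub] at hc
  rw [pow_two, Matrix.SpecialLinearGroup.coe_mul, hc]
  simp

/-- An element of `SL₂` of trace `-1` has cube one. -/
theorem sl2_pow_three_of_trace (g : SL(2, F)) (h : g.1 0 0 + g.1 1 1 = -1) : g ^ 3 = 1 := by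
  apply Subtype.ext
  have hc := sl2_cayley g
  rw [h] at hc
  rw [Matrix.SpecialLinearGroup.coe_pow, pow_three_of_quad _ hc]
  simp

/-- An element of `SL₂` of trace `1` has cube in the centre. -/
theorem sl2_pow_three_mem_center_of_trace (g : SL(2, F)) (h : g.1 0 0 + g.1 1 1 = 1) :
    g ^ 3 ∈ Subgroup.center SL(2, F) := by
  apply sl2_mem_center_of_coe _ (-1)
  have hc := sl2_cayley g
  rw [h] at hc
  rw [Matrix.SpecialLinearGroup.coe_pow, pow_three_of_quad _ hc]
  simp

/-- An element of `SL₂` whose trace `r` satisfies `r² = 2` has fourth power in the centre. -/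
theorem sl2_pow_four_mem_center_of_trace (g : SL(2, F)) (r : F) (h : g.1 0 0 + g.1 1 1 = r)
    (hr : r * r = 2) : g ^ 4 ∈ Subgroup.center SL(2, F) := by
  apply sl2_mem_center_of_coe _ (-1)
  have hc := sl2_cayley g
  rw [h] at hc
  rw [Matrix.SpecialLinearGroup.coe_pow, pow_four_of_quad _ hc]
  have h1 : r ^ 3 - 2 * r = 0 := by linear_combination r * hr
  have h2 : r * r - 1 = 1 := by linear_combination hr
  rw [h1, h2]
  simp

/-- An element of `SL₂` whose trace `τ` satisfies `τ² + τ = 1` has fifth power one. -/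
theorem sl2_pow_five_of_trace (g : SL(2, F)) (τ : F) (h : g.1 0 0 + g.1 1 1 = τ)
    (hτ : τ * τ + τ = 1) : g ^ 5 = 1 := by
  apply Subtype.ext
  have hc := sl2_cayley g
  rw [h] at hc
  rw [Matrix.SpecialLinearGroup.coe_pow, pow_five_of_quad _ hc]
  have h1 : τ ^ 4 - 3 * τ ^ 2 + 1 = 0 := by
    linear_combination (τ * τ - τ - 1) * hτ
  have h2 : τ ^ 3 - 2 * τ = -1 := by linear_combination (τ - 1) * hτ
  rw [h1, h2]
  simp

/-- The trace of an element of order five of `SL₂` satisfies `τ² + τ = 1`. -/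
theorem trace_of_orderOf_five (g : SL(2, F)) (hg : orderOf g = 5) :
    (g.1 0 0 + g.1 1 1) * (g.1 0 0 + g.1 1 1) + (g.1 0 0 + g.1 1 1) = 1 := by
  obtain ⟨τ, hτ⟩ : ∃ τ, g.1 0 0 + g.1 1 1 = τ := ⟨_, rfl⟩
  rw [hτ]
  have hc := sl2_cayley g
  rw [hτ] at hc
  have h5 : g.1 ^ 5 = 1 := by
    rw [← Matrix.SpecialLinearGroup.coe_pow, ← hg, pow_orderOf_eq_one]
    rfl
  rw [pow_five_of_quad _ hc] at h5
  have hs5 : τ ^ 4 - 3 * τ ^ 2 + 1 = 0 := by
    by_contra hne
    have hM : g.1 = ((1 + (τ ^ 3 - 2 * τ)) / (τ ^ 4 - 3 * τ ^ 2 + 1)) •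
        (1 : Matrix (Fin 2) (Fin 2) F) := by
      have h6 : (τ ^ 4 - 3 * τ ^ 2 + 1) • g.1 = (1 + (τ ^ 3 - 2 * τ)) •
          (1 : Matrix (Fin 2) (Fin 2) F) := by
        have h5' := h5
        rw [sub_eq_iff_eq_add] at h5'
        rw [h5', add_smul, one_smul]
      rw [div_eq_inv_mul, mul_smul, ← h6, smul_smul, inv_mul_cancel₀ hne, one_smul]
    have hcen : g ∈ Subgroup.center SL(2, F) := sl2_mem_center_of_coe g _ hM
    rw [sl2_mem_center_iff] at hcen
    obtain ⟨h01, h10, h00⟩ := hcen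
    have hdet := sl2_det g
    rw [h01, zero_mul, sub_zero, ← h00] at hdet
    have hsq : g ^ 2 = 1 := by
      apply Subtype.ext
      rw [pow_two, Matrix.SpecialLinearGroup.coe_mul]
      ext i j
      fin_cases i <;> fin_cases j <;>
        simp [Matrix.mul_apply, Fin.sum_univ_two, h01, h10, ← h00, hdet]
    have hdvd := orderOf_dvd_of_pow_eq_one hsq
    rw [hg] at hdvd
    omega
  rw [hs5, zero_smul, zero_sub] at h5
  have hs4 : τ ^ 3 - 2 * τ = -1 := by
    have h7 := congrFun (congrFun h5 0) 0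
    simp at h7
    linear_combination -h7
  have e1 : (τ - 1) * (τ * τ + τ - 1) = 0 := by linear_combination hs4
  have e2 : (τ * τ + τ - 1) * (τ * τ - τ - 1) = 0 := by linear_combination hs5
  rcases mul_eq_zero.mp e1 with h | h
  · have h1 : τ = 1 := by linear_combination h
    rw [h1] at e2
    norm_num at e2
  · linear_combination h

/-- Solutions of the conic `α² + α + β² + τ β + 1 = 0` over a finite field of odd order. -/
theorem exists_conic [Fintype F] (hodd : Fintype.card F % 2 = 1) (τ : F) :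
    ∃ α β : F, α * α + α + β * β + τ * β + 1 = 0 := by
  have hf : (Polynomial.C (1 : F) * Polynomial.X ^ 2 + Polynomial.C 1 * Polynomial.X +
      Polynomial.C 1).degree = 2 := Polynomial.degree_quadratic one_ne_zero
  have hg : (Polynomial.C (1 : F) * Polynomial.X ^ 2 + Polynomial.C τ * Polynomial.X +
      Polynomial.C 0).degree = 2 := Polynomial.degree_quadratic one_ne_zero
  obtain ⟨a, b, hab⟩ := FiniteField.exists_root_sum_quadratic hf hg hodd
  refine ⟨a, b, ?_⟩
  simp only [Polynomial.eval_add, Polynomial.eval_mul, Polynomial.eval_C, Polynomial.eval_pow,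
    Polynomial.eval_X] at hab
  linear_combination hab

/-- Two elements `X`, `Y` of `SL₂` with `X` of trace zero, `Y` of trace `-1` and `Y X` of
trace `τ`, given a point of the conic. -/
theorem exists_xy (τ α β : F) (h : α * α + α + β * β + τ * β + 1 = 0) :
    ∃ X Y : SL(2, F), X.1 0 0 + X.1 1 1 = 0 ∧ X ∉ Subgroup.center SL(2, F) ∧
      Y.1 0 0 + Y.1 1 1 = -1 ∧ (Y * X).1 0 0 + (Y * X).1 1 1 = τ := by
  obtain ⟨X, hX⟩ : ∃ X : SL(2, F), X.1 = !![0, 1; -1, 0] :=
    ⟨⟨!![0, 1; -1, 0], by simp [Matrix.det_fin_two_of]⟩, rfl⟩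
  obtain ⟨Y, hY⟩ : ∃ Y : SL(2, F), Y.1 = !![α, β; β + τ, -1 - α] :=
    ⟨⟨!![α, β; β + τ, -1 - α], by
      rw [Matrix.det_fin_two_of]
      linear_combination -h⟩, rfl⟩
  refine ⟨X, Y, ?_, ?_, ?_, ?_⟩
  · rw [hX]; simp
  · rw [sl2_mem_center_iff, hX]
    simp
  · rw [hY]; simp
  · rw [sl2_mul_apply, sl2_mul_apply, hX, hY]
    simp

end VonDyck

end Cfsg.Agent.H7
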