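import Mathlib
/-!
Team project S1156 (helper7): the Sylow `p`-subgroups of the small Ree group `²G₂(q)`,
`q = 3^(2m+1) ≥ 27`, are cyclic for every prime `p > 3`.

This file: exact statements (as `Prop`-valued definitions) of the pieces that need only Mathlib.
-/
set_option autoImplicit false

namespace Cfsg.Agent.H7.RC

open Matrix

universe u v

/-- (SYLCYC) a cyclic subgroup whose order carries the full `p`-part of `|G|` forces all
`p`-subgroups of `G` to be cyclic -/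
def StSylCyc : Prop :=
  ∀ (G : Type u) [Group G] [Finite G] (p : ℕ) [Fact p.Prime] (Q : Subgroup G),
    IsCyclic Q → (Nat.card G).factorization p ≤ (Nat.card Q).factorization p →
    ∀ P : Subgroup G, IsPGroup p P → IsCyclic P

/-- (BLOCKHOM) a group of block triangular matrices maps homomorphically onto each diagonal
block -/
def StBlockHom : Prop :=
  ∀ (n : Type u) [Fintype n] [DecidableEq n] (K : Type v) [Field K] (b : n → ℕ)
    (H : Subgroup (GL n K)),
    (∀ g ∈ H, Matrix.BlockTriangular ((g : GL n K) : Matrix n n K) b) → ∀ k : ℕ,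
    ∃ f : ↥H →* GL {i : n // b i = k} K, ∀ (g : ↥H) (i j : {i : n // b i = k}),
      ((f g : GL {i : n // b i = k} K) : Matrix {i : n // b i = k} {i : n // b i = k} K) i j =
        ((g : GL n K) : Matrix n n K) i.1 j.1

/-- (SINGER) `GL₇(q)` contains a cyclic subgroup of order `q⁶ - 1` -/
def StSinger : Prop :=
  ∀ (K : Type u) [Field K] [Fintype K],
    ∃ Z : Subgroup (GL (Fin 7) K), IsCyclic Z ∧ Nat.card Z = Fintype.card K ^ 6 - 1

/-- (NTC) for a prime `p > 3` dividing `q² - q + 1` the `p`-part of `|GL₇(q)|` is that of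
`q⁶ - 1` -/
def StNTC : Prop :=
  ∀ q p : ℕ, 2 ≤ q → p.Prime → 3 < p → p ∣ q ^ 2 - q + 1 →
    (∏ i : Fin 7, (q ^ 7 - q ^ (i : ℕ))).factorization p ≤ (q ^ 6 - 1).factorization p

/-- (NTA) the `p`-part of `q³(q-1)(q³+1)` for a prime `p > 3` not dividing `q` -/
def StNTA : Prop :=
  ∀ q p : ℕ, 2 ≤ q → p.Prime → 3 < p → ¬ p ∣ q →
    (p ∣ q - 1 →
      (q ^ 3 * (q - 1) * (q ^ 3 + 1)).factorization p ≤ (q - 1).factorization p) ∧
    (p ∣ q + 1 →
      (q ^ 3 * (q - 1) * (q ^ 3 + 1)).factorization p ≤ (q * (q ^ 2 - 1)).factorization p) ∧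
    (p ∣ q ^ 3 * (q - 1) * (q ^ 3 + 1) → p ∣ q - 1 ∨ p ∣ q + 1 ∨ p ∣ q ^ 2 - q + 1)

/-- (SL2SYL) the Sylow `p`-subgroups of `SL₂(q)`, `q` odd, are cyclic for odd `p ∣ q + 1` -/
def StSL2Syl : Prop :=
  ∀ (F : Type u) [Field F] [Fintype F], Odd (Fintype.card F) → ∀ (p : ℕ) [Fact p.Prime], p ≠ 2 →
    p ∣ Fintype.card F + 1 → ∀ P : Sylow p (SpecialLinearGroup (Fin 2) F),
      IsCyclic ↥(P : Subgroup (SpecialLinearGroup (Fin 2) F))

/-- (GL7) the `p`-subgroups of `GL₇(q)` are cyclic for a prime `p > 3` dividing `q² - q + 1` -/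
def StGL7 : Prop :=
  ∀ (K : Type u) [Field K] [Fintype K] (p : ℕ) [Fact p.Prime], 3 < p →
    p ∣ Fintype.card K ^ 2 - Fintype.card K + 1 →
    ∀ P : Subgroup (GL (Fin 7) K), IsPGroup p P → IsCyclic P

end Cfsg.Agent.H7.RC
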