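import Mathlib
/-!
Team project S2359 (helper7): centralizers of the cyclic subgroups of orders `(q-1)/2` and
`(q+1)/4` of the small Ree group `²G₂(q)`, `q = 3^(2m+1) ≥ 27`.

This file: exact statements (as `Prop`-valued definitions) of the pieces that need only Mathlib.
-/
set_option autoImplicit false

namespace Cfsg.Agent.H7.RT

open Matrix

universe u

/-- (CONJINTO) an element of prime order `p` is conjugate into any subgroup whose order carries
the full `p`-part of `|G|` -/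
def StConjInto : Prop :=
  ∀ (G : Type u) [Group G] [Finite G] (p : ℕ) [Fact p.Prime] (Q : Subgroup G),
    (Nat.card G).factorization p ≤ (Nat.card Q).factorization p →
    ∀ x : G, orderOf x = p → ∃ g : G, g * x * g⁻¹ ∈ Q

/-- (INVCONJ) if the Sylow 2-subgroups are elementary abelian of order 8, self-centralizing, with
normalizer of order 168, then all involutions are conjugate -/
def StInvConj : Prop :=
  ∀ (G : Type u) [Group G] [Finite G],
    (∀ S : Sylow 2 G, Nat.card S = 8 ∧ ∀ x ∈ S, x * x = 1) →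
    (∀ S : Sylow 2 G, Subgroup.centralizer ((S : Subgroup G) : Set G) = S ∧
      Nat.card ↥(Subgroup.normalizer ((S : Subgroup G) : Set G)) = 168) →
    ∀ u v : G, u ≠ 1 → u * u = 1 → v ≠ 1 → v * v = 1 → ∃ g : G, g * u * g⁻¹ = v

/-- (TWOBOUND) if the Sylow 2-subgroups have order 8 and are self-centralizing, a 2-subgroup
centralizing a non-trivial element of odd order has order at most 4 -/
def StTwoBound : Prop :=
  ∀ (G : Type u) [Group G] [Finite G],
    (∀ S : Sylow 2 G, Nat.card S = 8) →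
    (∀ S : Sylow 2 G, Subgroup.centralizer ((S : Subgroup G) : Set G) = S) →
    ∀ x : G, x ≠ 1 → Odd (orderOf x) →
    ∀ T : Subgroup G, (∀ y ∈ T, y * x = x * y) → IsPGroup 2 T → Nat.card T ≤ 4

/-- (ABSNC) Burnside's transfer theorem in the centralizer `C = C_G(x)`: a four-group `V ≤ D`
which is a Sylow 2-subgroup of `C` with `C_C(v) ⊆ D` abelian for `v ∈ V^#`, and no elements of
order 3 in `C`, has a normal complement `K` of odd order in `C` -/
def StAbsNC : Prop :=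
  ∀ (G : Type u) [Group G] [Finite G] (x a : G) (D V : Subgroup G),
    (∀ y ∈ D, y * x = x * y) → (∀ y₁ ∈ D, ∀ y₂ ∈ D, y₁ * y₂ = y₂ * y₁) →
    a ≠ 1 → a * a = 1 → a ∈ V → V ≤ D → Nat.card V = 4 → (∀ v ∈ V, v * v = 1) →
    (∀ y : G, y * x = x * y → y * a = a * y → y ∈ D) →
    (∀ v ∈ V, v ≠ 1 → ∀ y₁ y₂ : G, y₁ * x = x * y₁ → y₁ * v = v * y₁ → y₂ * x = x * y₂ →
      y₂ * v = v * y₂ → y₁ * y₂ = y₂ * y₁) →
    (∀ T : Subgroup G, (∀ y ∈ T, y * x = x * y) → IsPGroup 2 T → Nat.card T ≤ 4) →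
    (∀ y : G, y * x = x * y → orderOf y ≠ 3) →
    ∃ K : Subgroup G, (∀ k ∈ K, k * x = x * k) ∧
      (∀ c : G, c * x = x * c → ∀ k ∈ K, c * k * c⁻¹ ∈ K) ∧ Odd (Nat.card K) ∧
      ∀ y : G, y * x = x * y → ∃ k ∈ K, ∃ v ∈ V, y = k * v

/-- (ABSK) the normal 2-complement `K` of `C = C_G(x)` lies in `D`: each prime `r` dividing `|K|`
is at least 5, a `V`-invariant Sylow `r`-subgroup of `K` is cyclic, hence centralized by an
involution `v` of the four-group `V`, hence lies in `C_C(v) ⊆ D` -/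
def StAbsK : Prop :=
  ∀ (G : Type u) [Group G] [Finite G] (x a : G) (D V K : Subgroup G),
    (∀ y ∈ D, y * x = x * y) → (∀ y₁ ∈ D, ∀ y₂ ∈ D, y₁ * y₂ = y₂ * y₁) →
    a ≠ 1 → a * a = 1 → a ∈ V → V ≤ D → Nat.card V = 4 → (∀ v ∈ V, v * v = 1) →
    (∀ y : G, y * x = x * y → y * a = a * y → y ∈ D) →
    (∀ v ∈ V, v ≠ 1 → ∀ y₁ y₂ : G, y₁ * x = x * y₁ → y₁ * v = v * y₁ → y₂ * x = x * y₂ →
      y₂ * v = v * y₂ → y₁ * y₂ = y₂ * y₁) →
    (∀ y : G, y * x = x * y → orderOf y ≠ 3) →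
    (∀ (r : ℕ) [Fact r.Prime], 3 < r → ∀ R : Subgroup G, (∀ y ∈ R, y * x = x * y) →
      IsPGroup r R → IsCyclic R) →
    (∀ k ∈ K, k * x = x * k) → (∀ c : G, c * x = x * c → ∀ k ∈ K, c * k * c⁻¹ ∈ K) →
    Odd (Nat.card K) → (∀ y : G, y * x = x * y → ∃ k ∈ K, ∃ v ∈ V, y = k * v) →
    K ≤ D

/-- (ABSB) the abstract centralizer theorem: `C_G(x) = D` -/
def StAbsB : Prop :=
  ∀ (G : Type u) [Group G] [Finite G] (x a : G) (D V : Subgroup G),
    (∀ y ∈ D, y * x = x * y) → (∀ y₁ ∈ D, ∀ y₂ ∈ D, y₁ * y₂ = y₂ * y₁) →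
    a ≠ 1 → a * a = 1 → a ∈ V → V ≤ D → Nat.card V = 4 → (∀ v ∈ V, v * v = 1) →
    (∀ y : G, y * x = x * y → y * a = a * y → y ∈ D) →
    (∀ v ∈ V, v ≠ 1 → ∀ y₁ y₂ : G, y₁ * x = x * y₁ → y₁ * v = v * y₁ → y₂ * x = x * y₂ →
      y₂ * v = v * y₂ → y₁ * y₂ = y₂ * y₁) →
    (∀ T : Subgroup G, (∀ y ∈ T, y * x = x * y) → IsPGroup 2 T → Nat.card T ≤ 4) →
    (∀ y : G, y * x = x * y → orderOf y ≠ 3) →
    (∀ (r : ℕ) [Fact r.Prime], 3 < r → ∀ R : Subgroup G, (∀ y ∈ R, y * x = x * y) →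
      IsPGroup r R → IsCyclic R) →
    ∀ y : G, y * x = x * y → y ∈ D

/-- (FINAL) if the centralizers of the non-trivial elements of order dividing `n` are abelian,
all non-trivial subgroups of a cyclic subgroup of order `n` have the same centralizer, namely
that of any of its non-trivial elements -/
def StFinal : Prop :=
  ∀ (G : Type u) [Group G] [Finite G] (n : ℕ) (H : Subgroup G), IsCyclic H → Nat.card H = n →
    (∀ y : G, y ≠ 1 → orderOf y ∣ n →
      ∀ z₁ ∈ Subgroup.centralizer ({y} : Set G), ∀ z₂ ∈ Subgroup.centralizer ({y} : Set G),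
        z₁ * z₂ = z₂ * z₁) →
    (∀ y ∈ H, y ≠ 1 → Subgroup.centralizer (H : Set G) = Subgroup.centralizer ({y} : Set G)) ∧
    ∀ A : Subgroup G, A ≤ H → A ≠ ⊥ →
      Subgroup.centralizer (A : Set G) = Subgroup.centralizer (H : Set G)

/-- (SL2TOR) in `SL₂(q)`, `q` odd, a non-trivial element of odd order dividing `q + 1` has cyclic
centralizer of order `q + 1` -/
def StSL2Tor : Prop :=
  ∀ (F : Type u) [Field F] [Fintype F], Odd (Fintype.card F) →
    ∀ t : SpecialLinearGroup (Fin 2) F, t ≠ 1 → Odd (orderOf t) →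
      orderOf t ∣ Fintype.card F + 1 →
      IsCyclic ↥(Subgroup.centralizer ({t} : Set (SpecialLinearGroup (Fin 2) F))) ∧
        Nat.card ↥(Subgroup.centralizer ({t} : Set (SpecialLinearGroup (Fin 2) F))) =
          Fintype.card F + 1

/-- (NORMCENT) in a finite group whose 2-subgroups have order at most 4 and which has no element
of order 3, the normalizer of a four-group centralizes it -/
def StNormCent : Prop :=
  ∀ (G : Type u) [Group G] [Finite G] (V : Subgroup G), Nat.card V = 4 → (∀ v ∈ V, v * v = 1) →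
    (∀ T : Subgroup G, IsPGroup 2 T → Nat.card T ≤ 4) → (∀ y : G, orderOf y ≠ 3) →
    ∀ n : G, (∀ v ∈ V, n * v * n⁻¹ ∈ V) → ∀ v ∈ V, n * v = v * n

/-- (BURN) Burnside's transfer theorem for a four-group Sylow 2-subgroup `V` whose normalizer
centralizes it: there is a normal complement of odd order -/
def StBurn : Prop :=
  ∀ (G : Type u) [Group G] [Finite G] (V : Subgroup G), Nat.card V = 4 → (∀ v ∈ V, v * v = 1) →
    (∀ T : Subgroup G, IsPGroup 2 T → Nat.card T ≤ 4) →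
    (∀ n : G, (∀ v ∈ V, n * v * n⁻¹ ∈ V) → ∀ v ∈ V, n * v = v * n) →
    ∃ K : Subgroup G, K.Normal ∧ Odd (Nat.card K) ∧ ∀ y : G, ∃ k ∈ K, ∃ v ∈ V, y = k * v

/-- (INVSYL) a 2-group `V` normalizing a subgroup `K` of odd order normalizes a Sylow
`r`-subgroup `R` of `K` -/
def StInvSyl : Prop :=
  ∀ (G : Type u) [Group G] [Finite G] (r : ℕ) [Fact r.Prime] (K V : Subgroup G),
    Odd (Nat.card K) → IsPGroup 2 V → (∀ v ∈ V, ∀ k ∈ K, v * k * v⁻¹ ∈ K) →
    ∃ R : Subgroup G, R ≤ K ∧ IsPGroup r R ∧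
      (Nat.card K).factorization r ≤ (Nat.card R).factorization r ∧
      ∀ v ∈ V, ∀ y ∈ R, v * y * v⁻¹ ∈ R

/-- (FOURCYC) a four-group normalizing a cyclic `r`-group, `r` odd, contains a non-trivial element
centralizing it -/
def StFourCyc : Prop :=
  ∀ (G : Type u) [Group G] [Finite G] (r : ℕ) [Fact r.Prime] (R V : Subgroup G), r ≠ 2 →
    IsPGroup r R → IsCyclic R → Nat.card V = 4 → (∀ v ∈ V, v * v = 1) →
    (∀ v ∈ V, ∀ y ∈ R, v * y * v⁻¹ ∈ R) →
    ∃ v ∈ V, v ≠ 1 ∧ ∀ y ∈ R, v * y = y * v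

/-- (NO4) an abelian group of order not divisible by 8 containing a four-group has no element of
order 4 -/
def StNo4 : Prop :=
  ∀ (G : Type u) [Group G] [Finite G] (D V : Subgroup G),
    (∀ y₁ ∈ D, ∀ y₂ ∈ D, y₁ * y₂ = y₂ * y₁) → ¬ 8 ∣ Nat.card D → V ≤ D → Nat.card V = 4 →
    (∀ v ∈ V, v * v = 1) → ∀ y ∈ D, orderOf y ≠ 4

/-- (SL2I) in `SL₂(q)`, `q ≡ 3 (mod 4)`, the centralizer of a non-trivial element of odd order
dividing `q + 1` contains an element of square `-1` -/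
def StSL2I : Prop :=
  ∀ (F : Type u) [Field F] [Fintype F], Odd (Fintype.card F) → 4 ∣ Fintype.card F + 1 →
    ∀ t : SpecialLinearGroup (Fin 2) F, t ≠ 1 → Odd (orderOf t) →
      orderOf t ∣ Fintype.card F + 1 →
      ∃ i ∈ Subgroup.centralizer ({t} : Set (SpecialLinearGroup (Fin 2) F)), i * i = -1

theorem q_mod8 (m : ℕ) : 3 ^ (2 * m + 1) % 8 = 3 := by
  induction m with
  | zero => norm_num
  | succ k ih =>
    have e : 3 ^ (2 * (k + 1) + 1) = 9 * 3 ^ (2 * k + 1) := by ring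
    rw [e]
    omega

end Cfsg.Agent.H7.RT
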