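import Cfsg.Agent.H45.R2Defs
import Cfsg.Agent.H7.RCDefs0
import Cfsg.Agent.H7.RTDefs0
/-!
Team project S2359 (helper7): definitions and exact statements of the Ree-specific pieces, on
top of helper22's Ree library and helper45's `ψ : SL₂(K) → ²G₂(K)` (`H45.R2Defs`).

Notation: `G = ↥(twistedG2 K e)`, `a = aEl C` the involution `h(-1,-1)`, `ψ = psiG C hc hmem`,
`H¹ = H1G K e`, `D_t = DSub C hc hmem t = ψ(C_{SL₂}(t)) ⟨a⟩`, `q = 3^(2m+1)`.
-/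
set_option autoImplicit false
open Cfsg Cfsg.Lie

namespace Cfsg.Agent.H7.RT

open Cfsg.Agent.H22 Cfsg.Agent.H22.GEx Cfsg.Agent.H22.Ree Cfsg.Agent.H45.R2 Matrix

universe u

section defs

variable {K : Type*} [Field K] [CharP K 3] {e : ℕ} (C : Ctx K e)

/-- the involution `h(-1,-1)` as an element of the twisted group -/
def aEl : ↥(twistedG2 K e) := ⟨(C.hh (-1) (-1) : GL chevG2.Idx K), C.hh_neg_one_mem⟩

theorem aEl_coe : ((aEl C : ↥(twistedG2 K e)) : GL chevG2.Idx K) =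
    (C.hh (-1) (-1) : GL chevG2.Idx K) := rfl

/-- `ψ` as a homomorphism into the twisted group -/
noncomputable def psiG (hc : CommStmt (K := K)) (hmem : MemStmt C) :
    SpecialLinearGroup (Fin 2) K →* ↥(twistedG2 K e) :=
  (psiHom hc C.τ).codRestrict (twistedG2 K e) (fun g => hmem g)

theorem psiG_coe (hc : CommStmt (K := K)) (hmem : MemStmt C) (s : SpecialLinearGroup (Fin 2) K) :
    ((psiG C hc hmem s : ↥(twistedG2 K e)) : GL chevG2.Idx K) = psi C.τ s := rfl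

/-- the subgroup `D_t = ψ(C_{SL₂}(t)) ⟨a⟩` -/
noncomputable def DSub (hc : CommStmt (K := K)) (hmem : MemStmt C)
    (t : SpecialLinearGroup (Fin 2) K) : Subgroup ↥(twistedG2 K e) :=
  (Subgroup.centralizer ({t} : Set (SpecialLinearGroup (Fin 2) K))).map (psiG C hc hmem) ⊔
    Subgroup.zpowers (aEl C)

theorem aEl_ne_one : aEl C ≠ 1 := by
  intro h
  apply C.hh_neg_one_ne_one
  rw [← aEl_coe C, h]; rfl

theorem aEl_mul_self : aEl C * aEl C = 1 := by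
  apply Subtype.ext
  rw [Subgroup.coe_mul, aEl_coe, OneMemClass.coe_one, ← C.hh_one]
  apply Units.ext
  rw [Units.val_mul, C.hh_val _ _ (neg_ne_zero.mpr one_ne_zero) (neg_ne_zero.mpr one_ne_zero),
    C.hh_val _ _ one_ne_zero one_ne_zero, dg_mul]
  norm_num

theorem aEl_inv : (aEl C)⁻¹ = aEl C := inv_eq_of_mul_eq_one_left (aEl_mul_self C)

theorem aEl_mem_H : ((aEl C : ↥(twistedG2 K e)) : GL chevG2.Idx K) ∈ chevG2.diagonalSubgroup K :=
  C.hh_mem_H _ _ (neg_ne_zero.mpr one_ne_zero) (neg_ne_zero.mpr one_ne_zero)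

theorem aEl_comm (hc : CommStmt (K := K)) (hmem : MemStmt C) (hac : ACommStmt C)
    (s : SpecialLinearGroup (Fin 2) K) :
    aEl C * psiG C hc hmem s = psiG C hc hmem s * aEl C :=
  Subtype.ext (hac s)

theorem psiG_ne_aEl (hc : CommStmt (K := K)) (hmem : MemStmt C) (hk : KerStmt C)
    (s : SpecialLinearGroup (Fin 2) K) : psiG C hc hmem s ≠ aEl C := fun h =>
  hk.2.2 s (congrArg Subtype.val h)

theorem psiG_eq_one (hc : CommStmt (K := K)) (hmem : MemStmt C) (hk : KerStmt C)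
    (s : SpecialLinearGroup (Fin 2) K) (h : psiG C hc hmem s = 1) : s = 1 ∨ s = -1 :=
  hk.1 s (congrArg Subtype.val h)

theorem psiG_neg_one (hc : CommStmt (K := K)) (hmem : MemStmt C) (hk : KerStmt C) :
    psiG C hc hmem (-1) = 1 :=
  Subtype.ext hk.2.1

end defs

/-- `H¹` as a subgroup of the twisted group -/
def H1G (K : Type*) [Field K] (e : ℕ) : Subgroup ↥(twistedG2 K e) :=
  (chevG2.diagonalSubgroup K ⊓ twistedG2 K e).subgroupOf (twistedG2 K e)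

theorem mem_H1G {K : Type*} [Field K] {e : ℕ} (x : ↥(twistedG2 K e)) :
    x ∈ H1G K e ↔ (x : GL chevG2.Idx K) ∈ chevG2.diagonalSubgroup K := by
  unfold H1G
  rw [Subgroup.mem_subgroupOf]
  exact ⟨fun h => h.1, fun h => ⟨h, x.2⟩⟩

section stmts

variable {K : Type*} [Field K] [CharP K 3]

/-- (NINV) `n₀` inverts `H¹` -/
def StNInv {e : ℕ} (C : Ctx K e) : Prop :=
  ∀ h : GL chevG2.Idx K, h ∈ chevG2.diagonalSubgroup K ⊓ twistedG2 K e →
    (C.n0 : GL chevG2.Idx K) * h * (C.n0 : GL chevG2.Idx K)⁻¹ = h⁻¹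

/-- (CENTH) the centralizer in `²G₂` of an element `h ∈ H¹` with `h² ≠ 1` lies in `H` -/
def StCentH {e : ℕ} (_C : Ctx K e) : Prop :=
  ∀ h : GL chevG2.Idx K, h ∈ chevG2.diagonalSubgroup K ⊓ twistedG2 K e → h * h ≠ 1 →
    ∀ y : GL chevG2.Idx K, y ∈ twistedG2 K e → y * h = h * y → y ∈ chevG2.diagonalSubgroup K

/-- (CONJH) a non-trivial element of order dividing `(q-1)/2` is conjugate into `H¹` -/
def StConjH (K : Type*) [Field K] (m : ℕ) : Prop :=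
  ∀ y : ↥(twistedG2 K (3 ^ m)), y ≠ 1 → orderOf y ∣ (3 ^ (2 * m + 1) - 1) / 2 →
    ∃ g : ↥(twistedG2 K (3 ^ m)), g * y * g⁻¹ ∈ H1G K (3 ^ m)

/-- (COREA) the centralizer of a non-trivial element of order dividing `(q-1)/2` is cyclic of
order `q - 1` -/
def StCoreA (K : Type*) [Field K] (m : ℕ) : Prop :=
  ∀ y : ↥(twistedG2 K (3 ^ m)), y ≠ 1 → orderOf y ∣ (3 ^ (2 * m + 1) - 1) / 2 →
    IsCyclic ↥(Subgroup.centralizer ({y} : Set ↥(twistedG2 K (3 ^ m)))) ∧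
      Nat.card ↥(Subgroup.centralizer ({y} : Set ↥(twistedG2 K (3 ^ m)))) = 3 ^ (2 * m + 1) - 1

/-- (DSTRUCT) `D_t` is abelian of order `q + 1`, has no element of order 4, centralizes `ψ(t)`
and contains a four-group through `a` -/
def StDStruct {m : ℕ} (C : Ctx K (3 ^ m)) (hc : CommStmt (K := K)) (hmem : MemStmt C) : Prop :=
  ∀ t : SpecialLinearGroup (Fin 2) K, t ≠ 1 → Odd (orderOf t) →
    orderOf t ∣ 3 ^ (2 * m + 1) + 1 →
    (∀ y₁ ∈ DSub C hc hmem t, ∀ y₂ ∈ DSub C hc hmem t, y₁ * y₂ = y₂ * y₁) ∧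
    Nat.card ↥(DSub C hc hmem t) = 3 ^ (2 * m + 1) + 1 ∧
    (∀ y ∈ DSub C hc hmem t, orderOf y ≠ 4) ∧
    (∀ y ∈ DSub C hc hmem t, y * psiG C hc hmem t = psiG C hc hmem t * y) ∧
    ∃ V : Subgroup ↥(twistedG2 K (3 ^ m)), V ≤ DSub C hc hmem t ∧ Nat.card V = 4 ∧
      (∀ v ∈ V, v * v = 1) ∧ aEl C ∈ V

/-- (DCENT) `C_G(ψ(t)) ∩ C_G(a) ⊆ D_t` for `t` of odd order -/
def StDCent {e : ℕ} (C : Ctx K e) (hc : CommStmt (K := K)) (hmem : MemStmt C) : Prop :=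
  ∀ t : SpecialLinearGroup (Fin 2) K, t ≠ 1 → Odd (orderOf t) →
    ∀ y : ↥(twistedG2 K e), y * psiG C hc hmem t = psiG C hc hmem t * y →
      y * aEl C = aEl C * y → y ∈ DSub C hc hmem t

/-- (LIFT) an element of odd order of `C_G(a)` is `ψ(t)` with `t` of order dividing its order -/
def StLift {e : ℕ} (C : Ctx K e) (hc : CommStmt (K := K)) (hmem : MemStmt C) : Prop :=
  ∀ x : ↥(twistedG2 K e), x ≠ 1 → Odd (orderOf x) → x * aEl C = aEl C * x →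
    ∃ t : SpecialLinearGroup (Fin 2) K, psiG C hc hmem t = x ∧ t ≠ 1 ∧ orderOf t ∣ orderOf x

/-- (NOTHREE) no element of order 3 commutes with a non-trivial element of odd order dividing
`q + 1` -/
def StNoThree (K : Type*) [Field K] (m : ℕ) : Prop :=
  ∀ x y : ↥(twistedG2 K (3 ^ m)), x ≠ 1 → Odd (orderOf x) →
    orderOf x ∣ 3 ^ (2 * m + 1) + 1 → y * x = x * y → orderOf y ≠ 3

/-- (H3) for an involution `v` commuting with `ψ(t)`, the group `C_G(ψ(t)) ∩ C_G(v)` is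
abelian -/
def StH3 {m : ℕ} (C : Ctx K (3 ^ m)) (hc : CommStmt (K := K)) (hmem : MemStmt C) : Prop :=
  ∀ t : SpecialLinearGroup (Fin 2) K, t ≠ 1 → Odd (orderOf t) →
    orderOf t ∣ 3 ^ (2 * m + 1) + 1 →
    ∀ v : ↥(twistedG2 K (3 ^ m)), v ≠ 1 → v * v = 1 →
      v * psiG C hc hmem t = psiG C hc hmem t * v →
      ∀ y₁ y₂ : ↥(twistedG2 K (3 ^ m)), y₁ * psiG C hc hmem t = psiG C hc hmem t * y₁ →
        y₁ * v = v * y₁ → y₂ * psiG C hc hmem t = psiG C hc hmem t * y₂ → y₂ * v = v * y₂ →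
        y₁ * y₂ = y₂ * y₁

/-- (COREB') `C_G(ψ(t)) = D_t` for `t ≠ 1` of odd order dividing `q + 1` -/
def StCoreB' {m : ℕ} (C : Ctx K (3 ^ m)) (hc : CommStmt (K := K)) (hmem : MemStmt C) : Prop :=
  ∀ t : SpecialLinearGroup (Fin 2) K, t ≠ 1 → Odd (orderOf t) →
    orderOf t ∣ 3 ^ (2 * m + 1) + 1 →
    ∀ y : ↥(twistedG2 K (3 ^ m)), y * psiG C hc hmem t = psiG C hc hmem t * y →
      y ∈ DSub C hc hmem t

/-- (CONJPSI) a non-trivial element of order dividing `(q+1)/4` is conjugate to some `ψ(t)` -/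
def StConjPsi {m : ℕ} (C : Ctx K (3 ^ m)) (hc : CommStmt (K := K)) (hmem : MemStmt C) : Prop :=
  ∀ y : ↥(twistedG2 K (3 ^ m)), y ≠ 1 → orderOf y ∣ (3 ^ (2 * m + 1) + 1) / 4 →
    ∃ (g : ↥(twistedG2 K (3 ^ m))) (t : SpecialLinearGroup (Fin 2) K),
      g * y * g⁻¹ = psiG C hc hmem t ∧ t ≠ 1 ∧ Odd (orderOf t) ∧
        orderOf t ∣ 3 ^ (2 * m + 1) + 1

/-- (COREB) the centralizer of a non-trivial element of order dividing `(q+1)/4` is abelian of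
order `q + 1` and has no element of order 4 -/
def StCoreB (K : Type*) [Field K] (m : ℕ) : Prop :=
  ∀ y : ↥(twistedG2 K (3 ^ m)), y ≠ 1 → orderOf y ∣ (3 ^ (2 * m + 1) + 1) / 4 →
    (∀ z₁ ∈ Subgroup.centralizer ({y} : Set ↥(twistedG2 K (3 ^ m))),
      ∀ z₂ ∈ Subgroup.centralizer ({y} : Set ↥(twistedG2 K (3 ^ m))), z₁ * z₂ = z₂ * z₁) ∧
    Nat.card ↥(Subgroup.centralizer ({y} : Set ↥(twistedG2 K (3 ^ m)))) = 3 ^ (2 * m + 1) + 1 ∧
    ∀ z ∈ Subgroup.centralizer ({y} : Set ↥(twistedG2 K (3 ^ m))), orderOf z ≠ 4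

/-- (DMEM) the elements of `D_t` -/
def StDMem {e : ℕ} (C : Ctx K e) (hc : CommStmt (K := K)) (hmem : MemStmt C) : Prop :=
  ∀ (t : SpecialLinearGroup (Fin 2) K) (y : ↥(twistedG2 K e)), y ∈ DSub C hc hmem t ↔
    ∃ s ∈ Subgroup.centralizer ({t} : Set (SpecialLinearGroup (Fin 2) K)),
      y = psiG C hc hmem s ∨ y = aEl C * psiG C hc hmem s

/-- (DAB) `D_t` is abelian and centralizes `ψ(t)` -/
def StDAb {m : ℕ} (C : Ctx K (3 ^ m)) (hc : CommStmt (K := K)) (hmem : MemStmt C) : Prop :=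
  ∀ t : SpecialLinearGroup (Fin 2) K, t ≠ 1 → Odd (orderOf t) →
    orderOf t ∣ 3 ^ (2 * m + 1) + 1 →
    (∀ y₁ ∈ DSub C hc hmem t, ∀ y₂ ∈ DSub C hc hmem t, y₁ * y₂ = y₂ * y₁) ∧
    (∀ y ∈ DSub C hc hmem t, y * psiG C hc hmem t = psiG C hc hmem t * y)

/-- (DCARD) `|D_t| = q + 1` -/
def StDCard {m : ℕ} (C : Ctx K (3 ^ m)) (hc : CommStmt (K := K)) (hmem : MemStmt C) : Prop :=
  ∀ t : SpecialLinearGroup (Fin 2) K, t ≠ 1 → Odd (orderOf t) →
    orderOf t ∣ 3 ^ (2 * m + 1) + 1 →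
    Nat.card ↥(DSub C hc hmem t) = 3 ^ (2 * m + 1) + 1

/-- (DV) `D_t` contains a four-group through `a` -/
def StDV {m : ℕ} (C : Ctx K (3 ^ m)) (hc : CommStmt (K := K)) (hmem : MemStmt C) : Prop :=
  ∀ t : SpecialLinearGroup (Fin 2) K, t ≠ 1 → Odd (orderOf t) →
    orderOf t ∣ 3 ^ (2 * m + 1) + 1 →
    ∃ V : Subgroup ↥(twistedG2 K (3 ^ m)), V ≤ DSub C hc hmem t ∧ Nat.card V = 4 ∧
      (∀ v ∈ V, v * v = 1) ∧ aEl C ∈ V

/-- (CONJH1) an element of prime order `p ∣ (q-1)/2` is conjugate into `H¹` -/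
def StConjH1 (K : Type*) [Field K] (m : ℕ) : Prop :=
  ∀ (p : ℕ) [Fact p.Prime], p ∣ (3 ^ (2 * m + 1) - 1) / 2 →
    ∀ y : ↥(twistedG2 K (3 ^ m)), orderOf y = p →
      ∃ g : ↥(twistedG2 K (3 ^ m)), g * y * g⁻¹ ∈ H1G K (3 ^ m)

/-- (CONJPSI1) an element of prime order `p ∣ (q+1)/4` is conjugate into `ψ(SL₂)` -/
def StConjPsi1 {m : ℕ} (C : Ctx K (3 ^ m)) (hc : CommStmt (K := K)) (hmem : MemStmt C) : Prop :=
  ∀ (p : ℕ) [Fact p.Prime], p ∣ (3 ^ (2 * m + 1) + 1) / 4 →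
    ∀ y : ↥(twistedG2 K (3 ^ m)), orderOf y = p →
      ∃ (g : ↥(twistedG2 K (3 ^ m))) (s : SpecialLinearGroup (Fin 2) K),
        g * y * g⁻¹ = psiG C hc hmem s

end stmts

end Cfsg.Agent.H7.RT
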