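import Cfsg.Agent.H45.R2Defs
/-!
Piece R7 (ker) of the team project S1152 + S1157 (helper45), by helper7: from the Bruhat form of
`ψ(g)` the kernel of `ψ` is `{±1}`, and the involution `h(-1,-1)` is not a value of `ψ`.
-/
set_option autoImplicit false
open Cfsg Cfsg.Lie Cfsg.Agent.H22 Cfsg.Agent.H22.GEx Cfsg.Agent.H22.Ree Cfsg.Agent.H45.R2 Matrix

namespace Cfsg.Agent.H7.R2

variable {K : Type*} [Field K] [CharP K 3] {e : ℕ} (C : Ctx K e)

/-- Ree words of the positive system lie in `U` -/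
theorem RP_mem_U (t u v : K) :
    (C.SP.R C.τ t u v : GL chevG2.Idx K) ∈ chevG2.posUnipotent K := by
  rw [USys.R_eq_E (signs_pos K C.θ)]
  exact C.E_mem_U _ _ _ _ _ _

/-- the trivial Ree word -/
theorem RP_zero : (C.SP.R C.τ 0 0 0 : GL chevG2.Idx K) = 1 := by
  have h : C.SP.R C.τ 0 0 0 = 1 := by
    rw [USys.R_eq_E (signs_pos K C.θ)]
    simp only [map_zero, mul_zero, add_zero]
    have z : (0 : K) + 0 ^ 3 * 0 ^ 2 = 0 := by norm_num
    rw [z]
    exact C.E_zero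
  rw [h]; rfl

/-- a Ree word `R(0,u,0)` which is trivial has `u = 0` -/
theorem RP_eq_one (u : K) (h : (C.SP.R C.τ 0 u 0 : GL chevG2.Idx K) = 1) : u = 0 := by
  have h1 : C.SP.R C.τ 0 u 0 = C.SP.E 0 0 0 0 0 0 := by
    rw [C.E_zero]; exact Subtype.ext h
  rw [USys.R_eq_E (signs_pos K C.θ)] at h1
  obtain ⟨-, -, -, -, a10, -⟩ := C.E_inj _ _ _ _ _ _ _ _ _ _ _ _ h1
  rw [mul_zero, add_zero] at a10
  exact a10

omit [CharP K 3] in
theorem tt_ne (τ : K →+* K) (p : K) (hp : p ≠ 0) : τ p * p ≠ 0 ∧ τ p ^ 3 * p ≠ 0 :=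
  ⟨mul_ne_zero ((map_ne_zero τ).mpr hp) hp, mul_ne_zero (pow_ne_zero _ ((map_ne_zero τ).mpr hp)) hp⟩

/-- the torus values of `ψ` lie in `H` -/
theorem hhp_mem_H (p : K) (hp : p ≠ 0) :
    (C.hh (C.τ p * p) (C.τ p ^ 3 * p) : GL chevG2.Idx K) ∈ chevG2.diagonalSubgroup K :=
  C.hh_mem_H _ _ (tt_ne C.τ p hp).1 (tt_ne C.τ p hp).2

/-- the elements of the big cell are not in `B` -/
theorem bigcell_not_B (hcan : CanonG2 K) (u u' p : K) (hp : p ≠ 0) :
    (C.SP.R C.τ 0 u 0 : GL chevG2.Idx K) *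
        (C.hh (C.τ p * p) (C.τ p ^ 3 * p) : GL chevG2.Idx K) * (C.n0 : GL chevG2.Idx K) *
        (C.SP.R C.τ 0 u' 0 : GL chevG2.Idx K) ∉ chevG2.borelSubgroup K := by
  intro h
  apply C.n0_not_B hcan
  have h1 : (C.SP.R C.τ 0 u 0 : GL chevG2.Idx K) ∈ chevG2.borelSubgroup K :=
    U_le_B (RP_mem_U C 0 u 0)
  have h2 : (C.SP.R C.τ 0 u' 0 : GL chevG2.Idx K) ∈ chevG2.borelSubgroup K :=
    U_le_B (RP_mem_U C 0 u' 0)
  have h3 : (C.hh (C.τ p * p) (C.τ p ^ 3 * p) : GL chevG2.Idx K) ∈ chevG2.borelSubgroup K :=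
    H_le_B (hhp_mem_H C p hp)
  have e1 : (C.n0 : GL chevG2.Idx K) =
      (C.hh (C.τ p * p) (C.τ p ^ 3 * p) : GL chevG2.Idx K)⁻¹ *
        (C.SP.R C.τ 0 u 0 : GL chevG2.Idx K)⁻¹ *
        ((C.SP.R C.τ 0 u 0 : GL chevG2.Idx K) *
          (C.hh (C.τ p * p) (C.τ p ^ 3 * p) : GL chevG2.Idx K) * (C.n0 : GL chevG2.Idx K) *
          (C.SP.R C.τ 0 u' 0 : GL chevG2.Idx K)) *
        (C.SP.R C.τ 0 u' 0 : GL chevG2.Idx K)⁻¹ := by group
  rw [e1]
  exact mul_mem (mul_mem (mul_mem (inv_mem h3) (inv_mem h1)) h) (inv_mem h2)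

/-- in characteristic `3`, `τ p ^ 2 = 1` forces `p = 1` or `p = -1` -/
theorem p_of_sq (p : K) (h : C.τ p ^ 2 = 1) : p = 1 ∨ p = -1 := by
  have h1 : (C.τ p - 1) * (C.τ p + 1) = 0 := by linear_combination h
  have h2 := C.hτ p
  rcases mul_eq_zero.mp h1 with h3 | h3
  · left
    have h4 : C.τ p = 1 := by linear_combination h3
    rw [h4, map_one, one_pow] at h2
    exact h2.symm
  · right
    have h4 : C.τ p = -1 := by linear_combination h3
    rw [h4, map_neg, map_one] at h2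
    rw [← h2]; ring

omit [CharP K 3] in
theorem one_ne_neg_one3 (h3 : (3 : K) = 0) : (1 : K) ≠ -1 := by
  intro h
  have h6 : (1 : K) = 0 := by linear_combination h3 - h
  exact one_ne_zero h6

/-- a value of `ψ` in `H` of an upper triangular matrix: the unipotent part vanishes -/
theorem upper_H (hcan : CanonG2 K) (u p : K) (hp : p ≠ 0) (y : GL chevG2.Idx K)
    (hy : y ∈ chevG2.diagonalSubgroup K)
    (h : (C.SP.R C.τ 0 u 0 : GL chevG2.Idx K) *
      (C.hh (C.τ p * p) (C.τ p ^ 3 * p) : GL chevG2.Idx K) = y) :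
    u = 0 ∧ (C.hh (C.τ p * p) (C.τ p ^ 3 * p) : GL chevG2.Idx K) = y := by
  have h1 : (C.SP.R C.τ 0 u 0 : GL chevG2.Idx K) =
      y * (C.hh (C.τ p * p) (C.τ p ^ 3 * p) : GL chevG2.Idx K)⁻¹ := by
    rw [← h]; group
  have h2 : (C.SP.R C.τ 0 u 0 : GL chevG2.Idx K) ∈ chevG2.diagonalSubgroup K := by
    rw [h1]; exact mul_mem hy (inv_mem (hhp_mem_H C p hp))
  have h3 : (C.SP.R C.τ 0 u 0 : GL chevG2.Idx K) = 1 :=
    C.U_inf_H hcan _ (RP_mem_U C 0 u 0) h2
  refine ⟨RP_eq_one C u h3, ?_⟩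
  rw [h3, one_mul] at h
  exact h

/-- torus values: `h(τp·p, τp³·p) = h(s,s)` with `s = ±1` forces `p = ±1` and `s = 1` -/
theorem torus_val (p s : K) (hp : p ≠ 0) (hs : s ≠ 0)
    (h : (C.hh (C.τ p * p) (C.τ p ^ 3 * p) : GL chevG2.Idx K) = (C.hh s s : GL chevG2.Idx K)) :
    (p = 1 ∨ p = -1) ∧ s = 1 := by
  have h1 : ((C.hh (C.τ p * p) (C.τ p ^ 3 * p) : GL chevG2.Idx K) :
      Matrix chevG2.Idx chevG2.Idx K) = ((C.hh s s : GL chevG2.Idx K) :
      Matrix chevG2.Idx chevG2.Idx K) := by rw [h]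
  rw [C.hh_val _ _ (tt_ne C.τ p hp).1 (tt_ne C.τ p hp).2, C.hh_val _ _ hs hs] at h1
  obtain ⟨a, b⟩ := dg_inj _ _ _ _ (tt_ne C.τ p hp).1 (tt_ne C.τ p hp).2 hs hs h1
  have hq : C.τ p ^ 2 = 1 := by
    have h2 : s * (C.τ p ^ 2 - 1) = 0 := by linear_combination b - C.τ p ^ 2 * a
    rcases mul_eq_zero.mp h2 with h3 | h3
    · exact absurd h3 hs
    · linear_combination h3
  have hpp := p_of_sq C p hq
  refine ⟨hpp, ?_⟩
  rcases hpp with h4 | h4
  · rw [h4, map_one] at a; rw [← a]; ring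
  · rw [h4, map_neg, map_one] at a; rw [← a]; ring

theorem ker (hcan : CanonG2 K) (hf : FormStmt C) : KerStmt C := by
  have h3 : (3 : K) = 0 := by exact_mod_cast CharP.cast_eq_zero K 3
  have hm1 : (-1 : K) ≠ 0 := neg_ne_zero.mpr one_ne_zero
  have hB1 : (1 : GL chevG2.Idx K) ∈ chevG2.borelSubgroup K := one_mem _
  have hBa : (C.hh (-1) (-1) : GL chevG2.Idx K) ∈ chevG2.borelSubgroup K :=
    H_le_B (C.hh_mem_H _ _ hm1 hm1)
  -- the lower left entry vanishes as soon as the value is in `B`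
  have key : ∀ g : SpecialLinearGroup (Fin 2) K, psi C.τ g ∈ chevG2.borelSubgroup K →
      g.1 1 0 = 0 := by
    intro g hg
    by_contra hne
    obtain ⟨u, u', p, hp, hpsi⟩ := (hf g).2 hne
    rw [hpsi] at hg
    exact bigcell_not_B C hcan u u' p hp hg
  have h00 : ∀ g : SpecialLinearGroup (Fin 2) K, g.1 1 0 = 0 → g.1 0 0 ≠ 0 := by
    intro g hg h0
    have hd := SL2.det_eq g
    rw [hg, h0] at hd
    simp at hd
  refine ⟨?_, ?_, ?_⟩
  · intro g hg
    have hg10 : g.1 1 0 = 0 := key g (by rw [hg]; exact hB1)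
    have hp := h00 g hg10
    have hpsi := (hf g).1 hg10
    rw [hg] at hpsi
    obtain ⟨hu, hh1⟩ := upper_H C hcan _ _ hp 1 (one_mem _) hpsi.symm
    have hg01 : g.1 0 1 = 0 := by
      rcases mul_eq_zero.mp hu with h | h
      · exact absurd h hp
      · exact h
    rw [← C.hh_one] at hh1
    obtain ⟨hpp, -⟩ := torus_val C _ 1 hp one_ne_zero hh1
    have hd := SL2.det_eq g
    rw [hg10, hg01] at hd
    rcases hpp with h | h
    · left
      apply SL2.sl_ext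
      · rw [h]; simp
      · rw [hg01]; simp
      · rw [hg10]; simp
      · rw [h] at hd
        have : g.1 1 1 = 1 := by linear_combination hd
        rw [this]; simp
    · right
      apply SL2.sl_ext
      · rw [h]; simp
      · rw [hg01]; simp
      · rw [hg10]; simp
      · rw [h] at hd
        have : g.1 1 1 = -1 := by linear_combination -hd
        rw [this]; simp
  · have hpsi := (hf (-1)).1 (by simp)
    rw [hpsi]
    have e00 : ((-1 : SpecialLinearGroup (Fin 2) K)).1 0 0 = -1 := by simp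
    have e01 : ((-1 : SpecialLinearGroup (Fin 2) K)).1 0 1 = 0 := by simp
    rw [e00, e01, mul_zero, RP_zero, one_mul]
    have a1 : C.τ (-1) * (-1 : K) = 1 := by rw [map_neg, map_one]; ring
    have a2 : C.τ (-1) ^ 3 * (-1 : K) = 1 := by rw [map_neg, map_one]; ring
    rw [a1, a2]
    exact C.hh_one
  · intro g hg
    have hg10 : g.1 1 0 = 0 := key g (by rw [hg]; exact hBa)
    have hp := h00 g hg10
    have hpsi := (hf g).1 hg10
    rw [hg] at hpsi
    obtain ⟨-, hh1⟩ := upper_H C hcan _ _ hp _ (C.hh_mem_H _ _ hm1 hm1) hpsi.symm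
    obtain ⟨-, hs⟩ := torus_val C _ (-1) hp hm1 hh1
    exact one_ne_neg_one3 h3 hs.symm

example (hcan : CanonG2 K) (hf : FormStmt C) : KerStmt C := ker C hcan hf

end Cfsg.Agent.H7.R2
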