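import Cfsg.Agent.H7.RTDefs
/-!
Team project S2359 (helper7), piece CONJH (backup copy): a non-trivial element of order dividing
`(q-1)/2` is conjugate into `H¹`.
-/
set_option autoImplicit false
open Cfsg Cfsg.Lie

namespace Cfsg.Agent.H7.RT

open Cfsg.Agent.H22 Cfsg.Agent.H22.GEx Cfsg.Agent.H22.Ree Cfsg.Agent.H45.R2 Cfsg.Agent.H7.RC Matrix

universe u

variable {K : Type u} [Field K] [Fintype K] [CharP K 3] {m : ℕ}

theorem half_odd (m : ℕ) : ¬ 2 ∣ (3 ^ (2 * m + 1) - 1) / 2 := by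
  have hq8 := q_mod8 m
  rintro ⟨k, hk⟩
  generalize 3 ^ (2 * m + 1) = Q at hq8 hk
  omega

theorem conjH (C : Ctx K (3 ^ m)) (hcen : StCentH C) (h1 : StConjH1 K m) : StConjH K m := by
  intro y hy1 hyn
  have hn1 : orderOf y ≠ 1 := fun h => hy1 (orderOf_eq_one_iff.mp h)
  have hn0 : orderOf y ≠ 0 := (orderOf_pos y).ne'
  have hp : (orderOf y).minFac.Prime := Nat.minFac_prime hn1
  have hpn : (orderOf y).minFac ∣ orderOf y := Nat.minFac_dvd _
  have : Fact (orderOf y).minFac.Prime := ⟨hp⟩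
  have hord : orderOf (y ^ (orderOf y / (orderOf y).minFac)) = (orderOf y).minFac :=
    orderOf_pow_orderOf_div hn0 hpn
  obtain ⟨g, hg⟩ := h1 (orderOf y).minFac (dvd_trans hpn hyn) _ hord
  refine ⟨g, ?_⟩
  rw [mem_H1G] at hg ⊢
  have hp2 : (orderOf y).minFac ≠ 2 := by
    intro h2
    have hd : (orderOf y).minFac ∣ (3 ^ (2 * m + 1) - 1) / 2 := dvd_trans hpn hyn
    rw [h2] at hd
    exact half_odd m hd
  have hh2 : ((g * y ^ (orderOf y / (orderOf y).minFac) * g⁻¹ : ↥(twistedG2 K (3 ^ m))) :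
      GL chevG2.Idx K) * ((g * y ^ (orderOf y / (orderOf y).minFac) * g⁻¹ :
      ↥(twistedG2 K (3 ^ m))) : GL chevG2.Idx K) ≠ 1 := by
    intro h
    have h' : (g * y ^ (orderOf y / (orderOf y).minFac) * g⁻¹) *
        (g * y ^ (orderOf y / (orderOf y).minFac) * g⁻¹) = 1 := Subtype.ext h
    have h3 : (y ^ (orderOf y / (orderOf y).minFac)) ^ 2 = 1 := by
      have h4 : g * (y ^ (orderOf y / (orderOf y).minFac)) ^ 2 * g⁻¹ = 1 := by
        rw [← h', pow_two]; group
      have h5 := congrArg (fun z => g⁻¹ * z * g) h4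
      simp only [mul_one, inv_mul_cancel] at h5
      rw [← h5]; group
    have h6 := orderOf_dvd_of_pow_eq_one h3
    rw [hord] at h6
    exact hp2 ((Nat.prime_dvd_prime_iff_eq hp Nat.prime_two).mp h6)
  have hcomm : (g * y * g⁻¹) * (g * y ^ (orderOf y / (orderOf y).minFac) * g⁻¹) =
      (g * y ^ (orderOf y / (orderOf y).minFac) * g⁻¹) * (g * y * g⁻¹) := by
    have h7 : y * y ^ (orderOf y / (orderOf y).minFac) =
        y ^ (orderOf y / (orderOf y).minFac) * y := (pow_mul_comm' y _).symm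
    calc (g * y * g⁻¹) * (g * y ^ (orderOf y / (orderOf y).minFac) * g⁻¹)
        = g * (y * y ^ (orderOf y / (orderOf y).minFac)) * g⁻¹ := by group
      _ = g * (y ^ (orderOf y / (orderOf y).minFac) * y) * g⁻¹ := by rw [h7]
      _ = _ := by group
  exact hcen _ ⟨hg, (g * y ^ (orderOf y / (orderOf y).minFac) * g⁻¹).2⟩ hh2 _ (g * y * g⁻¹).2
    (congrArg Subtype.val hcomm)

example (C : Ctx K (3 ^ m)) (hcen : StCentH C) (h1 : StConjH1 K m) : StConjH K m :=
  conjH C hcen h1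

end Cfsg.Agent.H7.RT
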