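import Cfsg.Agent.H7.RTDefs
/-!
Team project S2359 (helper7), piece CONJH1: an element of prime order `p ∣ (q-1)/2` of `²G₂(q)`
is conjugate into `H¹`.
-/
set_option autoImplicit false
open Cfsg Cfsg.Lie

namespace Cfsg.Agent.H7.RT

open Cfsg.Agent.H22 Cfsg.Agent.H22.GEx Cfsg.Agent.H22.Ree Cfsg.Agent.H45.R2 Cfsg.Agent.H7.RC Matrix

universe u

variable {K : Type u} [Field K] [Fintype K] [CharP K 3] {m : ℕ}

theorem card_H1G (C : Ctx K (3 ^ m)) (hK : Fintype.card K = 3 ^ (2 * m + 1)) :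
    Nat.card ↥(H1G K (3 ^ m)) = 3 ^ (2 * m + 1) - 1 := by
  unfold H1G
  rw [Nat.card_congr (Subgroup.subgroupOfEquivOfLe inf_le_right).toEquiv, C.card_H1 hK]

theorem conjH1 (C : Ctx K (3 ^ m)) (hK : Fintype.card K = 3 ^ (2 * m + 1)) (hcan : CanonG2 K)
    (hW : WeylG2 K) (hconj : StConjInto.{u}) (hNA : StNTA) : StConjH1 K m := by
  intro p hp hpd y hy
  have hq8 := q_mod8 m
  have hq3 : 3 ∣ 3 ^ (2 * m + 1) := dvd_pow_self 3 (by omega)
  have hpq1 : p ∣ 3 ^ (2 * m + 1) - 1 :=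
    dvd_trans hpd (Nat.div_dvd_of_dvd (by omega))
  have hp2 : p ≠ 2 := by
    rintro rfl
    obtain ⟨k, hk'⟩ := hpd
    omega
  have hp3 : p ≠ 3 := by
    rintro rfl
    obtain ⟨k, hk'⟩ := hpq1
    obtain ⟨j, hj⟩ := hq3
    omega
  have hp5 : 3 < p := by
    have h2 := hp.out.two_le
    by_contra hlt
    have : p = 2 ∨ p = 3 := by omega
    rcases this with h | h
    · exact hp2 h
    · exact hp3 h
  have hpq : ¬ p ∣ 3 ^ (2 * m + 1) := by
    intro h
    have h0 : 3 ^ (2 * m + 1) = (3 ^ (2 * m + 1) - 1) + 1 := by omega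
    rw [h0] at h
    have h1 : p ∣ 1 := (Nat.dvd_add_right hpq1).mp h
    have := Nat.le_of_dvd one_pos h1
    omega
  have hqge : 2 ≤ 3 ^ (2 * m + 1) := by omega
  have hnta := (hNA (3 ^ (2 * m + 1)) p hqge hp.out hp5 hpq).1 hpq1
  have hle : (Nat.card ↥(twistedG2 K (3 ^ m))).factorization p ≤
      (Nat.card ↥(H1G K (3 ^ m))).factorization p := by
    rw [C.card_twisted hK hcan hW, card_H1G C hK]
    exact hnta
  exact hconj ↥(twistedG2 K (3 ^ m)) p (H1G K (3 ^ m)) hle y hy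

example (C : Ctx K (3 ^ m)) (hK : Fintype.card K = 3 ^ (2 * m + 1)) (hcan : CanonG2 K)
    (hW : WeylG2 K) (hconj : StConjInto.{u}) (hNA : StNTA) : StConjH1 K m :=
  conjH1 C hK hcan hW hconj hNA

end Cfsg.Agent.H7.RT
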