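import Cfsg.Agent.H7.RTDefs
/-!
Team project S2359 (helper7), piece CONJPSI (backup copy): a non-trivial element of order dividing
`(q+1)/4` is conjugate to some `ψ(t)`.
-/
set_option autoImplicit false
open Cfsg Cfsg.Lie

namespace Cfsg.Agent.H7.RT

open Cfsg.Agent.H22 Cfsg.Agent.H22.GEx Cfsg.Agent.H22.Ree Cfsg.Agent.H45.R2 Cfsg.Agent.H7.RC Matrix

universe u

theorem quarter_odd (m : ℕ) : Odd ((3 ^ (2 * m + 1) + 1) / 4) := by
  have hq8 := q_mod8 m
  rw [Nat.odd_iff]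
  generalize 3 ^ (2 * m + 1) = Q at hq8 ⊢
  omega

theorem four_dvd (m : ℕ) : 4 ∣ 3 ^ (2 * m + 1) + 1 := by
  have hq8 := q_mod8 m
  generalize 3 ^ (2 * m + 1) = Q at hq8 ⊢
  omega

theorem orderOf_conj' {G : Type*} [Group G] (g z : G) : orderOf (g * z * g⁻¹) = orderOf z := by
  rw [← MulAut.conj_apply]
  exact (MulAut.conj g).orderOf_eq z

variable {K : Type u} [Field K] [Fintype K] [CharP K 3] {m : ℕ}

theorem conjPsi (C : Ctx K (3 ^ m)) (hc : CommStmt (K := K)) (hmem : MemStmt C)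
    (hac : ACommStmt C) (hdm : StDMem C hc hmem) (hlift : StLift C hc hmem)
    (hcore : StCoreB' C hc hmem) (h1 : StConjPsi1 C hc hmem) : StConjPsi C hc hmem := by
  intro y hy1 hyn
  have hn1 : orderOf y ≠ 1 := fun h => hy1 (orderOf_eq_one_iff.mp h)
  have hn0 : orderOf y ≠ 0 := (orderOf_pos y).ne'
  obtain ⟨p, hpdef⟩ : ∃ p, p = (orderOf y).minFac := ⟨_, rfl⟩
  have hp : p.Prime := by rw [hpdef]; exact Nat.minFac_prime hn1
  have hpn : p ∣ orderOf y := by rw [hpdef]; exact Nat.minFac_dvd _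
  have : Fact p.Prime := ⟨hp⟩
  have hord : orderOf (y ^ (orderOf y / p)) = p := orderOf_pow_orderOf_div hn0 hpn
  have hq4 : (3 ^ (2 * m + 1) + 1) / 4 ∣ 3 ^ (2 * m + 1) + 1 := Nat.div_dvd_of_dvd (four_dvd m)
  have hyodd : Odd (orderOf y) := Odd.of_dvd_nat (quarter_odd m) hyn
  have hpodd : Odd p := Odd.of_dvd_nat hyodd hpn
  obtain ⟨g, s, hgs⟩ := h1 p (dvd_trans hpn hyn) _ hord
  have hxord : orderOf (psiG C hc hmem s) = p := by
    rw [← hgs, orderOf_conj', hord]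
  have hx1 : psiG C hc hmem s ≠ 1 := by
    intro h
    rw [h, orderOf_one] at hxord
    exact hp.one_lt.ne hxord
  obtain ⟨t₀, ht₀, ht₀1, ht₀o⟩ := hlift (psiG C hc hmem s) hx1 (by rw [hxord]; exact hpodd)
    (aEl_comm C hc hmem hac s).symm
  have ht₀p : orderOf t₀ = p := by
    rw [hxord] at ht₀o
    rcases (Nat.dvd_prime hp).mp ht₀o with h | h
    · exact absurd (orderOf_eq_one_iff.mp h) ht₀1
    · exact h
  have ht₀d : orderOf t₀ ∣ 3 ^ (2 * m + 1) + 1 := by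
    rw [ht₀p]
    exact dvd_trans (dvd_trans hpn hyn) hq4
  have hz : (g * y * g⁻¹) * psiG C hc hmem t₀ = psiG C hc hmem t₀ * (g * y * g⁻¹) := by
    rw [ht₀, ← hgs]
    have h7 : y * y ^ (orderOf y / p) = y ^ (orderOf y / p) * y := (pow_mul_comm' y _).symm
    calc (g * y * g⁻¹) * (g * y ^ (orderOf y / p) * g⁻¹)
        = g * (y * y ^ (orderOf y / p)) * g⁻¹ := by group
      _ = g * (y ^ (orderOf y / p) * y) * g⁻¹ := by rw [h7]
      _ = _ := by group
  have hzD := hcore t₀ ht₀1 (by rw [ht₀p]; exact hpodd) ht₀d (g * y * g⁻¹) hz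
  obtain ⟨s', hs', hcase⟩ := (hdm t₀ _).mp hzD
  have hza : (g * y * g⁻¹) * aEl C = aEl C * (g * y * g⁻¹) := by
    rcases hcase with h | h
    · rw [h]
      exact (aEl_comm C hc hmem hac s').symm
    · rw [h, mul_assoc, ← aEl_comm C hc hmem hac s']
  have hzord : orderOf (g * y * g⁻¹) = orderOf y := orderOf_conj' g y
  have hz1 : g * y * g⁻¹ ≠ 1 := by
    intro h
    apply hn1
    rw [← hzord, h, orderOf_one]
  obtain ⟨t, ht, ht1, hto⟩ := hlift (g * y * g⁻¹) hz1 (by rw [hzord]; exact hyodd) hza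
  rw [hzord] at hto
  exact ⟨g, t, ht.symm, ht1, Odd.of_dvd_nat hyodd hto, dvd_trans hto (dvd_trans hyn hq4)⟩

example (C : Ctx K (3 ^ m)) (hc : CommStmt (K := K)) (hmem : MemStmt C)
    (hac : ACommStmt C) (hdm : StDMem C hc hmem) (hlift : StLift C hc hmem)
    (hcore : StCoreB' C hc hmem) (h1 : StConjPsi1 C hc hmem) : StConjPsi C hc hmem :=
  conjPsi C hc hmem hac hdm hlift hcore h1

end Cfsg.Agent.H7.RT
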