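import Cfsg.Agent.H7.RTDefs
import Cfsg.Agent.H44.SL2Card
/-!
Team project S2359 (helper7), piece CONJPSI1: an element of prime order `p ∣ (q+1)/4` of `²G₂(q)`
is conjugate into `ψ(SL₂(q))`.
-/
set_option autoImplicit false
open Cfsg Cfsg.Lie

namespace Cfsg.Agent.H7.RT

open Cfsg.Agent.H22 Cfsg.Agent.H22.GEx Cfsg.Agent.H22.Ree Cfsg.Agent.H45.R2 Cfsg.Agent.H7.RC Matrix

universe u

variable {K : Type u} [Field K] [Fintype K] [CharP K 3] {m : ℕ}

theorem conjPsi1 (C : Ctx K (3 ^ m)) (hK : Fintype.card K = 3 ^ (2 * m + 1)) (hcan : CanonG2 K)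
    (hW : WeylG2 K) (hc : CommStmt (K := K)) (hmem : MemStmt C) (hk : KerStmt C)
    (hconj : StConjInto.{u}) (hNA : StNTA) : StConjPsi1 C hc hmem := by
  intro p hp hpd y hy
  have hq8 := q_mod8 m
  have hq3 : 3 ∣ 3 ^ (2 * m + 1) := dvd_pow_self 3 (by omega)
  have hpq1 : p ∣ 3 ^ (2 * m + 1) + 1 :=
    dvd_trans hpd (Nat.div_dvd_of_dvd (by omega))
  have hp2 : p ≠ 2 := by
    rintro rfl
    obtain ⟨k, hk'⟩ := hpd
    omega
  have hp3 : p ≠ 3 := by
    rintro rfl
    obtain ⟨k, hk'⟩ := hpq1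
    obtain ⟨j, hj⟩ := hq3
    omega
  have hp5 : 3 < p := by
    have h2 := hp.out.two_le
    by_contra hlt
    have : p = 2 ∨ p = 3 := by omega
    rcases this with h | h
    · exact hp2 h
    · exact hp3 h
  have hpq : ¬ p ∣ 3 ^ (2 * m + 1) := by
    intro h
    have h1 : p ∣ 1 := (Nat.dvd_add_right h).mp hpq1
    have := Nat.le_of_dvd one_pos h1
    omega
  have hqge : 2 ≤ 3 ^ (2 * m + 1) := by omega
  have hnta := (hNA (3 ^ (2 * m + 1)) p hqge hp.out hp5 hpq).2.1 hpq1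
  -- the range of `ψ`
  have hker : (psiG C hc hmem).ker ≤
      Subgroup.zpowers (-1 : SpecialLinearGroup (Fin 2) K) := by
    intro x hx
    rcases psiG_eq_one C hc hmem hk x hx with h | h
    · rw [h]; exact one_mem _
    · rw [h]; exact Subgroup.mem_zpowers _
  have hk2 : Nat.card ↥(psiG C hc hmem).ker ∣ 2 := by
    refine dvd_trans (Subgroup.card_dvd_of_le hker) ?_
    rw [Nat.card_zpowers]
    exact orderOf_dvd_of_pow_eq_one (by rw [pow_two, neg_mul_neg, one_mul])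
  have hSL : Nat.card (SpecialLinearGroup (Fin 2) K) =
      3 ^ (2 * m + 1) * ((3 ^ (2 * m + 1)) ^ 2 - 1) := by
    rw [Cfsg.Agent.H44.card_SL2, hK]
  have hidx := Subgroup.card_mul_index (psiG C hc hmem).ker
  rw [Subgroup.index_ker, hSL] at hidx
  have hdvd : 3 ^ (2 * m + 1) * ((3 ^ (2 * m + 1)) ^ 2 - 1) ∣
      2 * Nat.card ↥(psiG C hc hmem).range := by
    rw [← hidx]
    exact Nat.mul_dvd_mul_right hk2 _
  have hr0 : Nat.card ↥(psiG C hc hmem).range ≠ 0 := Nat.card_pos.ne'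
  have hle : (Nat.card ↥(twistedG2 K (3 ^ m))).factorization p ≤
      (Nat.card ↥(psiG C hc hmem).range).factorization p := by
    rw [C.card_twisted hK hcan hW]
    refine le_trans hnta ?_
    have h1 : 3 ^ (2 * m + 1) * ((3 ^ (2 * m + 1)) ^ 2 - 1) ≠ 0 := by
      intro h0
      rw [h0] at hdvd
      have := eq_zero_of_zero_dvd hdvd
      omega
    have h2 := (Nat.factorization_le_iff_dvd h1 (by omega)).mpr hdvd p
    rw [Nat.factorization_mul (by norm_num) hr0, Finsupp.add_apply,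
      Nat.factorization_eq_zero_of_not_dvd (n := 2) (p := p) (fun h =>
        hp2 ((Nat.prime_dvd_prime_iff_eq hp.out Nat.prime_two).mp h)), zero_add] at h2
    exact h2
  obtain ⟨g, hg⟩ := hconj ↥(twistedG2 K (3 ^ m)) p (psiG C hc hmem).range hle y hy
  obtain ⟨s, hs⟩ := hg
  exact ⟨g, s, hs.symm⟩

example (C : Ctx K (3 ^ m)) (hK : Fintype.card K = 3 ^ (2 * m + 1)) (hcan : CanonG2 K)
    (hW : WeylG2 K) (hc : CommStmt (K := K)) (hmem : MemStmt C) (hk : KerStmt C)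
    (hconj : StConjInto.{u}) (hNA : StNTA) : StConjPsi1 C hc hmem :=
  conjPsi1 C hK hcan hW hc hmem hk hconj hNA

end Cfsg.Agent.H7.RT
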