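import Cfsg.Agent.H7.RTConjPsi
/-!
Team project S2359 (helper7), piece H3 (backup copy): for an involution `v` commuting with `ψ(t)`
the group `C_G(ψ(t)) ∩ C_G(v)` is abelian.
-/
set_option autoImplicit false
open Cfsg Cfsg.Lie

namespace Cfsg.Agent.H7.RT

open Cfsg.Agent.H22 Cfsg.Agent.H22.GEx Cfsg.Agent.H22.Ree Cfsg.Agent.H45.R2 Cfsg.Agent.H7.RC Matrix

universe u

variable {K : Type u} [Field K] [Fintype K] [CharP K 3] {m : ℕ}

theorem h3 (C : Ctx K (3 ^ m)) (hc : CommStmt (K := K)) (hmem : MemStmt C)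
    (hinv : ∀ u v : ↥(twistedG2 K (3 ^ m)), u ≠ 1 → u * u = 1 → v ≠ 1 → v * v = 1 →
      ∃ g, g * u * g⁻¹ = v)
    (hlift : StLift C hc hmem) (hdab : StDAb C hc hmem) (hdc : StDCent C hc hmem) :
    StH3 C hc hmem := by
  intro t ht1 hodd hdvd v hv1 hv2 hvx y₁ y₂ h1x h1v h2x h2v
  obtain ⟨g, hg⟩ := hinv v (aEl C) hv1 hv2 (aEl_ne_one C) (aEl_mul_self C)
  have conj_comm : ∀ y z : ↥(twistedG2 K (3 ^ m)), y * z = z * y →
      (g * y * g⁻¹) * (g * z * g⁻¹) = (g * z * g⁻¹) * (g * y * g⁻¹) := by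
    intro y z h
    calc (g * y * g⁻¹) * (g * z * g⁻¹) = g * (y * z) * g⁻¹ := by group
      _ = g * (z * y) * g⁻¹ := by rw [h]
      _ = _ := by group
  have key : ∀ t' : SpecialLinearGroup (Fin 2) K, t' ≠ 1 → Odd (orderOf t') →
      orderOf t' ∣ 3 ^ (2 * m + 1) + 1 →
      psiG C hc hmem t' = g * psiG C hc hmem t * g⁻¹ → y₁ * y₂ = y₂ * y₁ := by
    intro t' ht'1 hodd' hdvd' hpsi
    have m1 : g * y₁ * g⁻¹ ∈ DSub C hc hmem t' :=
      hdc t' ht'1 hodd' _ (by rw [hpsi]; exact conj_comm _ _ h1x)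
        (by rw [← hg]; exact conj_comm _ _ h1v)
    have m2 : g * y₂ * g⁻¹ ∈ DSub C hc hmem t' :=
      hdc t' ht'1 hodd' _ (by rw [hpsi]; exact conj_comm _ _ h2x)
        (by rw [← hg]; exact conj_comm _ _ h2v)
    have h12 := (hdab t' ht'1 hodd' hdvd').1 _ m1 _ m2
    calc y₁ * y₂ = g⁻¹ * ((g * y₁ * g⁻¹) * (g * y₂ * g⁻¹)) * g := by group
      _ = g⁻¹ * ((g * y₂ * g⁻¹) * (g * y₁ * g⁻¹)) * g := by rw [h12]
      _ = y₂ * y₁ := by group
  by_cases hx : g * psiG C hc hmem t * g⁻¹ = 1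
  · have hpt : psiG C hc hmem t = 1 := by
      calc psiG C hc hmem t = g⁻¹ * (g * psiG C hc hmem t * g⁻¹) * g := by group
        _ = 1 := by rw [hx]; group
    exact key t ht1 hodd hdvd (by rw [hx, hpt])
  · have hxo : orderOf (g * psiG C hc hmem t * g⁻¹) = orderOf (psiG C hc hmem t) :=
      orderOf_conj' g _
    have hxo2 : orderOf (psiG C hc hmem t) ∣ orderOf t := orderOf_map_dvd _ t
    have hxodd : Odd (orderOf (g * psiG C hc hmem t * g⁻¹)) := by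
      rw [hxo]
      exact Odd.of_dvd_nat hodd hxo2
    have hxa : (g * psiG C hc hmem t * g⁻¹) * aEl C = aEl C * (g * psiG C hc hmem t * g⁻¹) := by
      rw [← hg]
      exact conj_comm _ _ hvx.symm
    obtain ⟨t', ht', ht'1, ht'o⟩ := hlift _ hx hxodd hxa
    rw [hxo] at ht'o
    exact key t' ht'1 (Odd.of_dvd_nat hodd (dvd_trans ht'o hxo2))
      (dvd_trans (dvd_trans ht'o hxo2) hdvd) ht'

example (C : Ctx K (3 ^ m)) (hc : CommStmt (K := K)) (hmem : MemStmt C)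
    (hinv : ∀ u v : ↥(twistedG2 K (3 ^ m)), u ≠ 1 → u * u = 1 → v ≠ 1 → v * v = 1 →
      ∃ g, g * u * g⁻¹ = v)
    (hlift : StLift C hc hmem) (hdab : StDAb C hc hmem) (hdc : StDCent C hc hmem) :
    StH3 C hc hmem := h3 C hc hmem hinv hlift hdab hdc

end Cfsg.Agent.H7.RT
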