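import Cfsg.Agent.H7.RTConjPsi
/-!
Team project S2359 (helper7), piece NOTHREE (parallel copy): in `²G₂(q)` a non-trivial element of
odd order dividing `q + 1` commutes with no element of order 3.
-/
set_option autoImplicit false
open Cfsg Cfsg.Lie
open scoped Pointwise

namespace Cfsg.Agent.H7.RT

open Cfsg.Agent.H22 Cfsg.Agent.H22.GEx Cfsg.Agent.H22.Ree Cfsg.Agent.H45.R2 Cfsg.Agent.H7.RC Matrix

universe u

theorem arith_no3 (q d : ℕ) (hq : 1 ≤ q) (h1 : d ∣ q ^ 3 * (q - 1)) (h2 : d ∣ q + 1)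
    (hodd : Odd d) : d = 1 := by
  have hc : Nat.Coprime q (q + 1) := Nat.coprime_self_add_right.mpr (Nat.coprime_one_right q)
  have hdq : Nat.Coprime d q := Nat.Coprime.coprime_dvd_left h2 hc.symm
  have hdq3 : Nat.Coprime d (q ^ 3) := Nat.Coprime.pow_right 3 hdq
  have hd2 : d ∣ q - 1 := hdq3.dvd_of_dvd_mul_left h1
  have hd3 : d ∣ 2 := by
    have e : q + 1 = (q - 1) + 2 := by omega
    rw [e] at h2
    exact (Nat.dvd_add_right hd2).mp h2
  rcases (Nat.dvd_prime Nat.prime_two).mp hd3 with h | h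
  · exact h
  · rw [h] at hodd
    exact absurd hodd (by decide)

variable {K : Type u} [Field K] [Fintype K] [CharP K 3] {m : ℕ}

theorem noThree (C : Ctx K (3 ^ m)) (hK : Fintype.card K = 3 ^ (2 * m + 1)) (hcan : CanonG2 K)
    (hW : WeylG2 K) : StNoThree K m := by
  intro x y hx1 hxodd hxdvd hyx hy3
  have : Fact (Nat.Prime 3) := ⟨Nat.prime_three⟩
  obtain ⟨P₀, hP₀⟩ := C.exists_sylow_eq_U1 hK hcan hW
  have hy1 : y ≠ 1 := by
    intro h
    rw [h, orderOf_one] at hy3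
    omega
  have hyP : IsPGroup 3 ↥(Subgroup.zpowers y) :=
    IsPGroup.of_card (n := 1) (by rw [Nat.card_zpowers, hy3, pow_one])
  obtain ⟨P, hP⟩ := hyP.exists_le_sylow
  have hyP' : y ∈ (P : Subgroup ↥(twistedG2 K (3 ^ m))) := hP (Subgroup.mem_zpowers y)
  have hxP : x • P = P := by
    by_contra hne
    have hTI := C.sylow3_TI hK hcan hW (x • P) P hne
    have hmem1 : y ∈ ((x • P : Sylow 3 ↥(twistedG2 K (3 ^ m))) :
        Subgroup ↥(twistedG2 K (3 ^ m))) := by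
      rw [Sylow.coe_subgroup_smul, Subgroup.mem_pointwise_smul_iff_inv_smul_mem, MulAut.smul_def,
        MulAut.conj_inv_apply]
      have e : x⁻¹ * y * x = y := by
        rw [mul_assoc, hyx, ← mul_assoc, inv_mul_cancel, one_mul]
      rw [e]
      exact hyP'
    have hmem : y ∈ ((x • P : Sylow 3 ↥(twistedG2 K (3 ^ m))) :
        Subgroup ↥(twistedG2 K (3 ^ m))) ⊓ (P : Subgroup ↥(twistedG2 K (3 ^ m))) :=
      Subgroup.mem_inf.mpr ⟨hmem1, hyP'⟩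
    rw [hTI, Subgroup.mem_bot] at hmem
    exact hy1 hmem
  obtain ⟨g, rfl⟩ := MulAction.exists_smul_eq ↥(twistedG2 K (3 ^ m)) P₀ P
  have hx' : (g⁻¹ * x * g) • P₀ = P₀ := by
    rw [mul_smul, mul_smul, hxP, inv_smul_smul]
  have hnorm : ∀ w : ↥(twistedG2 K (3 ^ m)), w ∈ U1sub K (3 ^ m) →
      (g⁻¹ * x * g) * w * (g⁻¹ * x * g)⁻¹ ∈ U1sub K (3 ^ m) := by
    intro w hw
    have h1 : (g⁻¹ * x * g) * w * (g⁻¹ * x * g)⁻¹ ∈
        (((g⁻¹ * x * g) • P₀ : Sylow 3 ↥(twistedG2 K (3 ^ m))) :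
          Subgroup ↥(twistedG2 K (3 ^ m))) := by
      rw [Sylow.coe_subgroup_smul, Subgroup.mem_pointwise_smul_iff_inv_smul_mem, MulAut.smul_def,
        MulAut.conj_inv_apply, hP₀]
      have e : (g⁻¹ * x * g)⁻¹ * ((g⁻¹ * x * g) * w * (g⁻¹ * x * g)⁻¹) * (g⁻¹ * x * g) = w := by
        group
      rw [e]
      exact hw
    rw [hx', hP₀] at h1
    exact h1
  -- a non-trivial element of `U¹`
  obtain ⟨w₀, hw₀⟩ : ∃ w₀ : ↥(chevG2.posUnipotent K ⊓ twistedG2 K (3 ^ m)), w₀ ≠ 1 := by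
    have hcard : 1 < Nat.card ↥(chevG2.posUnipotent K ⊓ twistedG2 K (3 ^ m)) := by
      rw [C.card_eq, Nat.card_eq_fintype_card, hK]
      have : 1 < 3 ^ (2 * m + 1) := Nat.one_lt_pow (by omega) (by norm_num)
      calc 1 < 3 ^ (2 * m + 1) := this
        _ ≤ (3 ^ (2 * m + 1)) ^ 3 := Nat.le_self_pow (by norm_num) _
    have : Nontrivial ↥(chevG2.posUnipotent K ⊓ twistedG2 K (3 ^ m)) :=
      Finite.one_lt_card_iff_nontrivial.mp hcard
    exact exists_ne 1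
  -- `x' = g⁻¹ x g` lies in `B`
  have hB : ((g⁻¹ * x * g : ↥(twistedG2 K (3 ^ m))) : GL chevG2.Idx K) ∈
      chevG2.borelSubgroup K ⊓ twistedG2 K (3 ^ m) := by
    rcases C.mem_decomp hK hcan hW _ (g⁻¹ * x * g).2 with hb | ⟨b, hb, u, hu, hk⟩
    · exact hb
    · exfalso
      have hwU : u⁻¹ * (w₀ : GL chevG2.Idx K) * u ∈ chevG2.posUnipotent K ⊓ twistedG2 K (3 ^ m) :=
        mul_mem (mul_mem (inv_mem hu) w₀.2) hu
      have h1 := hnorm ⟨u⁻¹ * (w₀ : GL chevG2.Idx K) * u, hwU.2⟩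
        ((mem_U1sub _).mpr hwU.1)
      rw [mem_U1sub] at h1
      have e1 : (((g⁻¹ * x * g) * ⟨u⁻¹ * (w₀ : GL chevG2.Idx K) * u, hwU.2⟩ * (g⁻¹ * x * g)⁻¹ :
          ↥(twistedG2 K (3 ^ m))) : GL chevG2.Idx K) =
          b * ((C.n0 : GL chevG2.Idx K) * (w₀ : GL chevG2.Idx K) * (C.n0 : GL chevG2.Idx K)⁻¹) *
            b⁻¹ := by
        rw [Subgroup.coe_mul, Subgroup.coe_mul, Subgroup.coe_inv, hk]
        show b * (C.n0 : GL chevG2.Idx K) * u * (u⁻¹ * (w₀ : GL chevG2.Idx K) * u) *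
          (b * (C.n0 : GL chevG2.Idx K) * u)⁻¹ = _
        group
      rw [e1] at h1
      have h2 := C.B_conj_U _ _ (inv_mem hb.1) h1
      have e2 : b⁻¹ * (b * ((C.n0 : GL chevG2.Idx K) * (w₀ : GL chevG2.Idx K) *
          (C.n0 : GL chevG2.Idx K)⁻¹) * b⁻¹) * b⁻¹⁻¹ =
          (C.n0 : GL chevG2.Idx K) * (w₀ : GL chevG2.Idx K) * (C.n0 : GL chevG2.Idx K)⁻¹ := by
        group
      rw [e2] at h2
      have h3 := C.U_inf_conj hcan _ _ h2 w₀.2.1 rfl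
      apply hw₀
      apply Subtype.ext
      have e3 : (w₀ : GL chevG2.Idx K) = (C.n0 : GL chevG2.Idx K)⁻¹ *
          ((C.n0 : GL chevG2.Idx K) * (w₀ : GL chevG2.Idx K) * (C.n0 : GL chevG2.Idx K)⁻¹) *
          (C.n0 : GL chevG2.Idx K) := by group
      rw [e3, h3]
      show (C.n0 : GL chevG2.Idx K)⁻¹ * 1 * (C.n0 : GL chevG2.Idx K) = 1
      group
  -- orders
  have ho1 : orderOf ((g⁻¹ * x * g : ↥(twistedG2 K (3 ^ m))) : GL chevG2.Idx K) = orderOf x := by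
    rw [Subgroup.orderOf_coe]
    have := orderOf_conj' g⁻¹ x
    rwa [inv_inv] at this
  have ho2 := Subgroup.orderOf_dvd_natCard _ hB
  rw [ho1, C.card_B1 hK hcan, C.card_eq, C.card_H1 hK, Nat.card_eq_fintype_card, hK] at ho2
  have hd := arith_no3 (3 ^ (2 * m + 1)) (orderOf x) (Nat.one_le_pow _ _ (by norm_num)) ho2 hxdvd
    hxodd
  exact hx1 (orderOf_eq_one_iff.mp hd)

example (C : Ctx K (3 ^ m)) (hK : Fintype.card K = 3 ^ (2 * m + 1)) (hcan : CanonG2 K)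
    (hW : WeylG2 K) : StNoThree K m := noThree C hK hcan hW

end Cfsg.Agent.H7.RT
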