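import Cfsg.Agent.H7.RTMain
import Cfsg.Agent.H7.RTConjH1
import Cfsg.Agent.H7.RTConjH
import Cfsg.Agent.H7.RTConjPsi1
import Cfsg.Agent.H7.RTConjPsi
import Cfsg.Agent.H7.RTH3
import Cfsg.Agent.H7.RTNoThree
import Cfsg.Agent.H91.RTSL2Tor
import Cfsg.Agent.H12.RTCoreA
import Cfsg.Agent.H12.RTCoreB
import Cfsg.Agent.H12.RTDAb
import Cfsg.Agent.H73.RTDCard
import Cfsg.Agent.H73.RTDV
/-!
Team project S2359 (helper7): the final statement, every piece plugged in.

For `G = ²G₂(q)`, `q = 3^(2m+1) ≥ 27`, and a cyclic subgroup `H`: if `|H| = (q-1)/2` then `C_G(H)`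
is cyclic of order `q - 1`; if `|H| = (q+1)/4` then `C_G(H)` is abelian of order `q + 1` without
elements of order 4; in both cases every non-trivial subgroup of `H` has the same centralizer.
Inputs: a Ree context, the canonical form / Weyl group statements for `G₂` (S1077, S1026, S1100,
S1039 in the statement file) and the results of S1152 (Sylow 2-subgroups elementary abelian of
order 8), S1157 (`C(S) = S`, `|N(S)| = 168`) and S1156 (cyclic Sylow `p`-subgroups, `p > 3`).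

Pieces: CONJINTO, TWOBOUND, BURN (helper37), NORMCENT, FOURCYC, INVSYL, INVCONJ (helper80), FINAL,
NO4, ABSNC, ABSK (helper72), SL2TOR, SL2I (helper91), COREA, COREB, DAB (helper12), DV, DCARD
(helper73), the rest helper7; of helper45's project S1152/S1157: comm, val, tor, cent (helper45),
mem, acomm (helper15), form, hform (helper40), ufix, conjR (helper19), ker (helper7); NTA
(helper19).
-/
set_option autoImplicit false
open Cfsg Cfsg.Lie

namespace Cfsg.Agent.H7.RT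

open Cfsg.Agent.H22 Cfsg.Agent.H22.GEx Cfsg.Agent.H22.Ree Cfsg.Agent.H45.R2 Cfsg.Agent.H7.RC Matrix

universe u

theorem s2359 {K : Type u} [Field K] [Fintype K] [CharP K 3] {m : ℕ} (C : Ctx K (3 ^ m))
    (hK : Fintype.card K = 3 ^ (2 * m + 1)) (hm : 1 ≤ m) (hcan : CanonG2 K) (hW : WeylG2 K)
    (h1152 : ∀ S : Sylow 2 ↥(twistedG2 K (3 ^ m)), Nat.card S = 8 ∧ ∀ x ∈ S, x * x = 1)
    (h1157 : ∀ S : Sylow 2 ↥(twistedG2 K (3 ^ m)),
      Subgroup.centralizer ((S : Subgroup ↥(twistedG2 K (3 ^ m))) : Set ↥(twistedG2 K (3 ^ m))) =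
        S ∧ Nat.card ↥(Subgroup.normalizer
          ((S : Subgroup ↥(twistedG2 K (3 ^ m))) : Set ↥(twistedG2 K (3 ^ m)))) = 168)
    (h1156 : ∀ (p : ℕ) [Fact p.Prime], 3 < p → ∀ P : Sylow p ↥(twistedG2 K (3 ^ m)),
      IsCyclic ↥(P : Subgroup ↥(twistedG2 K (3 ^ m))))
    (H : Subgroup ↥(twistedG2 K (3 ^ m))) (hH : IsCyclic H) :
    (Nat.card H = (3 ^ (2 * m + 1) - 1) / 2 →
      IsCyclic ↥(Subgroup.centralizer (H : Set ↥(twistedG2 K (3 ^ m)))) ∧
        Nat.card ↥(Subgroup.centralizer (H : Set ↥(twistedG2 K (3 ^ m)))) = 3 ^ (2 * m + 1) - 1 ∧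
        ∀ A : Subgroup ↥(twistedG2 K (3 ^ m)), A ≤ H → A ≠ ⊥ →
          Subgroup.centralizer (A : Set ↥(twistedG2 K (3 ^ m))) =
            Subgroup.centralizer (H : Set ↥(twistedG2 K (3 ^ m)))) ∧
    (Nat.card H = (3 ^ (2 * m + 1) + 1) / 4 →
      IsMulCommutative ↥(Subgroup.centralizer (H : Set ↥(twistedG2 K (3 ^ m)))) ∧
        Nat.card ↥(Subgroup.centralizer (H : Set ↥(twistedG2 K (3 ^ m)))) = 3 ^ (2 * m + 1) + 1 ∧
        (∀ x ∈ Subgroup.centralizer (H : Set ↥(twistedG2 K (3 ^ m))), orderOf x ≠ 4) ∧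
        ∀ A : Subgroup ↥(twistedG2 K (3 ^ m)), A ≤ H → A ≠ ⊥ →
          Subgroup.centralizer (A : Set ↥(twistedG2 K (3 ^ m))) =
            Subgroup.centralizer (H : Set ↥(twistedG2 K (3 ^ m)))) :=
  s2359_of C hK hm hcan hW h1152 h1157 h1156
    Cfsg.Agent.H91.RT.sl2Tor Cfsg.Agent.H91.RT.sl2I
    (fun hconj hnta => conjH1 C hK hcan hW hconj hnta)
    (fun hcen h1 => conjH C hcen h1)
    (fun hcen hcj => Cfsg.Agent.H12.RT.coreA C hK hcen hcj)
    (fun hc hmem hac hdm hT => Cfsg.Agent.H12.RT.dAb C hK hc hmem hac hdm hT)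
    (fun hc hmem hac hk hdm hT => Cfsg.Agent.H73.RT.dCard C hK hc hmem hac hk hdm hT)
    (fun hc hmem hac hk hdm hI => Cfsg.Agent.H73.RT.dV C hK hc hmem hac hk hdm hI)
    (noThree C hK hcan hW)
    (fun hc hmem hinv hl hdab hdc => h3 C hc hmem hinv hl hdab hdc)
    (fun hc hmem hk hconj hnta => conjPsi1 C hK hcan hW hc hmem hk hconj hnta)
    (fun hc hmem hac hdm hl hcore h1 => conjPsi C hc hmem hac hdm hl hcore h1)
    (fun hc hmem hcp hcore hds => Cfsg.Agent.H12.RT.coreB C hc hmem hcp hcore hds)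
    H hH

end Cfsg.Agent.H7.RT
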