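import Mathlib
import Cfsg.Prelude.Def_LieTwisted
import Cfsg.Agent.H7.RCDefs0
/-!
Team project S1156 (helper7): the pieces about the 7-dimensional invariant subspace of the
adjoint module of `G₂` in characteristic 3 (spanned by `h_a` and the short root vectors).
Needs only the definitions of the Chevalley group `G₂` and of the twisted group `²G₂`.
-/
set_option autoImplicit false
open Cfsg Cfsg.Lie

namespace Cfsg.Agent.H7.RC

open Matrix

universe u v

/-- block function: `0` on `h_a` and on the six short root vectors `±a, ±(a+b), ±(2a+b)`
(root indices `7, 4, 8, 3, 9, 2`), `1` on `h_b` and the long root vectors -/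
def bS : chevG2.Idx → ℕ
  | Sum.inl i => if i.val = 0 then 0 else 1
  | Sum.inr s =>
    if s.val = 2 ∨ s.val = 3 ∨ s.val = 4 ∨ s.val = 7 ∨ s.val = 8 ∨ s.val = 9 then 0 else 1

/-- the index set of the invariant subspace -/
abbrev SIdx : Type := {i : chevG2.Idx // bS i = 0}

theorem card_SIdx : Fintype.card SIdx = 7 := by decide

/-- (INVGEN) in characteristic 3 every root element `x_r(t)` of `G₂` is block triangular:
its entries `(i, j)` vanish when `j` is in the short block and `i` is not -/
def StInvGen (K : Type*) [Field K] : Prop :=
  ∀ (r : ℕ) (t : K), Matrix.BlockTriangular (chevG2.x K r t) bS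

/-- (INVTW) the elements of the twisted group are block triangular -/
def StInvTw (K : Type*) [Field K] (e : ℕ) : Prop :=
  ∀ g : GL chevG2.Idx K, g ∈ twistedG2 K e →
    Matrix.BlockTriangular ((g : GL chevG2.Idx K) : Matrix chevG2.Idx chevG2.Idx K) bS

/-- (FAITH) the twisted group acts faithfully on the 7-dimensional invariant subspace -/
def StFaith (K : Type*) [Field K] (e : ℕ) : Prop :=
  ∃ f : ↥(twistedG2 K e) →* GL SIdx K, Function.Injective f

end Cfsg.Agent.H7.RC
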