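import Cfsg.Agent.H22.ReeSimple
import Cfsg.Agent.H22.ReeH1
import Cfsg.Agent.H7.RCDefs1
/-!
Team project S1156 (helper7), piece FAITH: `²G₂(q)`, `q ≥ 27`, acts faithfully on the
7-dimensional invariant subspace (the group is simple and `h(-1,-1)` acts non-trivially).
-/
set_option autoImplicit false
open Cfsg Cfsg.Lie Cfsg.Agent.H7.RC Matrix

namespace Cfsg.Agent.H7.RC

open Cfsg.Agent.H22 Cfsg.Agent.H22.GEx Cfsg.Agent.H22.Ree

universe u

theorem faith {K : Type u} [Field K] [Fintype K] [CharP K 3] {m : ℕ} (C : Ctx K (3 ^ m))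
    (hK : Fintype.card K = 3 ^ (2 * m + 1)) (hm : 1 ≤ m) (hcan : CanonG2 K) (hW : WeylG2 K)
    (htw : StInvTw K (3 ^ m)) (hb : StBlockHom.{0, u}) : StFaith K (3 ^ m) := by
  obtain ⟨f, hf⟩ := hb chevG2.Idx K bS (twistedG2 K (3 ^ m)) htw 0
  refine ⟨f, ?_⟩
  obtain ⟨hsimp, -⟩ := C.simple hK hm hcan hW
  have h3 : (3 : K) = 0 := by exact_mod_cast CharP.cast_eq_zero K 3
  have hm1 : (-1 : K) ≠ 0 := neg_ne_zero.mpr one_ne_zero
  rcases (MonoidHom.normal_ker f).eq_bot_or_eq_top with h | h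
  · exact (MonoidHom.ker_eq_bot_iff f).mp h
  · exfalso
    have ha : (⟨(C.hh (-1) (-1) : GL chevG2.Idx K), C.hh_neg_one_mem⟩ :
        ↥(twistedG2 K (3 ^ m))) ∈ f.ker := by rw [h]; trivial
    rw [MonoidHom.mem_ker] at ha
    have h1 := hf ⟨(C.hh (-1) (-1) : GL chevG2.Idx K), C.hh_neg_one_mem⟩
      ⟨Sum.inr ⟨7, by decide⟩, by decide⟩ ⟨Sum.inr ⟨7, by decide⟩, by decide⟩
    rw [ha] at h1
    have h2 : ((C.hh (-1) (-1) : GL chevG2.Idx K) : Matrix chevG2.Idx chevG2.Idx K)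
        (Sum.inr ⟨7, by decide⟩) (Sum.inr ⟨7, by decide⟩) = -1 := by
      rw [C.hh_val _ _ hm1 hm1]
      unfold dg
      rw [Matrix.diagonal_apply_eq, torusDiag_inr]
      have c07 : chevG2.cartan 0 (7 : ℕ) = 2 := by decide
      have c17 : chevG2.cartan 1 (7 : ℕ) = -1 := by decide
      simp only [cc, if_true, one_ne_zero, if_false]
      rw [c07, c17, _root_.zpow_neg, zpow_one, zpow_ofNat]
      norm_num
    simp only [h2] at h1
    have h4 : (1 : K) = -1 := by simpa using h1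
    have h5 : (1 : K) = 0 := by linear_combination h3 - h4
    exact one_ne_zero h5

example {K : Type u} [Field K] [Fintype K] [CharP K 3] {m : ℕ} (C : Ctx K (3 ^ m))
    (hK : Fintype.card K = 3 ^ (2 * m + 1)) (hm : 1 ≤ m) (hcan : CanonG2 K) (hW : WeylG2 K)
    (htw : StInvTw K (3 ^ m)) (hb : StBlockHom.{0, u}) : StFaith K (3 ^ m) :=
  faith C hK hm hcan hW htw hb

end Cfsg.Agent.H7.RC
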