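import Cfsg.Agent.H22.ChevCol
import Cfsg.Agent.H22.ChevBasic
import Cfsg.Agent.H7.RCDefs1
/-!
Team project S1156 (helper7), piece INVGEN: in characteristic 3 the root elements of `G₂` leave
the span of `h_a` and the short root vectors invariant (they are block triangular w.r.t. `bS`).
-/
set_option autoImplicit false
open Cfsg Cfsg.Lie Cfsg.Agent.H7.RC Matrix

namespace Cfsg.Agent.H7.RC

open Cfsg.Agent.H22

/-- the encoded indices of the short block -/
def Senc : List ℕ := [0, 4, 5, 6, 9, 10, 11]

/-- the table check: the columns of `x_r(t) - 1` in the short block have, outside the short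
block, only coefficients divisible by `3` -/
def chkInv : Bool :=
  (List.range 12).all fun r => Senc.all fun k => (colRef chevG2 r k).all fun e =>
    Senc.contains e.1 || e.2.1 % 3 == 0

theorem chkInv_true : chkInv = true := by decide +kernel

theorem bS_enc : ∀ i : chevG2.Idx, bS i = 0 ↔ enc chevG2 i ∈ Senc := by decide

theorem bS_le_one : ∀ i : chevG2.Idx, bS i = 0 ∨ bS i = 1 := by decide

theorem invGen {K : Type*} [Field K] [CharP K 3] : StInvGen K := by
  intro r t
  by_cases hr : r < chevG2.nroots
  · rw [x_eq_xMat chevG2 K r hr t]
    intro i j hij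
    have hj : bS j = 0 := by
      rcases bS_le_one j with h | h
      · exact h
      · rcases bS_le_one i with h' | h' <;> omega
    have hi : bS i ≠ 0 := by omega
    have hne : i ≠ j := by
      rintro rfl
      omega
    rw [xMat_apply, if_neg hne, zero_add]
    apply List.sum_eq_zero
    intro x hx
    obtain ⟨e, he, rfl⟩ := List.mem_map.mp hx
    by_cases h1 : enc chevG2 i = e.1
    · rw [if_pos h1]
      have hchk := chkInv_true
      unfold chkInv at hchk
      rw [List.all_eq_true] at hchk
      have h2 := hchk r (List.mem_range.mpr hr)
      rw [List.all_eq_true] at h2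
      have h3 := h2 (enc chevG2 j) ((bS_enc j).mp hj)
      rw [List.all_eq_true] at h3
      have h4 := h3 e he
      rw [Bool.or_eq_true] at h4
      rcases h4 with h5 | h5
      · exfalso
        apply hi
        rw [bS_enc, h1]
        exact List.contains_iff_mem.mp h5
      · have h6 : e.2.1 % 3 = 0 := by simpa using h5
        have h7 : ((e.2.1 : ℤ) : K) = 0 :=
          (CharP.intCast_eq_zero_iff K 3 e.2.1).mpr (Int.dvd_of_emod_eq_zero h6)
        rw [h7, zero_mul]
    · rw [if_neg h1]
  · rw [x_eq_one_of_not_lt chevG2 K r hr t]
    exact Matrix.blockTriangular_one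

example {K : Type*} [Field K] [CharP K 3] : StInvGen K := invGen

end Cfsg.Agent.H7.RC
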