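import Cfsg.Agent.H7.RCDefs
/-!
Team project S1156 (helper7), piece PSIIMG: a cyclic `p`-subgroup of `SL₂(K)`, `p` odd, is mapped
isomorphically into `²G₂(K)` by `ψ`.
-/
set_option autoImplicit false
open Cfsg Cfsg.Lie Cfsg.Agent.H7.RC Matrix

namespace Cfsg.Agent.H7.RC

open Cfsg.Agent.H22 Cfsg.Agent.H22.GEx Cfsg.Agent.H22.Ree Cfsg.Agent.H45.R2

theorem psiImg {K : Type*} [Field K] [CharP K 3] {e : ℕ} (C : Ctx K e)
    (hc : CommStmt (K := K)) (hmem : MemStmt C) (hk : KerStmt C) : StPsiImg C := by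
  intro p hpp hp2 P₀ hP hcyc
  have h3 : (3 : K) = 0 := by exact_mod_cast CharP.cast_eq_zero K 3
  obtain ⟨g, hg⟩ : ∃ g : SpecialLinearGroup (Fin 2) K →* ↥(twistedG2 K e),
      ∀ s, ((g s : ↥(twistedG2 K e)) : GL chevG2.Idx K) = psi C.τ s :=
    ⟨(psiHom hc C.τ).codRestrict (twistedG2 K e) (fun s => by rw [psiHom_apply]; exact hmem s),
      fun s => rfl⟩
  have hinj : Function.Injective (g.comp P₀.subtype) := by
    rw [injective_iff_map_eq_one]
    intro x hx
    have h1 : psi C.τ (x : SpecialLinearGroup (Fin 2) K) = 1 := by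
      rw [← hg]
      have h0 : g (x : SpecialLinearGroup (Fin 2) K) = 1 := hx
      rw [h0]; rfl
    rcases hk.1 _ h1 with h2 | h2
    · exact Subtype.ext h2
    · exfalso
      obtain ⟨k, hk'⟩ := hP x
      have h4 : ((x : SpecialLinearGroup (Fin 2) K) ^ p ^ k : SpecialLinearGroup (Fin 2) K) = 1 := by
        have := congrArg (fun z : ↥P₀ => (z : SpecialLinearGroup (Fin 2) K)) hk'
        simpa using this
      have hsq : (x : SpecialLinearGroup (Fin 2) K) ^ 2 = 1 := by
        rw [h2, pow_two, neg_mul_neg, mul_one]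
      have hco : Nat.Coprime (p ^ k) 2 :=
        Nat.Coprime.pow_left k ((Nat.coprime_primes hpp Nat.prime_two).mpr hp2)
      have h5 := pow_gcd_eq_one.mpr ⟨h4, hsq⟩
      rw [hco, pow_one] at h5
      rw [h2] at h5
      have h6 : ((-1 : SpecialLinearGroup (Fin 2) K)).1 0 0 =
          ((1 : SpecialLinearGroup (Fin 2) K)).1 0 0 := by rw [h5]
      simp at h6
      have h7 : (1 : K) = 0 := by linear_combination h3 + h6
      exact one_ne_zero h7
  refine ⟨(g.comp P₀.subtype).range, ?_, ?_⟩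
  · exact isCyclic_of_surjective (g.comp P₀.subtype).rangeRestrict
      (g.comp P₀.subtype).rangeRestrict_surjective
  · exact (Nat.card_congr (MonoidHom.ofInjective hinj).toEquiv).symm

example {K : Type*} [Field K] [CharP K 3] {e : ℕ} (C : Ctx K e)
    (hc : CommStmt (K := K)) (hmem : MemStmt C) (hk : KerStmt C) : StPsiImg C :=
  psiImg C hc hmem hk

end Cfsg.Agent.H7.RC
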