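import Cfsg.Agent.H44.SL2Sylow
import Cfsg.Agent.H7.RCDefs0
/-!
Team project S1156 (helper7), piece SL2SYL: the Sylow `p`-subgroups of `SL₂(q)`, `q` odd, are
cyclic for odd `p ∣ q + 1` (from helper44's torus library).
-/
set_option autoImplicit false
open Cfsg Cfsg.Agent.H7.RC Matrix

namespace Cfsg.Agent.H7.RC

universe u

theorem sl2Syl : StSL2Syl.{u} := by
  intro F _ _ hodd p _ hp2 hdvd P
  obtain ⟨z, ht, -, hcen, -⟩ := Cfsg.Agent.H44.sylow_SL2_odd hodd p hp2 P (Or.inr hdvd)
  have hcyc := Cfsg.Agent.H44.sl2_isCyclic_centralizer hodd z ht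
  have hz : z ∈ Subgroup.centralizer
      ((P : Subgroup (SpecialLinearGroup (Fin 2) F)) : Set (SpecialLinearGroup (Fin 2) F)) := by
    rw [hcen]
    exact Subgroup.mem_centralizer_iff.mpr (fun y hy => by rw [Set.mem_singleton_iff.mp hy])
  have hle : (P : Subgroup (SpecialLinearGroup (Fin 2) F)) ≤
      Subgroup.centralizer ({z} : Set (SpecialLinearGroup (Fin 2) F)) := by
    intro y hy
    rw [Subgroup.mem_centralizer_iff]
    intro w hw
    rw [Set.mem_singleton_iff.mp hw]
    exact ((Subgroup.mem_centralizer_iff.mp hz) y hy).symm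
  exact Subgroup.isCyclic_of_le hle

example : StSL2Syl.{u} := sl2Syl

end Cfsg.Agent.H7.RC
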