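import Cfsg.Agent.H7.RCAsm
import Cfsg.Agent.H7.RCSL2Syl
import Cfsg.Agent.H7.RCInvGen
import Cfsg.Agent.H7.RCPsiImg
import Cfsg.Agent.H7.RCFaith
import Cfsg.Agent.H7.R2Ker
import Cfsg.Agent.H12.RCSinger
import Cfsg.Agent.H12.RCNTC
import Cfsg.Agent.H19.RCNTA
import Cfsg.Agent.H19.RCBlockHom
import Cfsg.Agent.H8.RCInvTw
import Cfsg.Agent.H45.R2Comm
import Cfsg.Agent.H45.R2Val
import Cfsg.Agent.H15.R2Mem
import Cfsg.Agent.H40.R2Form
/-!
Team project S1156 (helper7): all pieces plugged in. The Sylow `p`-subgroups of `²G₂(q)`,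
`q = 3^(2m+1) ≥ 27`, are cyclic for every prime `p > 3`, given a Ree context and the canonical
form / Weyl group statements for `G₂` (which the statement file takes from S1077, S1026, S1100,
S1039).

Pieces: SINGER, NTC (helper12), NTA, BLOCKHOM (helper19), INVTW (helper8), and of helper45's
project S1152/S1157: comm, val, tor (helper45), mem (helper15), form (helper40), ker (helper7).
-/
set_option autoImplicit false
open Cfsg Cfsg.Lie

namespace Cfsg.Agent.H7.RC

open Cfsg.Agent.H22 Cfsg.Agent.H22.GEx Cfsg.Agent.H22.Ree Cfsg.Agent.H45.R2 Matrix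

universe u

theorem final {K : Type u} [Field K] [Fintype K] [CharP K 3] {m : ℕ} (C : Ctx K (3 ^ m))
    (hK : Fintype.card K = 3 ^ (2 * m + 1)) (hm : 1 ≤ m) (hcan : CanonG2 K) (hW : WeylG2 K)
    {p : ℕ} [Fact p.Prime] (hp : 3 < p) (P : Sylow p ↥(twistedG2 K (3 ^ m))) :
    IsCyclic ↥(P : Subgroup ↥(twistedG2 K (3 ^ m))) := by
  have hc := Cfsg.Agent.H45.R2.comm C
  have hv := Cfsg.Agent.H45.R2.val C
  have ht := Cfsg.Agent.H45.R2.tor C
  have hmem := Cfsg.Agent.H15.R2.mem C hc hv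
  have hf := Cfsg.Agent.H40.R2.form C hc hv ht
  have hk := Cfsg.Agent.H7.R2.ker C hcan hf
  have hPsi : StPsiImg C := psiImg C hc hmem hk
  have hgen : StInvGen K := invGen
  have htw : StInvTw K (3 ^ m) := Cfsg.Agent.H8.RC.invTw hgen (3 ^ m)
  have hF : StFaith K (3 ^ m) := faith C hK hm hcan hW htw Cfsg.Agent.H19.RC.blockHom
  exact main C hK hcan hW sylCyc (gl7 Cfsg.Agent.H12.RC.singer Cfsg.Agent.H12.RC.ntc sylCyc)
    Cfsg.Agent.H19.RC.nta sl2Syl hPsi hF hp P

end Cfsg.Agent.H7.RC
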