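import Mathlib
import Cfsg.Agent.H72.BaerDefs
import Cfsg.Agent.H72.BaerBasic
import Cfsg.Agent.H7.BaerT8

/-!
# S4125 piece T9: `|V| ∣ q²` implies `A` solvable (determinant argument)
-/

set_option autoImplicit false

namespace Cfsg.Agent.H7.Baer

open Cfsg.Agent.H72.BaerT

universe u

/-- A `2 × 2` matrix of determinant one fixing a nonzero vector satisfies `(M - 1)² = 0`. -/
theorem mat2_unip {F : Type*} [Field F] (M : Matrix (Fin 2) (Fin 2) F) (hdet : M.det = 1)
    (w : Fin 2 → F) (hw : w ≠ 0) (hM : M.mulVec w = w) : (M - 1) * (M - 1) = 0 := by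
  rw [Matrix.det_fin_two] at hdet
  have e1 : M 0 0 * w 0 + M 0 1 * w 1 = w 0 := by
    have := congrFun hM 0
    simpa [Matrix.mulVec, dotProduct, Fin.sum_univ_two] using this
  have e2 : M 1 0 * w 0 + M 1 1 * w 1 = w 1 := by
    have := congrFun hM 1
    simpa [Matrix.mulVec, dotProduct, Fin.sum_univ_two] using this
  have t0 : (2 - M 0 0 - M 1 1) * w 0 = 0 := by
    linear_combination (M 1 1 - 1) * e1 - M 0 1 * e2 - w 0 * hdet
  have t1 : (2 - M 0 0 - M 1 1) * w 1 = 0 := by
    linear_combination (M 0 0 - 1) * e2 - M 1 0 * e1 - w 1 * hdet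
  have htr : 2 - M 0 0 - M 1 1 = 0 := by
    by_contra hne
    apply hw
    funext i
    fin_cases i
    · exact (mul_eq_zero.mp t0).resolve_left hne
    · exact (mul_eq_zero.mp t1).resolve_left hne
  ext i j
  fin_cases i <;> fin_cases j <;>
    simp [Matrix.mul_apply, Fin.sum_univ_two, Matrix.one_apply]
  · linear_combination (- M 0 0) * htr - hdet
  · linear_combination (- M 0 1) * htr
  · linear_combination (- M 1 0) * htr
  · linear_combination (- M 1 1) * htr - hdet

/-- `(1 + N)^k = 1 + k • N` if `N² = 0`. -/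
theorem one_add_pow_of_sq_zero {R : Type*} [Ring R] (N : R) (hN : N * N = 0) (k : ℕ) :
    (1 + N) ^ k = 1 + k • N := by
  induction k with
  | zero => simp
  | succ k ih =>
    rw [pow_succ, ih, mul_add, mul_one, add_mul, one_mul, smul_mul_assoc, hN, smul_zero, add_zero,
      succ_nsmul]
    abel

/-- A linear endomorphism of a plane over `ZMod q` with determinant one fixing a nonzero vector
has `q`-th power one. -/
theorem end_pow_eq_one {q : ℕ} [Fact q.Prime] {M : Type*} [AddCommGroup M] [Module (ZMod q) M]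
    (bas : Module.Basis (Fin 2) (ZMod q) M) (f : Module.End (ZMod q) M)
    (hdet : LinearMap.det f = 1) (v : M) (hv : v ≠ 0) (hf : f v = v) : f ^ q = 1 := by
  set T := LinearMap.toMatrixAlgEquiv bas f with hT
  have hT' : T = LinearMap.toMatrix bas bas f := rfl
  have hTdet : T.det = 1 := by rw [hT', LinearMap.det_toMatrix, hdet]
  have hfix : T.mulVec (bas.repr v) = bas.repr v := by
    rw [hT', LinearMap.toMatrix_mulVec_repr, hf]
  have hne : (⇑(bas.repr v) : Fin 2 → ZMod q) ≠ 0 := by
    intro h0
    apply hv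
    have : bas.repr v = 0 := by
      ext i
      exact congrFun h0 i
    simpa using this
  have hN := mat2_unip T hTdet _ hne hfix
  have hTq : T ^ q = 1 := by
    have h1 : T = 1 + (T - 1) := by abel
    rw [h1, one_add_pow_of_sq_zero _ hN, ← Nat.cast_smul_eq_nsmul (ZMod q), ZMod.natCast_self,
      zero_smul, add_zero]
  apply (LinearMap.toMatrixAlgEquiv bas).injective
  rw [map_pow, map_one, ← hT, hTq]

section

variable {p q : ℕ} {V : Type u} [CommGroup V] [Finite V] {A N : Subgroup (MulAut V)}

/-- A normal subgroup acting semiregularly at a point is a `p`-group. -/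
theorem isPGroup_of_semiregular (h : TH p q V A) (hN : NormalIn N A) (v : V)
    (hsr : ∀ n ∈ N, n v = v → n = 1) : IsPGroup p N := by
  obtain ⟨a, ha⟩ := (h.of_normalIn hN).horb v
  have hstab : MulAction.stabilizer N v = ⊥ := by
    rw [eq_bot_iff]
    intro n hn
    rw [MulAction.mem_stabilizer_iff] at hn
    rw [Subgroup.mem_bot]
    apply Subtype.ext
    exact hsr n.1 n.2 hn
  have h1 := MulAction.index_stabilizer N v
  rw [hstab, Subgroup.index_bot, ← Nat.card_coe_set_eq, ha] at h1
  exact IsPGroup.of_card h1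

/-- a `p`-group of automorphisms is solvable -/
theorem solvable_of_isPGroup (hp : p.Prime) (hN : IsPGroup p N) : Group.IsSolvable N := by
  have : Fact p.Prime := ⟨hp⟩
  have := hN.isNilpotent
  infer_instance

theorem solvable_of_card_eq_one (hcard : Nat.card V = 1) : Group.IsSolvable A := by
  have : Subsingleton V := (Nat.card_eq_one_iff_unique.mp hcard).1
  have : Subsingleton (MulAut V) := ⟨fun a b => by ext v; exact Subsingleton.elim _ _⟩
  infer_instance

theorem solvable_of_card_eq_prime (h : TH p q V A) (hcard : Nat.card V = q) :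
    Group.IsSolvable A := by
  have hq := h.hq
  have : Fact q.Prime := ⟨hq⟩
  have hnt : Nontrivial V := by
    rw [← Finite.one_lt_card_iff_nontrivial, hcard]; exact hq.one_lt
  obtain ⟨v, hv⟩ := exists_ne (1 : V)
  have hgen := zpowers_eq_top_of_prime_card hcard hv
  have hP : IsPGroup p A := by
    apply isPGroup_of_semiregular h (NormalIn.refl A) v
    intro n _ hnv
    ext w
    have hw : w ∈ Subgroup.zpowers v := by rw [hgen]; trivial
    obtain ⟨k, rfl⟩ := Subgroup.mem_zpowers_iff.mp hw
    rw [map_zpow, hnv]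
    rfl
  exact solvable_of_isPGroup h.hp hP

theorem solvable_sq_aux [Fact q.Prime] [Module (ZMod q) (Additive V)] (h : TH p q V A)
    (hcard : Nat.card V = q ^ 2) : Group.IsSolvable A := by
  have hq : q.Prime := Fact.out
  have hfr : Module.finrank (ZMod q) (Additive V) = 2 := by
    have h1 := Module.natCard_eq_pow_finrank (K := ZMod q) (V := Additive V)
    rw [Nat.card_zmod] at h1
    have h2 : Nat.card (Additive V) = q ^ 2 := hcard
    rw [h2] at h1
    exact (Nat.pow_right_injective hq.two_le h1).symm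
  let bas := Module.finBasisOfFinrankEq (ZMod q) (Additive V) hfr
  let detHom : MulAut V →* ZMod q := (LinearMap.det : _ →* ZMod q).comp (linOf q)
  let δ : A →* (ZMod q)ˣ := (detHom.comp A.subtype).toHomUnits
  let N : Subgroup (MulAut V) := (δ.ker).map A.subtype
  have hNA : N ≤ A := Subgroup.map_subtype_le _
  have hNmem : ∀ n : MulAut V, n ∈ N ↔ ∃ hn : n ∈ A, detHom n = 1 := by
    intro n
    constructor
    · rintro ⟨x, hx, rfl⟩
      refine ⟨x.2, ?_⟩
      have hx' : δ x = 1 := hx
      have := congrArg (fun u : (ZMod q)ˣ => (u : ZMod q)) hx'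
      simpa [δ, MonoidHom.coe_toHomUnits] using this
    · rintro ⟨hn, hd⟩
      refine ⟨⟨n, hn⟩, ?_, rfl⟩
      show δ ⟨n, hn⟩ = 1
      apply Units.ext
      simpa [δ, MonoidHom.coe_toHomUnits] using hd
  have hN : NormalIn N A := by
    refine ⟨hNA, ?_⟩
    intro a ha n hn
    obtain ⟨hn1, hn2⟩ := (hNmem n).mp hn
    refine (hNmem _).mpr ⟨A.mul_mem (A.mul_mem ha hn1) (A.inv_mem ha), ?_⟩
    rw [map_mul, map_mul, hn2, mul_one, ← map_mul, mul_inv_cancel, map_one]
  have hnt : Nontrivial V := by
    rw [← Finite.one_lt_card_iff_nontrivial, hcard]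
    exact Nat.one_lt_pow (by norm_num) hq.one_lt
  obtain ⟨v, hv⟩ := exists_ne (1 : V)
  have hP : IsPGroup p N := by
    apply isPGroup_of_semiregular h hN v
    intro n hn hnv
    obtain ⟨hn1, hn2⟩ := (hNmem n).mp hn
    have hpow : n ^ q = 1 := by
      apply linOf_injective (V := V) q
      rw [map_pow, map_one]
      refine end_pow_eq_one bas _ hn2 (Additive.ofMul v) ?_ ?_
      · intro h0
        exact hv (congrArg Additive.toMul h0)
      · rw [linOf_apply]
        exact congrArg Additive.ofMul hnv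
    have d1 : orderOf n ∣ q := orderOf_dvd_of_pow_eq_one hpow
    have d2 : orderOf n ∣ Nat.card A := Subgroup.orderOf_dvd_natCard A hn1
    have d3 : orderOf n ∣ Nat.gcd (Nat.card A) q := Nat.dvd_gcd d2 d1
    rw [h.hA] at d3
    exact orderOf_eq_one_iff.mp (Nat.dvd_one.mp d3)
  have hNsolv : Group.IsSolvable N := solvable_of_isPGroup h.hp hP
  refine Group.isSolvable_of_ker_le_range (Subgroup.inclusion hNA) δ ?_
  intro x hx
  have hxN : (x : MulAut V) ∈ N := ⟨x, hx, rfl⟩
  exact ⟨⟨x.1, hxN⟩, Subtype.ext rfl⟩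

/-- **S4125, piece T9.** -/
theorem TH.solvable_of_card_dvd_sq {p q : ℕ} {V : Type u} [CommGroup V] [Finite V]
    {A : Subgroup (MulAut V)} (h : TH p q V A) (hexp : ∀ v : V, v ^ q = 1)
    (hcard : Nat.card V ∣ q ^ 2) : Group.IsSolvable A := by
  have hq := h.hq
  obtain ⟨k, hk, hVk⟩ := (Nat.dvd_prime_pow hq).mp hcard
  have hk' : k = 0 ∨ k = 1 ∨ k = 2 := by omega
  rcases hk' with rfl | rfl | rfl
  · exact solvable_of_card_eq_one (by simpa using hVk)
  · exact solvable_of_card_eq_prime h (by simpa using hVk)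
  · have hsmul : ∀ x : Additive V, q • x = 0 := fun x => by
      show Additive.ofMul (Additive.toMul x ^ q) = 0
      rw [hexp]; rfl
    exact @solvable_sq_aux p q V _ _ A ⟨hq⟩ (AddCommGroup.zmodModule hsmul) h hVk

end

end Cfsg.Agent.H7.Baer
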