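import Mathlib
import Cfsg.Prelude.Def_LieChev
import Cfsg.Agent.H7.G23Gen

set_option autoImplicit false

/-!
# The 7-dimensional representation of `G₂(3)` on the short-root ideal (data and checks)
-/

namespace Cfsg.Agent.H7.G23

open Matrix Cfsg.Lie

/-- The coordinates of the short-root ideal: `h₁` and the six short root vectors. -/
def iota : Fin 7 → chevG2.Idx :=
  ![Sum.inl ⟨0, by decide⟩, Sum.inr ⟨2, by decide⟩, Sum.inr ⟨3, by decide⟩, Sum.inr ⟨4, by decide⟩,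
    Sum.inr ⟨7, by decide⟩, Sum.inr ⟨8, by decide⟩, Sum.inr ⟨9, by decide⟩]

/-- The complementary coordinates. -/
def kappa : Fin 7 → chevG2.Idx :=
  ![Sum.inl ⟨1, by decide⟩, Sum.inr ⟨0, by decide⟩, Sum.inr ⟨1, by decide⟩, Sum.inr ⟨5, by decide⟩,
    Sum.inr ⟨6, by decide⟩, Sum.inr ⟨10, by decide⟩, Sum.inr ⟨11, by decide⟩]

theorem iota_kappa_bij : Function.Bijective (Sum.elim iota kappa) := by decide

/-- The action of `x_r(1)` on the short-root ideal. -/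
def X7 : Fin 12 → Matrix (Fin 7) (Fin 7) (ZMod 3) :=
  ![!![1, 0, 0, 0, 0, 0, 0; 0, 1, 0, 0, 0, 1, 0; 0, 0, 1, 0, 0, 0, 2; 0, 0, 0, 1, 0, 0, 0; 0, 0, 0, 0, 1, 0, 0; 0, 0, 0, 0, 0, 1, 0; 0, 0, 0, 0, 0, 0, 1],
    !![1, 0, 0, 0, 0, 0, 0; 0, 1, 0, 0, 1, 0, 0; 0, 0, 1, 0, 0, 0, 0; 0, 0, 0, 1, 0, 0, 2; 0, 0, 0, 0, 1, 0, 0; 0, 0, 0, 0, 0, 1, 0; 0, 0, 0, 0, 0, 0, 1],
    !![1, 0, 0, 0, 0, 0, 1; 1, 1, 0, 0, 0, 0, 2; 0, 0, 1, 0, 1, 0, 0; 0, 0, 0, 1, 0, 2, 0; 0, 0, 0, 0, 1, 0, 0; 0, 0, 0, 0, 0, 1, 0; 0, 0, 0, 0, 0, 0, 1],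
    !![1, 0, 0, 0, 0, 2, 0; 0, 1, 0, 1, 0, 0, 0; 2, 0, 1, 0, 0, 2, 0; 0, 0, 0, 1, 0, 0, 0; 0, 0, 0, 0, 1, 0, 2; 0, 0, 0, 0, 0, 1, 0; 0, 0, 0, 0, 0, 0, 1],
    !![1, 0, 0, 0, 2, 0, 0; 0, 1, 2, 0, 0, 0, 0; 0, 0, 1, 0, 0, 0, 0; 2, 0, 0, 1, 2, 0, 0; 0, 0, 0, 0, 1, 0, 0; 0, 0, 0, 0, 0, 1, 1; 0, 0, 0, 0, 0, 0, 1],
    !![1, 0, 0, 0, 0, 0, 0; 0, 1, 0, 0, 0, 0, 0; 0, 0, 1, 2, 0, 0, 0; 0, 0, 0, 1, 0, 0, 0; 0, 0, 0, 0, 1, 1, 0; 0, 0, 0, 0, 0, 1, 0; 0, 0, 0, 0, 0, 0, 1],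
    !![1, 0, 0, 0, 0, 0, 0; 0, 1, 0, 0, 0, 0, 0; 0, 0, 1, 0, 0, 0, 0; 0, 0, 2, 1, 0, 0, 0; 0, 0, 0, 0, 1, 0, 0; 0, 0, 0, 0, 1, 1, 0; 0, 0, 0, 0, 0, 0, 1],
    !![1, 0, 0, 1, 0, 0, 0; 0, 1, 0, 0, 0, 0, 0; 0, 2, 1, 0, 0, 0, 0; 0, 0, 0, 1, 0, 0, 0; 1, 0, 0, 2, 1, 0, 0; 0, 0, 0, 0, 0, 1, 0; 0, 0, 0, 0, 0, 1, 1],
    !![1, 0, 1, 0, 0, 0, 0; 0, 1, 0, 0, 0, 0, 0; 0, 0, 1, 0, 0, 0, 0; 0, 1, 0, 1, 0, 0, 0; 0, 0, 0, 0, 1, 0, 0; 1, 0, 2, 0, 0, 1, 0; 0, 0, 0, 0, 2, 0, 1],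
    !![1, 2, 0, 0, 0, 0, 0; 0, 1, 0, 0, 0, 0, 0; 0, 0, 1, 0, 0, 0, 0; 0, 0, 0, 1, 0, 0, 0; 0, 0, 1, 0, 1, 0, 0; 0, 0, 0, 2, 0, 1, 0; 2, 2, 0, 0, 0, 0, 1],
    !![1, 0, 0, 0, 0, 0, 0; 0, 1, 0, 0, 0, 0, 0; 0, 0, 1, 0, 0, 0, 0; 0, 0, 0, 1, 0, 0, 0; 0, 1, 0, 0, 1, 0, 0; 0, 0, 0, 0, 0, 1, 0; 0, 0, 0, 2, 0, 0, 1],
    !![1, 0, 0, 0, 0, 0, 0; 0, 1, 0, 0, 0, 0, 0; 0, 0, 1, 0, 0, 0, 0; 0, 0, 0, 1, 0, 0, 0; 0, 0, 0, 0, 1, 0, 0; 0, 1, 0, 0, 0, 1, 0; 0, 0, 2, 0, 0, 0, 1]]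

/-- The Lie bracket of the short-root ideal in characteristic `3`. -/
def bet (u v : Fin 7 → ZMod 3) : Fin 7 → ZMod 3 :=
  ![(u 1 * v 6 - u 6 * v 1) + 2 * (u 2 * v 5 - u 5 * v 2) + 2 * (u 3 * v 4 - u 4 * v 3),
    2 * (u 0 * v 1 - u 1 * v 0) + (u 2 * v 3 - u 3 * v 2),
    (u 0 * v 2 - u 2 * v 0) + (u 1 * v 4 - u 4 * v 1),
    (u 0 * v 3 - u 3 * v 0) + 2 * (u 1 * v 5 - u 5 * v 1),
    2 * (u 0 * v 4 - u 4 * v 0) + 2 * (u 2 * v 6 - u 6 * v 2),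
    2 * (u 0 * v 5 - u 5 * v 0) + (u 3 * v 6 - u 6 * v 3),
    (u 0 * v 6 - u 6 * v 0) + (u 4 * v 5 - u 5 * v 4)]

def betC : Fin 7 → Fin 7 → ZMod 3 :=
  ![![0, 2, 1, 1, 2, 2, 1],
    ![1, 0, 0, 0, 1, 2, 1],
    ![2, 0, 0, 1, 0, 2, 2],
    ![2, 0, 2, 0, 2, 0, 1],
    ![1, 2, 0, 1, 0, 1, 0],
    ![1, 1, 1, 0, 2, 0, 0],
    ![2, 2, 1, 2, 0, 0, 0]]

def betK : Fin 7 → Fin 7 → Fin 7 :=
  ![![0, 1, 2, 3, 4, 5, 6],
    ![1, 0, 0, 0, 2, 3, 0],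
    ![2, 0, 0, 1, 0, 0, 4],
    ![3, 0, 1, 0, 0, 0, 5],
    ![4, 2, 0, 0, 0, 6, 0],
    ![5, 3, 0, 0, 6, 0, 0],
    ![6, 0, 4, 5, 0, 0, 0]]

theorem bet_single : ∀ i j : Fin 7,
    bet (Pi.single i 1) (Pi.single j 1) = betC i j • Pi.single (betK i j) 1 := by decide

/-- The `7 × 7` block of a matrix on the coordinates of the short-root ideal. -/
def sub7 (A : Matrix chevG2.Idx chevG2.Idx (ZMod 3)) : Matrix (Fin 7) (Fin 7) (ZMod 3) :=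
  Matrix.of fun i j => A (iota i) (iota j)

/-- The matrix preserves the coordinate subspace of the short-root ideal. -/
def PresI (A : Matrix chevG2.Idx chevG2.Idx (ZMod 3)) : Prop :=
  ∀ i j : Fin 7, A (kappa i) (iota j) = 0

/-- The matrix preserves the bracket. -/
def PresB (X : Matrix (Fin 7) (Fin 7) (ZMod 3)) : Prop :=
  ∀ u v : Fin 7 → ZMod 3, X *ᵥ bet u v = bet (X *ᵥ u) (X *ᵥ v)

set_option maxRecDepth 100000 in
theorem xMat_presI : ∀ r : Fin 12, PresI (chevG2.xMat (ZMod 3) r 1) := by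
  unfold PresI
  decide +kernel

set_option maxRecDepth 100000 in
theorem xMat_sub7 : ∀ r : Fin 12, sub7 (chevG2.xMat (ZMod 3) r 1) = X7 r := by
  unfold sub7
  decide +kernel

set_option maxRecDepth 100000 in
theorem X7_bet : ∀ r : Fin 12, ∀ i j : Fin 7,
    (fun a => betC i j * X7 r a (betK i j)) = bet (fun a => X7 r a i) (fun a => X7 r a j) := by
  decide +kernel

theorem iota_injective : Function.Injective iota := by decide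

theorem kappa_ne_iota : ∀ i j : Fin 7, kappa i ≠ iota j := by decide

theorem sum_idx (f : chevG2.Idx → ZMod 3) :
    ∑ k, f k = ∑ i : Fin 7, f (iota i) + ∑ i : Fin 7, f (kappa i) := by
  rw [← (Equiv.ofBijective _ iota_kappa_bij).sum_comp, Fintype.sum_sum_type]
  rfl

theorem sub7_mul (A B : Matrix chevG2.Idx chevG2.Idx (ZMod 3)) (hB : PresI B) :
    sub7 (A * B) = sub7 A * sub7 B := by
  ext i j
  simp only [sub7, Matrix.of_apply, Matrix.mul_apply]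
  rw [sum_idx]
  have h : ∑ k : Fin 7, A (iota i) (kappa k) * B (kappa k) (iota j) = 0 :=
    Finset.sum_eq_zero (fun k _ => by rw [hB k j, mul_zero])
  rw [h, add_zero]

theorem presI_mul (A B : Matrix chevG2.Idx chevG2.Idx (ZMod 3)) (hA : PresI A) (hB : PresI B) :
    PresI (A * B) := by
  intro i j
  rw [Matrix.mul_apply, sum_idx,
    Finset.sum_eq_zero (fun k _ => by rw [hA i k, zero_mul]),
    Finset.sum_eq_zero (fun k _ => by rw [hB k j, mul_zero]), add_zero]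

theorem sub7_one : sub7 1 = 1 := by
  ext i j
  simp [sub7, Matrix.one_apply, iota_injective.eq_iff]

theorem presI_one : PresI 1 := by
  intro i j
  rw [Matrix.one_apply_ne (kappa_ne_iota i j)]

theorem presB_mul (X Y : Matrix (Fin 7) (Fin 7) (ZMod 3)) (hX : PresB X) (hY : PresB Y) :
    PresB (X * Y) := by
  intro u v
  rw [← Matrix.mulVec_mulVec, hY, hX, Matrix.mulVec_mulVec, Matrix.mulVec_mulVec]

theorem presB_one : PresB 1 := by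
  intro u v
  simp

theorem bet_add_left (u u' v : Fin 7 → ZMod 3) : bet (u + u') v = bet u v + bet u' v := by
  ext k
  fin_cases k <;> simp [bet] <;> ring

theorem bet_smul_left (c : ZMod 3) (u v : Fin 7 → ZMod 3) : bet (c • u) v = c • bet u v := by
  ext k
  fin_cases k <;> simp [bet] <;> ring

theorem bet_add_right (u v v' : Fin 7 → ZMod 3) : bet u (v + v') = bet u v + bet u v' := by
  ext k
  fin_cases k <;> simp [bet] <;> ring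

theorem bet_smul_right (c : ZMod 3) (u v : Fin 7 → ZMod 3) : bet u (c • v) = c • bet u v := by
  ext k
  fin_cases k <;> simp [bet] <;> ring

/-- The bracket as a bilinear map. -/
def betL : (Fin 7 → ZMod 3) →ₗ[ZMod 3] (Fin 7 → ZMod 3) →ₗ[ZMod 3] (Fin 7 → ZMod 3) :=
  LinearMap.mk₂ (ZMod 3) bet bet_add_left bet_smul_left bet_add_right bet_smul_right

theorem presB_of_chk (X : Matrix (Fin 7) (Fin 7) (ZMod 3))
    (h : ∀ i j : Fin 7,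
      (fun a => betC i j * X a (betK i j)) = bet (fun a => X a i) (fun a => X a j)) :
    PresB X := by
  have key : betL.compr₂ (Matrix.toLin' X) =
      betL.compl₁₂ (Matrix.toLin' X) (Matrix.toLin' X) := by
    apply LinearMap.ext_basis (Pi.basisFun (ZMod 3) (Fin 7)) (Pi.basisFun (ZMod 3) (Fin 7))
    intro i j
    simp only [LinearMap.compr₂_apply, LinearMap.compl₁₂_apply, Pi.basisFun_apply, betL,
      LinearMap.mk₂_apply, Matrix.toLin'_apply]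
    rw [bet_single, Matrix.mulVec_smul, Matrix.mulVec_single_one, Matrix.mulVec_single_one,
      Matrix.mulVec_single_one]
    exact h i j
  intro u v
  have h1 := LinearMap.congr_fun (LinearMap.congr_fun key u) v
  simpa [betL] using h1

/-- The matrices preserving the ideal and acting on it by automorphisms of the bracket. -/
def Good (A : Matrix chevG2.Idx chevG2.Idx (ZMod 3)) : Prop := PresI A ∧ PresB (sub7 A)

theorem good_mul (A B : Matrix chevG2.Idx chevG2.Idx (ZMod 3)) (hA : Good A) (hB : Good B) :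
    Good (A * B) :=
  ⟨presI_mul A B hA.1 hB.1, by rw [sub7_mul A B hB.1]; exact presB_mul _ _ hA.2 hB.2⟩

theorem good_one : Good 1 := ⟨presI_one, by rw [sub7_one]; exact presB_one⟩

theorem good_xMat (r : Fin 12) : Good (chevG2.xMat (ZMod 3) r 1) :=
  ⟨xMat_presI r, by rw [xMat_sub7 r]; exact presB_of_chk _ (X7_bet r)⟩

end Cfsg.Agent.H7.G23
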