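import Mathlib
import Cfsg.Agent.H7.G23Rep

set_option autoImplicit false

/-!
# The centralizer of an element of order 7 in the 7-dimensional representation of `G₂(3)`
-/

namespace Cfsg.Agent.H7.G23

open Matrix

/-- An element of order `7`: the image of `x₀(1) x₁(1) x₃(1) x₁₁(1)`. -/
def M1 : Matrix (Fin 7) (Fin 7) (ZMod 3) := !![1, 2, 0, 0, 0, 2, 0; 0, 2, 1, 1, 1, 1, 2; 2, 2, 2, 0, 0, 2, 2; 0, 0, 1, 1, 0, 0, 2; 0, 0, 1, 0, 1, 0, 2; 0, 1, 0, 0, 0, 1, 0; 0, 0, 2, 0, 0, 0, 1]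
def M1P2 : Matrix (Fin 7) (Fin 7) (ZMod 3) := !![1, 2, 2, 2, 2, 0, 1; 2, 1, 1, 0, 0, 2, 0; 0, 2, 1, 2, 2, 0, 1; 2, 2, 1, 1, 0, 2, 0; 2, 2, 1, 0, 1, 2, 0; 0, 0, 1, 1, 1, 2, 2; 1, 1, 0, 0, 0, 1, 2]
def M1P3 : Matrix (Fin 7) (Fin 7) (ZMod 3) := !![2, 1, 0, 1, 1, 2, 2; 1, 1, 0, 1, 1, 0, 1; 2, 0, 1, 1, 1, 1, 0; 1, 0, 2, 0, 2, 1, 2; 1, 0, 2, 2, 0, 1, 2; 2, 1, 2, 1, 1, 1, 2; 1, 2, 2, 1, 1, 1, 1]
def M1P4 : Matrix (Fin 7) (Fin 7) (ZMod 3) := !![2, 2, 1, 2, 2, 1, 2; 1, 1, 2, 2, 2, 0, 1; 1, 1, 1, 1, 1, 1, 0; 2, 1, 1, 0, 2, 1, 1; 2, 1, 1, 2, 0, 1, 1; 0, 2, 2, 2, 2, 1, 0; 2, 2, 1, 0, 0, 0, 1]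
def M1P5 : Matrix (Fin 7) (Fin 7) (ZMod 3) := !![1, 2, 0, 1, 1, 0, 1; 2, 2, 2, 0, 0, 1, 0; 0, 1, 2, 2, 2, 0, 2; 1, 0, 1, 1, 0, 2, 0; 1, 0, 1, 0, 1, 2, 0; 1, 0, 1, 1, 1, 1, 1; 1, 1, 0, 2, 2, 2, 1]
def M1P6 : Matrix (Fin 7) (Fin 7) (ZMod 3) := !![1, 0, 0, 0, 0, 1, 0; 0, 1, 0, 2, 2, 2, 2; 1, 0, 1, 0, 0, 2, 1; 0, 0, 0, 1, 0, 0, 1; 0, 0, 0, 0, 1, 0, 1; 0, 2, 0, 1, 1, 2, 1; 1, 0, 1, 0, 0, 2, 2]
/-- The sum of the powers of `M1`. -/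
def M1N : Matrix (Fin 7) (Fin 7) (ZMod 3) := !![0, 0, 0, 0, 0, 0, 0; 0, 0, 0, 0, 0, 0, 0; 0, 0, 0, 0, 0, 0, 0; 0, 0, 0, 2, 1, 0, 0; 0, 0, 0, 1, 2, 0, 0; 0, 0, 0, 0, 0, 0, 0; 0, 0, 0, 0, 0, 0, 0]
def M1B : Matrix (Fin 7) (Fin 6) (ZMod 3) := !![1, 1, 1, 2, 2, 1; 0, 0, 2, 1, 1, 2; 0, 2, 0, 2, 1, 0; 0, 0, 2, 1, 2, 1; 0, 0, 2, 1, 2, 1; 0, 0, 0, 2, 0, 1; 0, 0, 1, 1, 2, 1]
def M1L : Matrix (Fin 6) (Fin 7) (ZMod 3) := !![1, 2, 1, 1, 1, 2, 0; 0, 2, 2, 2, 2, 1, 0; 0, 0, 0, 2, 2, 0, 2; 0, 2, 0, 0, 0, 0, 2; 0, 1, 0, 2, 2, 1, 2; 0, 2, 0, 0, 0, 1, 2]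
/-- The orbit of a vector `w` in the kernel of `M1N`. -/
def m1tbl (j : ℕ) : Fin 7 → ZMod 3 :=
  [![1, 0, 0, 0, 0, 0, 0], ![1, 0, 2, 0, 0, 0, 0], ![1, 2, 0, 2, 2, 0, 1], ![2, 1, 2, 1, 1, 2, 1], ![2, 1, 1, 2, 2, 0, 2], ![1, 2, 0, 1, 1, 1, 1], ![1, 0, 1, 0, 0, 0, 1], ![1, 0, 0, 0, 0, 0, 0], ![1, 0, 2, 0, 0, 0, 0], ![1, 2, 0, 2, 2, 0, 1], ![2, 1, 2, 1, 1, 2, 1], ![2, 1, 1, 2, 2, 0, 2], ![1, 2, 0, 1, 1, 1, 1], ![1, 0, 1, 0, 0, 0, 1], ![1, 0, 0, 0, 0, 0, 0], ![1, 0, 2, 0, 0, 0, 0]].getD j 0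
def M1D : Matrix (Fin 7) (Fin 6) (ZMod 3) := Matrix.of fun i k => m1tbl (3 * (k : ℕ)) i - m1tbl (k : ℕ) i
def M1Ld : Matrix (Fin 6) (Fin 7) (ZMod 3) := !![0, 0, 0, 0, 0, 0, 0; 0, 0, 2, 1, 0, 0, 0; 2, 1, 2, 1, 0, 1, 0; 1, 1, 2, 0, 0, 2, 0; 1, 2, 0, 1, 0, 1, 0; 2, 0, 0, 0, 0, 2, 0]
/-- A basis adapted to the bracket. -/
def M1bas : Fin 7 → Fin 7 → ZMod 3 :=
  ![![1, 0, 0, 0, 0, 0, 0], ![1, 0, 2, 0, 0, 0, 0], ![1, 2, 0, 2, 2, 0, 1], ![2, 1, 2, 1, 1, 2, 1], ![2, 1, 1, 2, 2, 0, 2], ![1, 2, 0, 1, 1, 1, 1], ![0, 1, 0, 2, 1, 0, 1]]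
def M1Bf : Matrix (Fin 7) (Fin 7) (ZMod 3) := Matrix.of fun i k => M1bas k i
def M1Rf : Matrix (Fin 7) (Fin 7) (ZMod 3) := !![1, 2, 1, 2, 0, 2, 0; 0, 2, 2, 0, 1, 1, 0; 0, 0, 0, 0, 1, 0, 2; 0, 2, 0, 2, 1, 0, 2; 0, 1, 0, 2, 2, 1, 2; 0, 2, 0, 2, 1, 1, 2; 0, 0, 0, 1, 2, 0, 0]

theorem M1_word : X7 0 * X7 1 * X7 3 * X7 11 = M1 := by decide +kernel

theorem M1_pows : M1 * M1 = M1P2 ∧ M1P2 * M1 = M1P3 ∧ M1P3 * M1 = M1P4 ∧ M1P4 * M1 = M1P5 ∧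
    M1P5 * M1 = M1P6 ∧ M1P6 * M1 = 1 := by decide +kernel

theorem M1N_eq : 1 + M1 + M1P2 + M1P3 + M1P4 + M1P5 + M1P6 = M1N := by decide +kernel

theorem M1_cert : M1B * M1L + 1 * M1N = 1 := by decide +kernel

theorem M1N_w : M1N *ᵥ m1tbl 0 = 0 := by decide +kernel

theorem m1_step : ∀ j < 15, M1 *ᵥ m1tbl j = m1tbl (j + 1) := by decide +kernel

theorem M1B_col : ∀ k : Fin 6, (fun i => M1B i k) = m1tbl k := by decide +kernel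

theorem M1_frob : M1Ld * M1D = Matrix.diagonal ![0, 1, 1, 1, 1, 1] := by decide +kernel

theorem m1_ne : m1tbl 0 ≠ 0 := by decide +kernel

theorem M1_ne_one : M1 ≠ 1 := by decide +kernel

theorem M1_brk : (∀ k : Fin 6, M1bas k.castSucc = m1tbl k) ∧
    bet (m1tbl 0) (m1tbl 2) = M1bas 6 ∧
    bet (m1tbl 0) (m1tbl 1) = (2 : ZMod 3) • m1tbl 0 + (1 : ZMod 3) • m1tbl 1 + (0 : ZMod 3) • m1tbl 2 + (0 : ZMod 3) • m1tbl 3 + (0 : ZMod 3) • m1tbl 4 + (0 : ZMod 3) • m1tbl 5 := by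
  decide +kernel

theorem M1_eps : ∀ ε : ZMod 3, ε ≠ 0 →
    (ε * ε) • bet (m1tbl 0) (m1tbl 1) = ε • bet (m1tbl 0) (m1tbl 1) → ε = 1 := by
  decide +kernel

theorem M1_basis : M1Bf * M1Rf = 1 := by decide +kernel

theorem M1_pow7 : M1 ^ 7 = 1 := by
  obtain ⟨h2, h3, h4, h5, h6, h7⟩ := M1_pows
  have e2 : M1 ^ 2 = M1P2 := by rw [pow_two, h2]
  have e3 : M1 ^ 3 = M1P3 := by rw [pow_succ, e2, h3]
  have e4 : M1 ^ 4 = M1P4 := by rw [pow_succ, e3, h4]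
  have e5 : M1 ^ 5 = M1P5 := by rw [pow_succ, e4, h5]
  have e6 : M1 ^ 6 = M1P6 := by rw [pow_succ, e5, h6]
  rw [pow_succ, e6, h7]

theorem M1_span (z : Matrix (Fin 7) (Fin 7) (ZMod 3)) (hc : Commute z M1) :
    ∃ a : Fin 6 → ZMod 3, z *ᵥ m1tbl 0 = ∑ k : Fin 6, a k • ((M1 ^ (k : ℕ)) *ᵥ m1tbl 0) := by
  obtain ⟨h2, h3, h4, h5, h6, -⟩ := M1_pows
  have c2 : Commute z M1P2 := by rw [← h2]; exact hc.mul_right hc
  have c3 : Commute z M1P3 := by rw [← h3]; exact c2.mul_right hc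
  have c4 : Commute z M1P4 := by rw [← h4]; exact c3.mul_right hc
  have c5 : Commute z M1P5 := by rw [← h5]; exact c4.mul_right hc
  have c6 : Commute z M1P6 := by rw [← h6]; exact c5.mul_right hc
  have hzC : Commute z M1N := by
    rw [← M1N_eq]
    exact ((((((Commute.one_right z).add_right hc).add_right c2).add_right c3).add_right c4).add_right
      c5).add_right c6
  have h := mulVec_eq_of_cert z M1N 1 M1B M1L (m1tbl 0) hzC M1N_w M1_cert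
  refine ⟨M1L *ᵥ (z *ᵥ m1tbl 0), h.trans ?_⟩
  have hcol : ∀ k : Fin 6, (M1 ^ (k : ℕ)) *ᵥ m1tbl 0 = fun i => M1B i k := by
    intro k
    rw [pow_mulVec_tbl M1 m1tbl 15 m1_step k (by have := k.isLt; omega), M1B_col]
  simp only [hcol]
  ext i
  simp [Matrix.mulVec, dotProduct, mul_comm]

theorem M1_eps_exists (z : Matrix (Fin 7) (Fin 7) (ZMod 3)) (hc : Commute z M1) (s : ℕ) (hs : s = 2 ∨ s = 3)
    (hz : z ^ s = 1) : ∃ ε : ZMod 3, ε ≠ 0 ∧ z *ᵥ m1tbl 0 = ε • m1tbl 0 := by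
  obtain ⟨a, ha⟩ := M1_span z hc
  have h729 : M1 ^ 3 ^ 6 = M1 := by
    rw [show (3 : ℕ) ^ 6 = 7 * 104 + 1 from by norm_num, pow_succ, pow_mul, M1_pow7, one_pow,
      one_mul]
  have hp : ∀ j ≤ 15, (M1 ^ j) *ᵥ m1tbl 0 = m1tbl j := pow_mulVec_tbl M1 m1tbl 15 m1_step
  rcases hs with rfl | rfl
  · have h3 : z ^ 3 ^ 1 = z := by
      rw [pow_one]
      calc z ^ 3 = z ^ 2 * z := pow_succ z 2
        _ = z := by rw [hz, one_mul]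
    have hf := frob_mulVec z M1 hc a (m1tbl 0) ha 1
    rw [h3] at hf
    have ha' : z *ᵥ m1tbl 0 = ∑ k : Fin 6, a k • m1tbl (k : ℕ) := by
      rw [ha]
      apply Finset.sum_congr rfl
      intro k _
      rw [hp k (by have := k.isLt; omega)]
    have hf' : z *ᵥ m1tbl 0 = ∑ k : Fin 6, a k • m1tbl (3 * (k : ℕ)) := by
      rw [hf]
      apply Finset.sum_congr rfl
      intro k _
      rw [pow_one, hp _ (by have := k.isLt; omega)]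
    have hD : M1D *ᵥ a = 0 := by
      ext i
      have h1 := congrFun (hf'.symm.trans ha') i
      simp only [Finset.sum_apply, Pi.smul_apply, smul_eq_mul] at h1
      simp only [Matrix.mulVec, dotProduct, M1D, Matrix.of_apply, Pi.zero_apply, sub_mul,
        Finset.sum_sub_distrib]
      rw [sub_eq_zero]
      simp only [mul_comm (m1tbl _ i)]
      exact h1
    have hJ : (Matrix.diagonal ![0, 1, 1, 1, 1, 1] : Matrix (Fin 6) (Fin 6) (ZMod 3)) *ᵥ a = 0 := by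
      rw [← M1_frob, ← Matrix.mulVec_mulVec, hD, Matrix.mulVec_zero]
    have a1 : a 1 = 0 := by simpa [Matrix.mulVec_diagonal] using congrFun hJ 1
    have a2 : a 2 = 0 := by simpa [Matrix.mulVec_diagonal] using congrFun hJ 2
    have a3 : a 3 = 0 := by simpa [Matrix.mulVec_diagonal] using congrFun hJ 3
    have a4 : a 4 = 0 := by simpa [Matrix.mulVec_diagonal] using congrFun hJ 4
    have a5 : a 5 = 0 := by simpa [Matrix.mulVec_diagonal] using congrFun hJ 5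
    have ha2 : z *ᵥ m1tbl 0 = a 0 • m1tbl 0 := by
      rw [ha', Fin.sum_univ_six, a1, a2, a3, a4, a5]
      simp
    refine ⟨a 0, ?_, ha2⟩
    intro h0
    rw [h0, zero_smul] at ha2
    have h4 : (z ^ 2) *ᵥ m1tbl 0 = 0 := by
      rw [pow_two, ← Matrix.mulVec_mulVec, ha2, Matrix.mulVec_zero]
    rw [hz, Matrix.one_mulVec] at h4
    exact m1_ne h4
  · refine ⟨1, one_ne_zero, ?_⟩
    have hf := frob_fix z M1 hc a (m1tbl 0) ha 6 h729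
    have h1 : z ^ 3 ^ 6 = 1 := by
      rw [show (3 : ℕ) ^ 6 = 3 * 243 from by norm_num, pow_mul, hz, one_pow]
    rw [h1, Matrix.one_mulVec] at hf
    rw [one_smul]
    exact hf.symm

theorem M1_end (z : Matrix (Fin 7) (Fin 7) (ZMod 3)) (hc : Commute z M1) (hB : PresB z) (ε : ZMod 3) (hε : ε ≠ 0)
    (hzw : z *ᵥ m1tbl 0 = ε • m1tbl 0) : z = 1 := by
  have hm : ∀ j ≤ 5, z *ᵥ m1tbl j = ε • m1tbl j := by
    intro j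
    induction j with
    | zero => intro _; exact hzw
    | succ j ih =>
      intro hj
      rw [← m1_step j (by omega), mulVec_comm_of_commute z M1 hc, ih (by omega),
        Matrix.mulVec_smul]
  obtain ⟨b, bx, bw⟩ := M1_brk
  have ht : z *ᵥ bet (m1tbl 0) (m1tbl 1) = (ε * ε) • bet (m1tbl 0) (m1tbl 1) := by
    rw [hB, hm 0 (by norm_num), hm 1 (by norm_num), bet_smul_left, bet_smul_right, smul_smul]
  have ht2 : z *ᵥ bet (m1tbl 0) (m1tbl 1) = ε • bet (m1tbl 0) (m1tbl 1) := by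
    rw [bw]
    simp only [Matrix.mulVec_add, Matrix.mulVec_smul, hm 0 (by norm_num), hm 1 (by norm_num),
      hm 2 (by norm_num), hm 3 (by norm_num), hm 4 (by norm_num), hm 5 (by norm_num)]
    module
  have hε1 : ε = 1 := M1_eps ε hε (ht.symm.trans ht2)
  subst hε1
  have hx : z *ᵥ M1bas 6 = M1bas 6 := by
    rw [← bx, hB, hm 0 (by norm_num), hm 2 (by norm_num), one_smul, one_smul]
  apply eq_one_of_fix_basis z M1Bf M1Rf M1_basis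
  intro k
  show z *ᵥ M1bas k = M1bas k
  induction k using Fin.lastCases with
  | last => exact hx
  | cast k =>
    rw [b k, hm k (by have := k.isLt; omega), one_smul]

/-- The centralizer statement for the element of order `7`. -/
theorem M1_cent (z : Matrix (Fin 7) (Fin 7) (ZMod 3)) (hc : Commute z M1) (hB : PresB z) (s : ℕ)
    (hs : s = 2 ∨ s = 3) (hz : z ^ s = 1) : z = 1 := by
  obtain ⟨ε, hε, hzw⟩ := M1_eps_exists z hc s hs hz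
  exact M1_end z hc hB ε hε hzw

end Cfsg.Agent.H7.G23
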