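import Mathlib
import Cfsg.Agent.H7.G2Inv3

set_option autoImplicit false

/-!
# Involutions of `G₂(q)`, `q` odd: the Bruhat cells
-/

namespace Cfsg.Agent.H7.G2I

open Cfsg.Lie Cfsg.Agent.H23

/-- Reduced words for the twelve elements of the Weyl group of type `G₂`. -/
def canonW : List (List ℕ) :=
  [[], [0], [1], [0, 1], [1, 0], [0, 1, 0], [1, 0, 1], [0, 1, 0, 1], [1, 0, 1, 0], [0, 1, 0, 1, 0],
    [1, 0, 1, 0, 1], [0, 1, 0, 1, 0, 1]]

theorem canon_lt : ∀ w ∈ canonW, ∀ i ∈ w, i < chevG2.rank := by decide +kernel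

theorem canon_step : ∀ w ∈ canonW, ∀ i < 2, ∃ w' ∈ canonW,
    ∀ s < 12, reflW chevG2 (i :: w) s = reflW chevG2 w' s := by decide +kernel

theorem exists_canon (w : List ℕ) (hw : ∀ i ∈ w, i < 2) :
    ∃ w' ∈ canonW, ∀ s < 12, reflW chevG2 w s = reflW chevG2 w' s := by
  induction w with
  | nil => exact ⟨[], by decide, fun _ _ => rfl⟩
  | cons i w ih =>
    obtain ⟨w1, hw1, h1⟩ := ih (fun j hj => hw j (List.mem_cons_of_mem _ hj))
    obtain ⟨w2, hw2, h2⟩ := canon_step w1 hw1 i (hw i (List.mem_cons_self ..))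
    refine ⟨w2, hw2, fun s hs => ?_⟩
    rw [← h2 s hs]
    show chevG2.reflectRoot i (reflW chevG2 w s) = chevG2.reflectRoot i (reflW chevG2 w1 s)
    rw [h1 s hs]

theorem canon_invol : ∀ w ∈ canonW, (∀ s < 12, reflW chevG2 w s = reflW chevG2 w.reverse s) →
    w ∈ ([[], [0], [1], [0, 1, 0], [1, 0, 1], [0, 1, 0, 1, 0], [1, 0, 1, 0, 1], [0, 1, 0, 1, 0, 1]] :
      List (List ℕ)) := by decide +kernel

section

variable {F : Type*} [Field F]

theorem nw_mem_mono (w : List ℕ) (hw : ∀ i ∈ w, i < chevG2.rank) : nw F w ∈ chevG2.monomialSubgroup F :=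
  nWU_mem (pkB F).sem (pkB F).tab w hw

theorem nw_cons (i : ℕ) (w : List ℕ) : nw F (i :: w) = ng F i * nw F w := nWU_cons (pkB F).sem i w

theorem nw_nil : nw F [] = 1 := by simp [nWU]

theorem nw_single (i : ℕ) : nw F [i] = ng F i := by simp [nWU]

theorem nw_append (w w' : List ℕ) : nw F (w ++ w') = nw F w * nw F w' := nWU_append (pkB F).sem w w'

theorem nw_sandwich (i : ℕ) (w : List ℕ) : nw F (i :: (w ++ [i])) = ng F i * nw F w * ng F i := by
  rw [nw_cons, nw_append, nw_single, mul_assoc]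

/-- Every element of the group lies in the double coset of one of the twelve words. -/
theorem exists_cell (g : GL chevG2.Idx F) (hg : g ∈ chevG2.group F) :
    ∃ w ∈ canonW, g ∈ dcB chevG2 F (nw F w) := by
  obtain ⟨n, hn, hgn⟩ := bruhat_GL (pkB F) g hg
  obtain ⟨h, hh, w, hw, rfl⟩ := exists_word_of_mem_monomial (pkB F) n hn
  obtain ⟨w', hw', e⟩ := exists_canon w hw
  refine ⟨w', hw', ?_⟩
  have h1 : dcB chevG2 F (h * nw F w) = dcB chevG2 F (nw F w) :=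
    dcB_mul_left ((le_sup_right : chevG2.diagonalSubgroup F ≤ _) hh) _
  rw [h1, dcB_word_eq_of_refl_eq (pkB F) w w' hw (canon_lt w' hw') e] at hgn
  exact hgn

/-- The double coset of an involution is that of a symmetric word. -/
theorem cell_symm (w : List ℕ) (hw : ∀ i ∈ w, i < chevG2.rank) (g : GL chevG2.Idx F)
    (hg : g ∈ dcB chevG2 F (nw F w)) (h2 : g * g = 1) :
    ∀ s < 12, reflW chevG2 w s = reflW chevG2 w.reverse s := by
  obtain ⟨h, hh, e⟩ := exists_inv_nWU (pkB F) w hw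
  have hwr : ∀ i ∈ w.reverse, i < chevG2.rank := fun j hj => hw j (List.mem_reverse.mp hj)
  have hginv : g⁻¹ = g := inv_eq_of_mul_eq_one_left h2
  have h1 : g ∈ dcB chevG2 F (nw F w.reverse) := by
    obtain ⟨b, hb, b', hb', hg'⟩ := hg
    refine ⟨b'⁻¹ * h, Subgroup.mul_mem _ (Subgroup.inv_mem _ hb')
      ((le_sup_right : chevG2.diagonalSubgroup F ≤ _) hh), b⁻¹, Subgroup.inv_mem _ hb, ?_⟩
    have e1 : b'⁻¹ * h * nw F w.reverse * b⁻¹ = b'⁻¹ * (h * nw F w.reverse) * b⁻¹ := by group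
    rw [e1, ← e, ← hginv, hg']; group
  have h3 : dcB chevG2 F (nw F w) = dcB chevG2 F (nw F w.reverse) := by
    rw [← dcB_eq_of_mem hg, dcB_eq_of_mem h1]
  exact refl_eq_of_dcB_word_eq (pkB F) w w.reverse hw hwr h3

/-- Conjugation by `n_i` moves `B n_i n n_i B` into `B n B ∪ B n_i n B`. -/
theorem conj_reduce (i : ℕ) (hi : i < 2) (n g : GL chevG2.Idx F) (hn : n ∈ chevG2.monomialSubgroup F)
    (hg : g ∈ dcB chevG2 F (ng F i * n * ng F i)) :
    ∃ g', CJ g g' ∧ (g' ∈ dcB chevG2 F n ∨ g' ∈ dcB chevG2 F (ng F i * n)) := by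
  have hP := pkB F
  obtain ⟨b₁, hb₁, b₂, hb₂, rfl⟩ := hg
  have hb := Subgroup.mul_mem _ hb₂ hb₁
  refine ⟨ng F i * (b₂ * b₁) * ng F i * n,
    ⟨ng F i * b₂, Subgroup.mul_mem _ (ng_mem i hi) (borel_le_group hP.sem hb₂), by group⟩, ?_⟩
  rcases nU_mul_mul_mem hP.sem hP.semN hP.semC hP.tab hP.tabC hP.etaNeg i hi (b₂ * b₁) hb with h | h
  · left
    exact ⟨_, h, 1, Subgroup.one_mem _, by simp⟩
  · obtain ⟨c₁, hc₁, c₂, hc₂, e⟩ := DoubleCoset.mem_doubleCoset.mp h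
    have e0 : ng F i * (b₂ * b₁) * ng F i * n = c₁ * (ng F i * c₂ * n) := by
      have : ng F i * (b₂ * b₁) * ng F i = c₁ * ng F i * c₂ := e
      rw [this]; group
    rw [e0]
    rcases bn_mul_mem hP.sem hP.semN hP.semC hP.tab hP.tabC hP.etaNeg i hi n hn c₂ hc₂ with h' | h'
    · right
      obtain ⟨d₁, hd₁, d₂, hd₂, e'⟩ := DoubleCoset.mem_doubleCoset.mp h'
      have e1 : ng F i * c₂ * n = d₁ * (ng F i * n) * d₂ := e'
      exact ⟨c₁ * d₁, Subgroup.mul_mem _ hc₁ hd₁, d₂, hd₂, by rw [e1]; group⟩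
    · left
      obtain ⟨d₁, hd₁, d₂, hd₂, e'⟩ := DoubleCoset.mem_doubleCoset.mp h'
      have e1 : ng F i * c₂ * n = d₁ * n * d₂ := e'
      exact ⟨c₁ * d₁, Subgroup.mul_mem _ hc₁ hd₁, d₂, hd₂, by rw [e1]; group⟩

theorem w0_conj_pos (u : GL chevG2.Idx F) (hu : u ∈ chevG2.posUnipotent F) :
    nw F w0G2 * u * (nw F w0G2)⁻¹ ∈ chevG2.negUnipotent F := by
  have hS := (pkB F).sem
  have key : chevG2.posUnipotent F ≤
      (chevG2.negUnipotent F).comap (MulAut.conj (nw F w0G2)).toMonoidHom := by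
    rw [posUnipotent_eq]
    apply rootGen_le hS
    intro r hr t
    rw [Subgroup.mem_comap]
    show nw F w0G2 * xU hS r t * (nw F w0G2)⁻¹ ∈ _
    obtain ⟨c, _, h⟩ := nWU_conj hS (pkB F).semN (pkB F).tab w0G2 tabW_G2.lt r hr.1
    rw [h t]
    exact xU_mem_rootGen hS chevG2.IsNegRoot _ (tabW_G2.neg r hr.1 hr) _
  exact key hu

/-- An involution in the big cell is conjugate to an element `n₀ h`. -/
theorem bigcell_invol (g : GL chevG2.Idx F) (hgG : g ∈ chevG2.group F)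
    (hg : g ∈ dcB chevG2 F (nw F w0G2)) (h2 : g * g = 1) :
    ∃ h ∈ chevG2.diagonalSubgroup F, CJ g (nw F w0G2 * h) := by
  have hP := pkB F
  have hS := hP.sem
  have hT := hP.tab
  have hnorm := diagonal_le_normalizer_rootGen hS chevG2.IsPosRoot (fun _ hr => hr.1)
  have hUB : chevG2.posUnipotent F ≤ chevG2.borelSubgroup F := le_sup_left
  have hHB : chevG2.diagonalSubgroup F ≤ chevG2.borelSubgroup F := le_sup_right
  obtain ⟨b, hb, n, hn, u, hu, e⟩ := canon_exists hP (sV F) tabT_G2 tabLG g hgG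
  have huU : u ∈ chevG2.posUnipotent F := UmG_le_pos n hu
  obtain ⟨u₁, hu₁, h₂, hh₂, e₂⟩ := exists_mul_of_mem_sup _ _ hnorm (u * b)
    (Subgroup.mul_mem _ (hUB huU) hb)
  obtain ⟨n', hn'⟩ : ∃ n', n' = h₂ * n := ⟨_, rfl⟩
  have hc : CJ g (u₁ * n') := by
    refine ⟨u, posUnipotent_le_group hS huU, ?_⟩
    have e1 : u * (b * n * u) * u⁻¹ = (u * b) * n := by group
    rw [e, e1, e₂, hn']; group
  have h2' : (u₁ * n') * (u₁ * n') = 1 := hc.sq h2
  have hn'N : n' ∈ chevG2.monomialSubgroup F := by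
    rw [hn']; exact Subgroup.mul_mem _ (diagonal_le_monomial hh₂) hn
  have hn0N : nw F w0G2 ∈ chevG2.monomialSubgroup F := nWU_mem hS hT w0G2 tabW_G2.lt
  have h3 : n' ∈ dcB chevG2 F (nw F w0G2) := by
    have h31 : g ∈ dcB chevG2 F n := ⟨b, hb, u, hUB huU, e⟩
    have h32 : dcB chevG2 F n = dcB chevG2 F (nw F w0G2) := by
      rw [← dcB_eq_of_mem h31, dcB_eq_of_mem hg]
    rw [← h32]
    exact ⟨h₂, hHB hh₂, 1, Subgroup.one_mem _, by rw [hn']; simp⟩
  have h4 := inv_mul_mem_of_mem_dcB hP hn0N hn'N h3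
  have h5 : (nw F w0G2)⁻¹ * n' ∈ chevG2.diagonalSubgroup F := by
    rw [← borel_inf_monomial hS]
    exact ⟨h4, Subgroup.mul_mem _ (Subgroup.inv_mem _ hn0N) hn'N⟩
  obtain ⟨h₃, hh₃⟩ : ∃ h₃, h₃ = (nw F w0G2)⁻¹ * n' := ⟨_, rfl⟩
  rw [← hh₃] at h5
  have hn'' : n' = nw F w0G2 * h₃ := by rw [hh₃]; group
  -- `n'⁻¹ n'⁻¹ ∈ B`
  have h6 : n'⁻¹ ∈ dcB chevG2 F n' := by
    refine ⟨u₁, hUB hu₁, u₁, hUB hu₁, ?_⟩
    have : (u₁ * n' * u₁) * n' = 1 := by rw [← h2']; group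
    exact (eq_inv_of_mul_eq_one_left this).symm
  have h7 := inv_mul_mem_of_mem_dcB hP hn'N (Subgroup.inv_mem _ hn'N) h6
  have h8 : n' * u₁ * n'⁻¹ = u₁⁻¹ * (n'⁻¹ * n'⁻¹) := by
    have : n' * u₁ = u₁⁻¹ * n'⁻¹ := by
      have e3 : u₁ * (n' * u₁) * n' = 1 := by rw [← h2']; group
      have e4 : n' * u₁ = u₁⁻¹ * (u₁ * (n' * u₁) * n') * n'⁻¹ := by group
      rw [e4, e3]; group
    rw [this]; group
  have h9 : n' * u₁ * n'⁻¹ ∈ chevG2.borelSubgroup F ⊓ chevG2.negUnipotent F := by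
    constructor
    · rw [h8]
      exact Subgroup.mul_mem _ (Subgroup.inv_mem _ (hUB hu₁)) h7
    · have e5 : n' * u₁ * n'⁻¹ = nw F w0G2 * (h₃ * u₁ * h₃⁻¹) * (nw F w0G2)⁻¹ := by
        rw [hn'']; group
      rw [e5]
      exact w0_conj_pos _ ((Subgroup.mem_normalizer_iff.mp (hnorm h5) u₁).mp hu₁)
  rw [borel_inf_neg hS (sV F), Subgroup.mem_bot] at h9
  have hu1 : u₁ = 1 := by
    have : u₁ = n'⁻¹ * (n' * u₁ * n'⁻¹) * n' := by group
    rw [this, h9]; group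
  rw [hu1, one_mul, hn''] at hc
  exact ⟨h₃, h5, hc⟩

theorem not_symm_01 : ¬ ∀ s < 12, reflW chevG2 [0, 1] s = reflW chevG2 ([0, 1] : List ℕ).reverse s := by
  decide +kernel
theorem not_symm_10 : ¬ ∀ s < 12, reflW chevG2 [1, 0] s = reflW chevG2 ([1, 0] : List ℕ).reverse s := by
  decide +kernel
theorem not_symm_0101 :
    ¬ ∀ s < 12, reflW chevG2 [0, 1, 0, 1] s = reflW chevG2 ([0, 1, 0, 1] : List ℕ).reverse s := by
  decide +kernel
theorem not_symm_1010 :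
    ¬ ∀ s < 12, reflW chevG2 [1, 0, 1, 0] s = reflW chevG2 ([1, 0, 1, 0] : List ℕ).reverse s := by
  decide +kernel

/-- Involutions in the cells of the reflections of length three. -/
theorem good_of_cell3 [Fintype F] (hF : Odd (Fintype.card F)) (i j : ℕ)
    (hij : (i = 0 ∧ j = 1) ∨ (i = 1 ∧ j = 0)) (g : GL chevG2.Idx F)
    (hg : g ∈ dcB chevG2 F (nw F [i, j, i])) (h2 : g * g = 1) (h1 : g ≠ 1) : CJ g (t0 F) := by
  have hi : i < 2 := by rcases hij with ⟨rfl, rfl⟩ | ⟨rfl, rfl⟩ <;> decide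
  have hj : j < 2 := by rcases hij with ⟨rfl, rfl⟩ | ⟨rfl, rfl⟩ <;> decide
  have e : nw F [i, j, i] = ng F i * nw F [j] * ng F i := nw_sandwich i [j]
  rw [e] at hg
  obtain ⟨g', hc, h | h⟩ := conj_reduce i hi (nw F [j]) g
    (nw_mem_mono [j] (by intro k hk; rw [List.mem_singleton] at hk; rw [hk]; exact hj)) hg
  · rw [nw_single] at h
    exact hc.trans (good_of_cell1 hF j hj g' h (hc.sq h2) (hc.ne_one h1))
  · exfalso
    rw [← nw_cons] at h
    have h3 := cell_symm [i, j] (by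
      intro k hk
      simp only [List.mem_cons, List.not_mem_nil, or_false] at hk
      rcases hk with rfl | rfl
      · exact hi
      · exact hj) g' h (hc.sq h2)
    rcases hij with ⟨rfl, rfl⟩ | ⟨rfl, rfl⟩
    · exact not_symm_01 h3
    · exact not_symm_10 h3

/-- Involutions in the cells of the reflections of length five. -/
theorem good_of_cell5 [Fintype F] (hF : Odd (Fintype.card F)) (i j : ℕ)
    (hij : (i = 0 ∧ j = 1) ∨ (i = 1 ∧ j = 0)) (g : GL chevG2.Idx F)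
    (hg : g ∈ dcB chevG2 F (nw F [i, j, i, j, i])) (h2 : g * g = 1) (h1 : g ≠ 1) : CJ g (t0 F) := by
  have hi : i < 2 := by rcases hij with ⟨rfl, rfl⟩ | ⟨rfl, rfl⟩ <;> decide
  have hj : j < 2 := by rcases hij with ⟨rfl, rfl⟩ | ⟨rfl, rfl⟩ <;> decide
  have e : nw F [i, j, i, j, i] = ng F i * nw F [j, i, j] * ng F i := nw_sandwich i [j, i, j]
  rw [e] at hg
  have hlt : ∀ k ∈ [j, i, j], k < chevG2.rank := by
    intro k hk
    simp only [List.mem_cons, List.not_mem_nil, or_false] at hk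
    rcases hk with rfl | rfl | rfl
    · exact hj
    · exact hi
    · exact hj
  obtain ⟨g', hc, h | h⟩ := conj_reduce i hi (nw F [j, i, j]) g (nw_mem_mono _ hlt) hg
  · have hji : (j = 0 ∧ i = 1) ∨ (j = 1 ∧ i = 0) := by
      rcases hij with ⟨rfl, rfl⟩ | ⟨rfl, rfl⟩ <;> simp
    exact hc.trans (good_of_cell3 hF j i hji g' h (hc.sq h2) (hc.ne_one h1))
  · exfalso
    rw [← nw_cons] at h
    have h3 := cell_symm [i, j, i, j] (by
      intro k hk
      simp only [List.mem_cons, List.not_mem_nil, or_false] at hk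
      rcases hk with rfl | rfl | rfl | rfl
      · exact hi
      · exact hj
      · exact hi
      · exact hj) g' h (hc.sq h2)
    rcases hij with ⟨rfl, rfl⟩ | ⟨rfl, rfl⟩
    · exact not_symm_0101 h3
    · exact not_symm_1010 h3

end

end Cfsg.Agent.H7.G2I
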