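import Mathlib
import Cfsg.Agent.H7.PSL2

set_option autoImplicit false

namespace Cfsg.Agent.H7

open Matrix

open scoped MatrixGroups

section Luc

variable {F : Type*} [Field F]

/-- Lucas-type sequence: coefficients of the powers of a `2 × 2` matrix of determinant one and
trace `τ`. -/
def luc (τ : F) : ℕ → F
  | 0 => 0
  | 1 => 1
  | (n + 2) => τ * luc τ (n + 1) - luc τ n

theorem luc_zero (τ : F) : luc τ 0 = 0 := rfl

theorem luc_one (τ : F) : luc τ 1 = 1 := rfl

theorem luc_add_two (τ : F) (n : ℕ) : luc τ (n + 2) = τ * luc τ (n + 1) - luc τ n := rfl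

theorem sl2_sq_eq (A : SL(2, F)) :
    A.1 * A.1 = (A.1 0 0 + A.1 1 1) • A.1 - 1 := by
  have hdet := sl2_det A
  ext i j
  fin_cases i <;> fin_cases j
  · simp [Matrix.mul_apply, Fin.sum_univ_two]; linear_combination -hdet
  · simp [Matrix.mul_apply, Fin.sum_univ_two]; ring
  · simp [Matrix.mul_apply, Fin.sum_univ_two]; ring
  · simp [Matrix.mul_apply, Fin.sum_univ_two]; linear_combination -hdet

theorem sl2_pow_luc (A : SL(2, F)) (k : ℕ) :
    A.1 ^ (k + 1) = luc (A.1 0 0 + A.1 1 1) (k + 1) • A.1 - luc (A.1 0 0 + A.1 1 1) k • 1 := by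
  induction k with
  | zero => simp [luc_zero, luc_one]
  | succ k ih =>
    rw [pow_succ, ih, sub_mul, smul_mul_assoc, smul_mul_assoc, one_mul, sl2_sq_eq, luc_add_two]
    module

theorem sl2_pow_mem_center_of_luc (A : SL(2, F)) (n : ℕ) (hn : n ≠ 0)
    (h : luc (A.1 0 0 + A.1 1 1) n = 0) : A ^ n ∈ Subgroup.center SL(2, F) := by
  obtain ⟨k, rfl⟩ := Nat.exists_eq_succ_of_ne_zero hn
  rw [sl2_mem_center_iff]
  have h1 : (A ^ (k + 1)).1 = - luc (A.1 0 0 + A.1 1 1) k • 1 := by
    rw [Matrix.SpecialLinearGroup.coe_pow, sl2_pow_luc, h]; module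
  rw [h1]
  simp

theorem luc_parabolic (ε : F) (hε : ε * ε = 1) (k : ℕ) :
    luc (2 * ε) k = k * ε ^ (k + 1) := by
  induction k using Nat.twoStepInduction with
  | zero => simp [luc_zero]
  | one => simp [luc_one]; linear_combination -hε
  | more k ih0 ih1 =>
    rw [luc_add_two, ih0, ih1]
    push_cast
    linear_combination ((k : F) * ε ^ (k + 1)) * hε

theorem luc_hyperbolic (l m : F) (h : l * m = 1) (k : ℕ) :
    (l - m) * luc (l + m) k = l ^ k - m ^ k := by
  induction k using Nat.twoStepInduction with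
  | zero => simp [luc_zero]
  | one => simp [luc_one]
  | more k ih0 ih1 =>
    rw [luc_add_two]
    linear_combination (l + m) * ih1 - ih0 + (l ^ k - m ^ k) * h

end Luc

section Orders

variable {F : Type*} [Field F]

theorem odd_orderOf_mk_of_pow_mem_center (A : SL(2, F)) (n : ℕ) (hn : Odd n)
    (h : A ^ n ∈ Subgroup.center SL(2, F)) :
    Odd (orderOf (QuotientGroup.mk A : PSL(2, F))) := by
  have h1 : (QuotientGroup.mk A : PSL(2, F)) ^ n = 1 := by
    rw [← QuotientGroup.mk_pow]; exact (QuotientGroup.eq_one_iff _).mpr h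
  exact Odd.of_dvd_nat hn (orderOf_dvd_of_pow_eq_one h1)

theorem trace_zero_of_orderOf_two (A : SL(2, F))
    (h : orderOf (QuotientGroup.mk A : PSL(2, F)) = 2) : A.1 0 0 + A.1 1 1 = 0 := by
  by_contra ht
  have hsq : A * A ∈ Subgroup.center SL(2, F) := by
    have h1 := pow_orderOf_eq_one (QuotientGroup.mk A : PSL(2, F))
    rw [h, pow_two] at h1
    rw [← QuotientGroup.eq_one_iff, QuotientGroup.mk_mul]
    exact h1
  have hc := sl2_mem_center_of_sq A hsq ht
  rw [← QuotientGroup.eq_one_iff] at hc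
  rw [hc, orderOf_one] at h
  exact absurd h (by norm_num)

theorem mk_mul_self_of_trace_zero (C : SL(2, F)) (h : C.1 0 0 + C.1 1 1 = 0) :
    (QuotientGroup.mk C : PSL(2, F)) * QuotientGroup.mk C = 1 := by
  rw [← QuotientGroup.mk_mul, QuotientGroup.eq_one_iff, sl2_mem_center_iff]
  simp only [sl2_mul_apply]
  have h11 : C.1 1 1 = - C.1 0 0 := by linear_combination h
  refine ⟨?_, ?_, ?_⟩
  · rw [h11]; ring
  · rw [h11]; ring
  · rw [h11]; ring

theorem sl2_center_char_two (h2 : (2 : F) = 0) (N : SL(2, F))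
    (hN : N ∈ Subgroup.center SL(2, F)) : N = 1 := by
  rw [sl2_mem_center_iff] at hN
  obtain ⟨h01, h10, h00⟩ := hN
  have hdet := sl2_det N
  rw [h01, ← h00] at hdet
  have h1 : (N.1 0 0 - 1) * (N.1 0 0 - 1) = 0 := by
    linear_combination hdet - (N.1 0 0 - 1) * h2
  have h00' : N.1 0 0 = 1 := by
    have := mul_self_eq_zero.mp h1
    linear_combination this
  ext i j
  fin_cases i <;> fin_cases j
  · simpa using h00'
  · simpa using h01
  · simpa using h10
  · simp only [Fin.mk_one, Fin.isValue]; rw [← h00, h00']; simp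

variable [Fintype F]

/-- In characteristic two, an element of `SL₂` with nonzero trace has odd order. -/
theorem odd_orderOf_of_trace_ne_zero (h2 : (2 : F) = 0) (A : SL(2, F))
    (ht : A.1 0 0 + A.1 1 1 ≠ 0) : Odd (orderOf (QuotientGroup.mk A : PSL(2, F))) := by
  classical
  have hn : 0 < orderOf A := orderOf_pos A
  have hmk : (QuotientGroup.mk A : PSL(2, F)) ^ orderOf A = 1 := by
    rw [← QuotientGroup.mk_pow, pow_orderOf_eq_one]; rfl
  suffices Odd (orderOf A) from Odd.of_dvd_nat this (orderOf_dvd_of_pow_eq_one hmk)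
  by_contra hodd
  rw [Nat.not_odd_iff_even] at hodd
  obtain ⟨m, hm⟩ := hodd
  have hm0 : m ≠ 0 := by omega
  have hNN : A ^ m * A ^ m = 1 := by rw [← pow_add, ← hm]; exact pow_orderOf_eq_one _
  have hN1 : A ^ m ≠ 1 := pow_ne_one_of_lt_orderOf hm0 (by omega)
  obtain ⟨k, rfl⟩ := Nat.exists_eq_succ_of_ne_zero hm0
  have hpow := sl2_pow_luc A k
  by_cases htN : (A ^ (k + 1)).1 0 0 + (A ^ (k + 1)).1 1 1 = 0
  · rw [Matrix.SpecialLinearGroup.coe_pow, hpow] at htN
    simp at htN
    have h3 : luc (A.1 0 0 + A.1 1 1) (k + 1) * (A.1 0 0 + A.1 1 1) = 0 := by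
      linear_combination htN + luc (A.1 0 0 + A.1 1 1) k * h2
    have h4 : luc (A.1 0 0 + A.1 1 1) (k + 1) = 0 := (mul_eq_zero.mp h3).resolve_right ht
    exact hN1 (sl2_center_char_two h2 _ (sl2_pow_mem_center_of_luc A (k + 1) (by omega) h4))
  · have hc := sl2_mem_center_of_sq (A ^ (k + 1)) (by rw [hNN]; exact Subgroup.one_mem _) htN
    exact hN1 (sl2_center_char_two h2 _ hc)

/-- In odd characteristic, an element of `SL₂` with trace `±2` has odd order modulo the
centre. -/
theorem odd_orderOf_of_trace_sq (h2 : (2 : F) ≠ 0) (A : SL(2, F))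
    (ht : (A.1 0 0 + A.1 1 1) ^ 2 = 4) : Odd (orderOf (QuotientGroup.mk A : PSL(2, F))) := by
  obtain ⟨p, hp⟩ := CharP.exists F
  have hprime : p.Prime := by
    have := hp
    exact (CharP.char_is_prime_or_zero F p).resolve_right (CharP.char_ne_zero_of_finite F p)
  have hp2 : p ≠ 2 := by
    rintro rfl
    apply h2
    have := CharP.cast_eq_zero F 2
    exact_mod_cast this
  have hodd : Odd p := hprime.odd_of_ne_two hp2
  set ε : F := (A.1 0 0 + A.1 1 1) / 2 with hε
  have hεε : ε * ε = 1 := by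
    rw [hε]; field_simp; linear_combination ht
  have hτ : A.1 0 0 + A.1 1 1 = 2 * ε := by rw [hε]; field_simp
  have hluc : luc (A.1 0 0 + A.1 1 1) p = 0 := by
    rw [hτ, luc_parabolic ε hεε, CharP.cast_eq_zero F p, zero_mul]
  exact odd_orderOf_mk_of_pow_mem_center A p hodd
    (sl2_pow_mem_center_of_luc A p hprime.ne_zero hluc)

/-- When `q ≡ 3 (mod 4)`, an element of `SL₂(q)` with an eigenvalue in the field has odd
order modulo the centre. -/
theorem odd_orderOf_of_trace_eq (hq : Fintype.card F % 4 = 3) (A : SL(2, F)) (l : F)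
    (hl : l ≠ 0) (ht : A.1 0 0 + A.1 1 1 = l + l⁻¹) :
    Odd (orderOf (QuotientGroup.mk A : PSL(2, F))) := by
  have hcardodd : Odd (Fintype.card F) := by
    rw [Nat.odd_iff]; omega
  have h2 : (2 : F) ≠ 0 := two_ne_zero_of_odd_card hcardodd
  by_cases h : l = l⁻¹
  · apply odd_orderOf_of_trace_sq h2
    rw [ht, ← h]
    have : l * l = 1 := by nth_rewrite 2 [h]; exact mul_inv_cancel₀ hl
    linear_combination 4 * this
  · have hn : Odd ((Fintype.card F - 1) / 2) := by
      rw [Nat.odd_iff]; omega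
    have hpow : l ^ (Fintype.card F - 1) = 1 := FiniteField.pow_card_sub_one_eq_one l hl
    have h2n : Fintype.card F - 1 = (Fintype.card F - 1) / 2 + (Fintype.card F - 1) / 2 := by
      omega
    have hsq : l ^ ((Fintype.card F - 1) / 2) * l ^ ((Fintype.card F - 1) / 2) = 1 := by
      rw [← pow_add, ← h2n, hpow]
    have hinv : l⁻¹ ^ ((Fintype.card F - 1) / 2) = l ^ ((Fintype.card F - 1) / 2) := by
      rw [inv_pow]; exact inv_eq_of_mul_eq_one_right hsq
    have hluc := luc_hyperbolic l l⁻¹ (mul_inv_cancel₀ hl) ((Fintype.card F - 1) / 2)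
    rw [hinv, sub_self] at hluc
    have hluc0 : luc (A.1 0 0 + A.1 1 1) ((Fintype.card F - 1) / 2) = 0 := by
      rw [ht]
      exact (mul_eq_zero.mp hluc).resolve_left (sub_ne_zero.mpr h)
    exact odd_orderOf_mk_of_pow_mem_center A _ hn
      (sl2_pow_mem_center_of_luc A _ (by omega) hluc0)

end Orders

section Third

variable {F : Type*} [Field F]

/-- An element of `SL₂` with prescribed entries. -/
def slMk (a b c d : F) (h : a * d - b * c = 1) : SL(2, F) :=
  ⟨!![a, b; c, d], by rw [Matrix.det_fin_two_of]; exact h⟩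

@[simp] theorem slMk_00 (a b c d : F) (h : a * d - b * c = 1) : (slMk a b c d h).1 0 0 = a := rfl
@[simp] theorem slMk_01 (a b c d : F) (h : a * d - b * c = 1) : (slMk a b c d h).1 0 1 = b := rfl
@[simp] theorem slMk_10 (a b c d : F) (h : a * d - b * c = 1) : (slMk a b c d h).1 1 0 = c := rfl
@[simp] theorem slMk_11 (a b c d : F) (h : a * d - b * c = 1) : (slMk a b c d h).1 1 1 = d := rfl

/-- Given two trace-zero elements `A`, `B` of `SL₂` and a solution of the norm equation,
there is a trace-zero `C` with prescribed traces of `A * C` and `C * B`. -/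
theorem exists_third_invol (A B : SL(2, F)) (hA : A.1 0 0 + A.1 1 1 = 0) (hB : B.1 0 0 + B.1 1 1 = 0)
    (α β ρ : F)
    (h : α ^ 2 + β ^ 2 - α * β * ((A * B).1 0 0 + (A * B).1 1 1)
      + ρ ^ 2 * (4 - ((A * B).1 0 0 + (A * B).1 1 1) ^ 2) = 1) :
    ∃ C : SL(2, F), C.1 0 0 + C.1 1 1 = 0 ∧
      (A * C).1 0 0 + (A * C).1 1 1 = -2 * α + β * ((A * B).1 0 0 + (A * B).1 1 1) ∧
      (C * B).1 0 0 + (C * B).1 1 1 = α * ((A * B).1 0 0 + (A * B).1 1 1) - 2 * β := by
  have hdA := sl2_det A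
  have hdB := sl2_det B
  simp only [sl2_mul_apply] at h ⊢
  have ha4 : A.1 1 1 = - A.1 0 0 := by linear_combination hA
  have hb4 : B.1 1 1 = - B.1 0 0 := by linear_combination hB
  rw [ha4] at hdA h ⊢
  rw [hb4] at hdB h ⊢
  generalize A.1 0 0 = a1 at *
  generalize A.1 0 1 = a2 at *
  generalize A.1 1 0 = a3 at *
  generalize B.1 0 0 = b1 at *
  generalize B.1 0 1 = b2 at *
  generalize B.1 1 0 = b3 at *
  refine ⟨slMk (α * a1 + β * b1 + ρ * (a2 * b3 - b2 * a3))
    (α * a2 + β * b2 + ρ * (2 * a1 * b2 - 2 * a2 * b1))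
    (α * a3 + β * b3 + ρ * (2 * a3 * b1 - 2 * a1 * b3))
    (-(α * a1 + β * b1 + ρ * (a2 * b3 - b2 * a3))) ?_, ?_, ?_, ?_⟩
  · grind
  · simp
  · simp only [slMk_00, slMk_01, slMk_10, slMk_11]
    grind
  · simp only [slMk_00, slMk_01, slMk_10, slMk_11]
    grind

end Third

section Common

variable {F : Type*} [Field F] [Fintype F]

omit [Field F] in
theorem exists_ne_of_card (hF : 4 ≤ Fintype.card F) (a b c : F) :
    ∃ s : F, s ≠ a ∧ s ≠ b ∧ s ≠ c := by
  classical
  by_contra h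
  have hsub : (Finset.univ : Finset F) ⊆ {a, b, c} := by
    intro s _
    simp only [Finset.mem_insert, Finset.mem_singleton]
    by_contra hs
    exact h ⟨s, fun h1 => hs (Or.inl h1), fun h1 => hs (Or.inr (Or.inl h1)),
      fun h1 => hs (Or.inr (Or.inr h1))⟩
  have h1 := Finset.card_le_card hsub
  rw [Finset.card_univ] at h1
  have h2 := Finset.card_le_three (a := a) (b := b) (c := c)
  omega

/-- Common neighbour in characteristic two. -/
theorem exists_common_char_two (h2 : (2 : F) = 0) (A B : SL(2, F))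
    (hA : orderOf (QuotientGroup.mk A : PSL(2, F)) = 2)
    (hB : orderOf (QuotientGroup.mk B : PSL(2, F)) = 2) :
    ∃ C : SL(2, F), C.1 0 0 + C.1 1 1 = 0 ∧
      Odd (orderOf (QuotientGroup.mk (A * C) : PSL(2, F))) ∧
      Odd (orderOf (QuotientGroup.mk (C * B) : PSL(2, F))) := by
  have tA := trace_zero_of_orderOf_two A hA
  have tB := trace_zero_of_orderOf_two B hB
  have hnc : ∀ M : SL(2, F), orderOf (QuotientGroup.mk M : PSL(2, F)) = 2 →
      M.1 0 0 + M.1 1 1 = 0 → ¬ (M.1 0 1 = 0 ∧ M.1 1 0 = 0) := by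
    intro M hM tM hz
    have hc : M ∈ Subgroup.center SL(2, F) := by
      rw [sl2_mem_center_iff]
      exact ⟨hz.1, hz.2, by linear_combination tM - M.1 1 1 * h2⟩
    rw [← QuotientGroup.eq_one_iff] at hc
    rw [hc, orderOf_one] at hM
    exact absurd hM (by norm_num)
  have hAn := hnc A hA tA
  have hBn := hnc B hB tB
  by_cases h1 : A.1 1 0 ≠ 0 ∧ B.1 1 0 ≠ 0
  · refine ⟨slMk 1 1 0 1 (by ring), ?_, ?_, ?_⟩
    · simp only [slMk_00, slMk_11]; linear_combination h2
    · apply odd_orderOf_of_trace_ne_zero h2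
      simp only [sl2_mul_apply, slMk_00, slMk_01, slMk_10, slMk_11]
      intro h; apply h1.1; linear_combination h - tA
    · apply odd_orderOf_of_trace_ne_zero h2
      simp only [sl2_mul_apply, slMk_00, slMk_01, slMk_10, slMk_11]
      intro h; apply h1.2; linear_combination h - tB
  by_cases h3 : A.1 0 1 ≠ 0 ∧ B.1 0 1 ≠ 0
  · refine ⟨slMk 1 0 1 1 (by ring), ?_, ?_, ?_⟩
    · simp only [slMk_00, slMk_11]; linear_combination h2
    · apply odd_orderOf_of_trace_ne_zero h2
      simp only [sl2_mul_apply, slMk_00, slMk_01, slMk_10, slMk_11]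
      intro h; apply h3.1; linear_combination h - tA
    · apply odd_orderOf_of_trace_ne_zero h2
      simp only [sl2_mul_apply, slMk_00, slMk_01, slMk_10, slMk_11]
      intro h; apply h3.2; linear_combination h - tB
  · refine ⟨slMk 0 1 (-1) 0 (by ring), ?_, ?_, ?_⟩
    · simp only [slMk_00, slMk_11]; ring
    · apply odd_orderOf_of_trace_ne_zero h2
      simp only [sl2_mul_apply, slMk_00, slMk_01, slMk_10, slMk_11]
      intro h
      have hh : A.1 1 0 = A.1 0 1 := by linear_combination h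
      by_cases ha : A.1 1 0 = 0
      · exact hAn ⟨by rw [← hh, ha], ha⟩
      · have hb : B.1 1 0 = 0 := by
          by_contra hb; exact h1 ⟨ha, hb⟩
        have hb' : B.1 0 1 ≠ 0 := fun hb' => hBn ⟨hb', hb⟩
        exact h3 ⟨by rw [← hh]; exact ha, hb'⟩
    · apply odd_orderOf_of_trace_ne_zero h2
      simp only [sl2_mul_apply, slMk_00, slMk_01, slMk_10, slMk_11]
      intro h
      have hh : B.1 1 0 = B.1 0 1 := by linear_combination h
      by_cases hb : B.1 1 0 = 0
      · exact hBn ⟨by rw [← hh, hb], hb⟩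
      · have ha : A.1 1 0 = 0 := by
          by_contra ha; exact h1 ⟨ha, hb⟩
        have ha' : A.1 0 1 ≠ 0 := fun ha' => hAn ⟨ha', ha⟩
        exact h3 ⟨ha', by rw [← hh]; exact hb⟩

/-- Common neighbour when `-1` is a square (odd characteristic). -/
theorem exists_common_of_sq_neg_one (h2 : (2 : F) ≠ 0) (i : F) (hi : i * i = -1)
    (A B : SL(2, F)) (hA : A.1 0 0 + A.1 1 1 = 0) (hB : B.1 0 0 + B.1 1 1 = 0) :
    ∃ C : SL(2, F), C.1 0 0 + C.1 1 1 = 0 ∧
      Odd (orderOf (QuotientGroup.mk (A * C) : PSL(2, F))) ∧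
      Odd (orderOf (QuotientGroup.mk (C * B) : PSL(2, F))) := by
  by_cases hτ : (A * B).1 0 0 + (A * B).1 1 1 + 2 = 0
  · refine ⟨A, hA, ?_, ?_⟩
    · rw [QuotientGroup.mk_mul, mk_mul_self_of_trace_zero A hA, orderOf_one]; exact odd_one
    · apply odd_orderOf_of_trace_sq h2
      have : (A * B).1 0 0 + (A * B).1 1 1 = -2 := by linear_combination hτ
      rw [this]; ring
  · set τ := (A * B).1 0 0 + (A * B).1 1 1 with hτdef
    obtain ⟨C, hC, h1, h3⟩ := exists_third_invol A B hA hB (2 / (τ + 2)) (-2 / (τ + 2)) (i / (τ + 2))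
      (by
        rw [← hτdef]
        field_simp
        linear_combination (4 - τ ^ 2) * hi)
    rw [← hτdef] at h1 h3
    refine ⟨C, hC, ?_, ?_⟩
    · apply odd_orderOf_of_trace_sq h2
      rw [h1]
      field_simp
      ring
    · apply odd_orderOf_of_trace_sq h2
      rw [h3]
      field_simp
      ring

end Common

section Hard

variable {F : Type*} [Field F] [Fintype F]

/-- Some value `u ^ 2 + σ ^ 2` is a non-square (odd characteristic, `σ ≠ 0`). -/
theorem exists_not_isSquare_sq_add (h2 : (2 : F) ≠ 0) (σ : F) (hσ : σ ≠ 0) :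
    ∃ u : F, ¬ IsSquare (u ^ 2 + σ ^ 2) := by
  by_contra hcon
  have hall : ∀ u : F, ∃ w : F, u ^ 2 + σ ^ 2 = w * w := by
    intro u
    by_contra h
    exact hcon ⟨u, fun ⟨w, hw⟩ => h ⟨w, hw⟩⟩
  choose w hw using hall
  have hne : ∀ u, w u - u ≠ 0 := by
    intro u h
    have : σ ^ 2 = (w u - u) * (w u + u) := by linear_combination hw u
    rw [h, zero_mul] at this
    exact hσ (pow_eq_zero_iff (two_ne_zero) |>.mp this)
  have hinj : Function.Injective fun u => w u - u := by
    intro u u' h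
    simp only at h
    have e1 : σ ^ 2 = (w u - u) * (w u + u) := by linear_combination hw u
    have e2 : σ ^ 2 = (w u' - u') * (w u' + u') := by linear_combination hw u'
    rw [← h] at e2
    have e3 : w u + u = w u' + u' := mul_left_cancel₀ (hne u) (e1.symm.trans e2)
    have e4 : 2 * u = 2 * u' := by linear_combination e3 - h
    exact mul_left_cancel₀ h2 e4
  obtain ⟨u, hu⟩ := (Finite.injective_iff_surjective.mp hinj) 0
  exact hne u hu

/-- The arithmetic input for the case `q ≡ 3 (mod 4)`. -/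
theorem exists_klw (hq : Fintype.card F % 4 = 3) (hF : 4 ≤ Fintype.card F) (τ : F)
    (hτ : ¬ IsSquare (τ ^ 2 - 4)) :
    ∃ k l w : F, k ≠ 0 ∧ l ≠ 0 ∧
      w * w = -((k ^ 2 * l ^ 2 + τ * k * l + 1) * (k ^ 2 + τ * k * l + l ^ 2)) := by
  classical
  have hcardodd : Odd (Fintype.card F) := by
    rw [Nat.odd_iff]; omega
  have h2 : (2 : F) ≠ 0 := two_ne_zero_of_odd_card hcardodd
  have hneg : ¬ IsSquare (-1 : F) := by
    rw [FiniteField.isSquare_neg_one_iff]; omega
  have hχneg : quadraticChar F (-1) = -1 := quadraticChar_neg_one_iff_not_isSquare.mpr hneg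
  have hχτ : quadraticChar F (τ ^ 2 - 4) = -1 := quadraticChar_neg_one_iff_not_isSquare.mpr hτ
  have hχD : quadraticChar F (4 - τ ^ 2) = 1 := by
    have : (4 - τ ^ 2 : F) = -1 * (τ ^ 2 - 4) := by ring
    rw [this, map_mul, hχneg, hχτ]; norm_num
  have hD0 : (4 - τ ^ 2 : F) ≠ 0 := by
    intro h; rw [h, quadraticChar_zero] at hχD; exact absurd hχD (by norm_num)
  obtain ⟨e, he⟩ := (quadraticChar_one_iff_isSquare hD0).mp hχD
  have he0 : e ≠ 0 := by
    rintro rfl; rw [mul_zero] at he; exact hD0 he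
  -- the quadratic
  set g : F → F := fun X => X ^ 2 + τ * X + 1 with hg
  have hg0 : ∀ X, g X ≠ 0 := by
    intro X h
    apply hτ
    refine ⟨2 * X + τ, ?_⟩
    simp only [hg] at h
    linear_combination -4 * h
  have hdich : ∀ X, quadraticChar F (g X) = 1 ∨ quadraticChar F (g X) = -1 :=
    fun X => quadraticChar_dichotomy (hg0 X)
  -- a nonsquare value
  obtain ⟨u, hu⟩ := exists_not_isSquare_sq_add h2 (e / 2) (div_ne_zero he0 h2)
  have hgP2 : quadraticChar F (g (u - τ / 2)) = -1 := by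
    rw [quadraticChar_neg_one_iff_not_isSquare]
    have : g (u - τ / 2) = u ^ 2 + (e / 2) ^ 2 := by
      simp only [hg]; field_simp; linear_combination he
    rw [this]; exact hu
  have hP2 : u - τ / 2 ≠ 0 := by
    intro h
    rw [h] at hgP2
    have : g 0 = 1 := by simp [hg]
    rw [this, map_one] at hgP2
    exact absurd hgP2 (by norm_num)
  -- a square value at a nonzero point
  obtain ⟨P1, hP1, hgP1⟩ : ∃ P1 : F, P1 ≠ 0 ∧ quadraticChar F (g P1) = 1 := by
    by_cases hτ0 : τ = 0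
    · obtain ⟨s, hs0, hs1, hs2⟩ := exists_ne_of_card hF (0 : F) 1 (-1)
      refine ⟨(s - s⁻¹) / 2, ?_, ?_⟩
      · intro h
        have h3 : s - s⁻¹ = 0 := by
          rcases div_eq_zero_iff.mp h with h | h
          · exact h
          · exact absurd h h2
        have h4 : (s - 1) * (s + 1) = 0 := by
          have : s * s⁻¹ = 1 := mul_inv_cancel₀ hs0
          linear_combination s * h3 + this
        rcases mul_eq_zero.mp h4 with h | h
        · exact hs1 (by linear_combination h)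
        · exact hs2 (by linear_combination h)
      · rw [quadraticChar_one_iff_isSquare (hg0 _)]
        refine ⟨(s + s⁻¹) / 2, ?_⟩
        simp only [hg, hτ0]
        field_simp
        ring
    · refine ⟨-τ / 2, ?_, ?_⟩
      · intro h
        rcases div_eq_zero_iff.mp h with h | h
        · exact hτ0 (neg_eq_zero.mp h)
        · exact absurd h h2
      · rw [quadraticChar_one_iff_isSquare (hg0 _)]
        refine ⟨e / 2, ?_⟩
        simp only [hg]
        field_simp
        linear_combination he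
  -- values at ±1
  have hg1 : quadraticChar F (g 1) = quadraticChar F (g (-1)) := by
    have hprod : g 1 * g (-1) = 4 - τ ^ 2 := by simp only [hg]; ring
    have h3 : quadraticChar F (g 1) * quadraticChar F (g (-1)) = 1 := by
      rw [← map_mul, hprod, hχD]
    rcases hdich 1 with h | h <;> rcases hdich (-1) with h' | h' <;> rw [h, h'] at h3 ⊢ <;>
      norm_num at h3
  have hχ1 : quadraticChar F (1 : F) = 1 := map_one _
  -- the pair
  obtain ⟨P, R, hP, hR, hPR, hgPR⟩ : ∃ P R : F, P ≠ 0 ∧ R ≠ 0 ∧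
      quadraticChar F P = quadraticChar F R ∧
      quadraticChar F (g P) * quadraticChar F (g R) = -1 := by
    have hone : (1 : F) ≠ 0 := one_ne_zero
    have hmone : (-1 : F) ≠ 0 := neg_ne_zero.mpr one_ne_zero
    by_cases hc : quadraticChar F P1 = quadraticChar F (u - τ / 2)
    · exact ⟨P1, u - τ / 2, hP1, hP2, hc, by rw [hgP1, hgP2]; norm_num⟩
    · rcases hdich 1 with hε | hε
      · -- g 1 and g (-1) squares : pair with P2
        rcases quadraticChar_dichotomy hP2 with h | h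
        · exact ⟨1, u - τ / 2, hone, hP2, by rw [hχ1, h], by rw [hε, hgP2]; norm_num⟩
        · exact ⟨-1, u - τ / 2, hmone, hP2, by rw [hχneg, h],
            by rw [← hg1, hε, hgP2]; norm_num⟩
      · rcases quadraticChar_dichotomy hP1 with h | h
        · exact ⟨P1, 1, hP1, hone, by rw [hχ1, h], by rw [hε, hgP1]; norm_num⟩
        · exact ⟨P1, -1, hP1, hmone, by rw [hχneg, h],
            by rw [← hg1, hε, hgP1]; norm_num⟩
  -- extract square roots
  have hPRne : P * R ≠ 0 := mul_ne_zero hP hR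
  have hχPR : quadraticChar F (P * R) = 1 := by
    rw [map_mul, hPR]
    rcases quadraticChar_dichotomy hR with h | h <;> rw [h] <;> norm_num
  obtain ⟨k, hk⟩ := (quadraticChar_one_iff_isSquare hPRne).mp hχPR
  have hk0 : k ≠ 0 := by
    rintro rfl; rw [mul_zero] at hk; exact hPRne hk
  have hgg : -(g P * g R) ≠ 0 := neg_ne_zero.mpr (mul_ne_zero (hg0 P) (hg0 R))
  have hχgg : quadraticChar F (-(g P * g R)) = 1 := by
    have : -(g P * g R) = -1 * (g P * g R) := by ring
    rw [this, map_mul, map_mul, hχneg, hgPR]; norm_num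
  obtain ⟨ω, hω⟩ := (quadraticChar_one_iff_isSquare hgg).mp hχgg
  refine ⟨k, P / k, ω * (P / k), hk0, div_ne_zero hP hk0, ?_⟩
  have hR' : R = k * k / P := by field_simp; linear_combination hk
  simp only [hg] at hω
  rw [hR'] at hω
  have hω' : ω * ω * P ^ 2 = -((P ^ 2 + τ * P + 1) * (k ^ 4 + τ * k ^ 2 * P + P ^ 2)) := by
    have := hω
    field_simp at this
    linear_combination -this
  field_simp
  linear_combination hω'

omit [Fintype F] in
theorem norm_identity (τ k l w : F) (h2 : (2 : F) ≠ 0) (hk : k ≠ 0) (hl : l ≠ 0)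
    (hD : (4 - τ ^ 2 : F) ≠ 0)
    (hw : w * w = -((k ^ 2 * l ^ 2 + τ * k * l + 1) * (k ^ 2 + τ * k * l + l ^ 2))) :
    ((4 * ((k + k⁻¹) / 2) + 2 * ((l + l⁻¹) / 2) * τ) / (4 - τ ^ 2)) ^ 2 +
      ((4 * ((l + l⁻¹) / 2) + 2 * ((k + k⁻¹) / 2) * τ) / (4 - τ ^ 2)) ^ 2 -
      ((4 * ((k + k⁻¹) / 2) + 2 * ((l + l⁻¹) / 2) * τ) / (4 - τ ^ 2)) *
      ((4 * ((l + l⁻¹) / 2) + 2 * ((k + k⁻¹) / 2) * τ) / (4 - τ ^ 2)) * τ +
      (w / (k * l * (4 - τ ^ 2))) ^ 2 * (4 - τ ^ 2) = 1 := by
  field_simp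
  linear_combination 4 * (4 - τ ^ 2) * hw

/-- Common neighbour when `q ≡ 3 (mod 4)`. -/
theorem exists_common_of_not_sq (hq : Fintype.card F % 4 = 3) (hF : 4 ≤ Fintype.card F)
    (A B : SL(2, F)) (hA : A.1 0 0 + A.1 1 1 = 0) (hB : B.1 0 0 + B.1 1 1 = 0) :
    ∃ C : SL(2, F), C.1 0 0 + C.1 1 1 = 0 ∧
      Odd (orderOf (QuotientGroup.mk (A * C) : PSL(2, F))) ∧
      Odd (orderOf (QuotientGroup.mk (C * B) : PSL(2, F))) := by
  have hcardodd : Odd (Fintype.card F) := by
    rw [Nat.odd_iff]; omega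
  have h2 : (2 : F) ≠ 0 := two_ne_zero_of_odd_card hcardodd
  obtain ⟨τ, hτdef⟩ : ∃ τ : F, τ = (A * B).1 0 0 + (A * B).1 1 1 := ⟨_, rfl⟩
  by_cases hsq : IsSquare (τ ^ 2 - 4)
  · obtain ⟨r, hr⟩ := hsq
    refine ⟨A, hA, ?_, ?_⟩
    · rw [QuotientGroup.mk_mul, mk_mul_self_of_trace_zero A hA, orderOf_one]; exact odd_one
    · have hmul : (τ + r) / 2 * ((τ - r) / 2) = 1 := by
        field_simp; linear_combination hr
      have hl : (τ + r) / 2 ≠ 0 := left_ne_zero_of_mul_eq_one hmul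
      apply odd_orderOf_of_trace_eq hq (A * B) ((τ + r) / 2) hl
      rw [← hτdef, inv_eq_of_mul_eq_one_right hmul]
      field_simp
      ring
  · obtain ⟨k, l, w, hk, hl, hw⟩ := exists_klw hq hF τ hsq
    have hD : (4 - τ ^ 2 : F) ≠ 0 := by
      intro h
      apply hsq
      refine ⟨0, ?_⟩
      linear_combination -h
    obtain ⟨C, hC, h1, h3⟩ := exists_third_invol A B hA hB
      ((4 * ((k + k⁻¹) / 2) + 2 * ((l + l⁻¹) / 2) * τ) / (4 - τ ^ 2))
      ((4 * ((l + l⁻¹) / 2) + 2 * ((k + k⁻¹) / 2) * τ) / (4 - τ ^ 2))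
      (w / (k * l * (4 - τ ^ 2)))
      (by
        rw [← hτdef]
        exact norm_identity τ k l w h2 hk hl hD hw)
    rw [← hτdef] at h1 h3
    refine ⟨C, hC, ?_, ?_⟩
    · apply odd_orderOf_of_trace_eq hq (A * C) (-k) (neg_ne_zero.mpr hk)
      rw [h1]
      field_simp
      ring
    · apply odd_orderOf_of_trace_eq hq (C * B) (-l) (neg_ne_zero.mpr hl)
      rw [h3]
      field_simp
      ring

end Hard

section Commuting

variable {F : Type*} [Field F]

theorem not_mem_center_of_trace_zero (h2 : (2 : F) ≠ 0) (C : SL(2, F))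
    (h : C.1 0 0 + C.1 1 1 = 0) : C ∉ Subgroup.center SL(2, F) := by
  intro hc
  rw [sl2_mem_center_iff] at hc
  obtain ⟨h01, h10, h00⟩ := hc
  have hdet := sl2_det C
  have h3 : C.1 0 0 = 0 := by
    have : 2 * C.1 0 0 = 0 := by linear_combination h + h00
    exact (mul_eq_zero.mp this).resolve_left h2
  rw [h3, h01] at hdet
  simp at hdet

theorem orderOf_mk_eq_two (C : SL(2, F)) (h : C.1 0 0 + C.1 1 1 = 0)
    (hc : C ∉ Subgroup.center SL(2, F)) : orderOf (QuotientGroup.mk C : PSL(2, F)) = 2 := by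
  apply orderOf_eq_prime
  · rw [pow_two]; exact mk_mul_self_of_trace_zero C h
  · intro h1; exact hc ((QuotientGroup.eq_one_iff _).mp h1)

variable [Fintype F]

theorem exists_commuting_odd (h2 : (2 : F) ≠ 0) (A : SL(2, F))
    (hA : A.1 0 0 + A.1 1 1 = 0) :
    ∃ S : SL(2, F), S.1 0 0 + S.1 1 1 = 0 ∧ (A * S).1 0 0 + (A * S).1 1 1 = 0 := by
  obtain ⟨p, hp⟩ := CharP.exists F
  have : NeZero p := ⟨CharP.char_ne_zero_of_finite F p⟩
  obtain ⟨a, b, hab⟩ := CharP.sq_add_sq F p (-1)
  have huv : (a : F) ^ 2 + (b : F) ^ 2 = -1 := by rw [hab]; simp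
  generalize (a : F) = u at huv
  generalize (b : F) = v at huv
  have hdA := sl2_det A
  have ha4 : A.1 1 1 = - A.1 0 0 := by linear_combination hA
  rw [ha4] at hdA
  by_cases h3 : A.1 1 0 = 0
  · have ha1 : A.1 0 0 ≠ 0 := by
      intro h; rw [h, h3] at hdA; simp at hdA
    refine ⟨slMk (-(A.1 0 1) / (2 * A.1 0 0)) (-1 - (-(A.1 0 1) / (2 * A.1 0 0)) ^ 2) 1
      (-(-(A.1 0 1) / (2 * A.1 0 0))) (by ring), by simp, ?_⟩
    simp only [sl2_mul_apply, slMk_00, slMk_01, slMk_10, slMk_11]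
    rw [ha4, h3]
    field_simp
    ring
  · refine ⟨slMk (u + A.1 0 0 * v) (-(2 * A.1 0 0 * u + (A.1 0 0 ^ 2 - 1) * v) / A.1 1 0)
      (A.1 1 0 * v) (-(u + A.1 0 0 * v)) ?_, by simp, ?_⟩
    · field_simp
      linear_combination -huv
    · simp only [sl2_mul_apply, slMk_00, slMk_01, slMk_10, slMk_11]
      rw [ha4]
      field_simp
      linear_combination (-v) * hdA

theorem exists_commuting_char_two (h2 : (2 : F) = 0) (hF : 4 ≤ Fintype.card F) (A : SL(2, F))
    (hA : A.1 0 0 + A.1 1 1 = 0) (hAc : A ∉ Subgroup.center SL(2, F)) :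
    ∃ S : SL(2, F), S.1 0 0 + S.1 1 1 = 0 ∧ S ∉ Subgroup.center SL(2, F) ∧
      (A * S).1 0 0 + (A * S).1 1 1 = 0 ∧ A * S ∉ Subgroup.center SL(2, F) := by
  obtain ⟨κ, hκ0, hκ1, -⟩ := exists_ne_of_card hF (0 : F) 1 1
  have hdA := sl2_det A
  have hnz : ¬ (A.1 0 1 = 0 ∧ A.1 1 0 = 0) := by
    intro hz
    apply hAc
    rw [sl2_mem_center_iff]
    exact ⟨hz.1, hz.2, by linear_combination hA - A.1 1 1 * h2⟩
  have hκ2 : 1 + κ ≠ 0 := by
    intro h
    apply hκ1
    linear_combination h - h2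
  refine ⟨slMk (1 + κ + κ * A.1 0 0) (κ * A.1 0 1) (κ * A.1 1 0) (1 + κ + κ * A.1 1 1) ?_,
    ?_, ?_, ?_, ?_⟩
  · linear_combination (κ * (1 + κ)) * hA + κ ^ 2 * hdA + (κ + κ ^ 2) * h2
  · simp only [slMk_00, slMk_11]
    linear_combination κ * hA + (1 + κ) * h2
  · rw [sl2_mem_center_iff]
    simp only [slMk_00, slMk_01, slMk_10, slMk_11]
    rintro ⟨h01, h10, -⟩
    exact hnz ⟨(mul_eq_zero.mp h01).resolve_left hκ0, (mul_eq_zero.mp h10).resolve_left hκ0⟩
  · simp only [sl2_mul_apply, slMk_00, slMk_01, slMk_10, slMk_11]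
    linear_combination (1 + κ) * hA + κ * (A.1 0 0 + A.1 1 1) * hA - 2 * κ * hdA - κ * h2
  · rw [sl2_mem_center_iff]
    simp only [sl2_mul_apply, slMk_00, slMk_01, slMk_10, slMk_11]
    rintro ⟨h01, h10, -⟩
    apply hnz
    constructor
    · have : A.1 0 1 * (1 + κ) = 0 := by linear_combination h01 - κ * A.1 0 1 * hA
      exact (mul_eq_zero.mp this).resolve_right hκ2
    · have : A.1 1 0 * (1 + κ) = 0 := by linear_combination h10 - κ * A.1 1 0 * hA
      exact (mul_eq_zero.mp this).resolve_right hκ2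

end Commuting

end Cfsg.Agent.H7
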