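import Mathlib
import Cfsg.Agent.H7.PSL2
import Cfsg.Agent.H7.PSL2Inv
import Cfsg.Agent.H7.SL2Order
import Cfsg.Prelude.Def_OddOrderLocal

set_option autoImplicit false

namespace Cfsg.Agent.H7

open Matrix

open scoped MatrixGroups

section Dih

/-- A dihedral-type subgroup of order `2 * orderOf ρ` generated by `ρ` and an involution `τ`
inverting it. -/
theorem exists_dihedral_subgroup {G : Type*} [Group G] [Finite G] (ρ τ : G) (hτ2 : τ * τ = 1)
    (hconj : τ * ρ * τ⁻¹ = ρ⁻¹) (hτ : τ ∉ Subgroup.zpowers ρ) :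
    ∃ D : Subgroup G, Nat.card D = 2 * orderOf ρ := by
  classical
  have hτinv : τ⁻¹ = τ := inv_eq_of_mul_eq_one_right hτ2
  have hZ : ∀ z ∈ Subgroup.zpowers ρ, τ * z * τ ∈ Subgroup.zpowers ρ := by
    intro z hz
    obtain ⟨n, rfl⟩ := Subgroup.mem_zpowers_iff.mp hz
    have h1 : τ * ρ ^ n * τ = (ρ⁻¹) ^ n := by
      rw [← hconj, conj_zpow, hτinv]
    rw [h1]
    exact Subgroup.zpow_mem _ (Subgroup.inv_mem _ (Subgroup.mem_zpowers ρ)) n
  let D : Subgroup G :=
    { carrier := {x | x ∈ Subgroup.zpowers ρ ∨ x * τ ∈ Subgroup.zpowers ρ}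
      one_mem' := Or.inl (Subgroup.one_mem _)
      mul_mem' := by
        rintro x y (hx | hx) (hy | hy)
        · exact Or.inl (Subgroup.mul_mem _ hx hy)
        · right
          rw [mul_assoc]
          exact Subgroup.mul_mem _ hx hy
        · right
          have h1 : x * y * τ = (x * τ) * (τ * y * τ) := by
            rw [show (x * τ) * (τ * y * τ) = x * (τ * τ) * y * τ by group, hτ2, mul_one]
          rw [h1]
          exact Subgroup.mul_mem _ hx (hZ y hy)
        · left
          have h1 : x * y = (x * τ) * (τ * (y * τ) * τ) := by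
            rw [show (x * τ) * (τ * (y * τ) * τ) = x * (τ * τ) * y * (τ * τ) by group, hτ2,
              mul_one, mul_one]
          rw [h1]
          exact Subgroup.mul_mem _ hx (hZ _ hy)
      inv_mem' := by
        rintro x (hx | hx)
        · exact Or.inl (Subgroup.inv_mem _ hx)
        · right
          have h1 : x⁻¹ * τ = τ * (x * τ)⁻¹ * τ := by
            rw [_root_.mul_inv_rev, hτinv, show τ * (τ * x⁻¹) * τ = (τ * τ) * x⁻¹ * τ by group, hτ2,
              one_mul]
          rw [h1]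
          exact hZ _ (Subgroup.inv_mem _ hx) }
  refine ⟨D, ?_⟩
  have hset : (D : Set G) = (Subgroup.zpowers ρ : Set G) ∪
      (fun z => z * τ) '' (Subgroup.zpowers ρ : Set G) := by
    ext x
    constructor
    · rintro (hx | hx)
      · exact Or.inl hx
      · right
        refine ⟨x * τ, hx, ?_⟩
        simp only
        rw [mul_assoc, hτ2, mul_one]
    · rintro (hx | ⟨z, hz, rfl⟩)
      · exact Or.inl hx
      · right
        show z * τ * τ ∈ Subgroup.zpowers ρ
        rw [mul_assoc, hτ2, mul_one]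
        exact hz
  have hdisj : Disjoint (Subgroup.zpowers ρ : Set G)
      ((fun z => z * τ) '' (Subgroup.zpowers ρ : Set G)) := by
    rw [Set.disjoint_left]
    rintro x hx ⟨z, hz, rfl⟩
    apply hτ
    have : τ = z⁻¹ * (z * τ) := by group
    rw [this]
    exact Subgroup.mul_mem _ (Subgroup.inv_mem _ hz) hx
  have hcard : Nat.card D = Set.ncard (D : Set G) := (_root_.Nat.card_coe_set_eq _)
  rw [hcard, hset, Set.ncard_union_eq hdisj (Set.toFinite _) (Set.toFinite _),
    Set.ncard_image_of_injective _ (mul_left_injective τ)]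
  have h3 : Set.ncard (Subgroup.zpowers ρ : Set G) = orderOf ρ := by
    rw [← Nat.card_zpowers]
    exact (_root_.Nat.card_coe_set_eq _).symm
  rw [h3]
  ring

end Dih

section Borel

variable {F : Type*} [Field F]

/-- The upper triangular subgroup of `SL₂`. -/
def slBorel (F : Type*) [Field F] : Subgroup SL(2, F) where
  carrier := {g | g.1 1 0 = 0}
  mul_mem' := by
    intro a b ha hb
    simp only [Set.mem_ofPred_eq, sl2_mul_apply] at *
    rw [ha, hb]; ring
  one_mem' := by simp
  inv_mem' := by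
    intro a ha
    simp only [Set.mem_ofPred_eq, sl2_inv_10] at *
    rw [ha, neg_zero]

theorem mem_slBorel_iff (g : SL(2, F)) : g ∈ slBorel F ↔ g.1 1 0 = 0 := Iff.rfl

theorem center_le_slBorel : Subgroup.center SL(2, F) ≤ slBorel F := by
  intro g hg
  rw [sl2_mem_center_iff] at hg
  exact hg.2.1

variable [Fintype F]

theorem card_slBorel : Nat.card (slBorel F) = Fintype.card F * (Fintype.card F - 1) := by
  have e : slBorel F ≃ Fˣ × F :=
    { toFun := fun g => (Units.mk0 (g.1.1 0 0) (by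
          intro h
          have hdet := sl2_det g.1
          have h10 : g.1.1 1 0 = 0 := g.2
          rw [h, h10] at hdet
          simp at hdet), g.1.1 0 1)
      invFun := fun x => ⟨slMk (x.1 : F) x.2 0 ((x.1 : F)⁻¹) (by simp), rfl⟩
      left_inv := by
        intro g
        apply Subtype.ext
        have hdet := sl2_det g.1
        have h10 : g.1.1 1 0 = 0 := g.2
        rw [h10, mul_zero, sub_zero] at hdet
        ext i j
        fin_cases i <;> fin_cases j
        · rfl
        · rfl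
        · exact h10.symm
        · show (g.1.1 0 0)⁻¹ = g.1.1 1 1
          exact inv_eq_of_mul_eq_one_right hdet
      right_inv := by
        intro x
        ext <;> simp }
  rw [Nat.card_congr e, Nat.card_prod, Nat.card_units, Nat.card_eq_fintype_card, mul_comm]

/-- Images in `PSL₂` of subgroups containing the centre have half the order (odd `q`). -/
theorem card_map_mk_of_center_le (hF : Odd (Fintype.card F)) (K : Subgroup SL(2, F))
    (hK : Subgroup.center SL(2, F) ≤ K) :
    Nat.card K = 2 * Nat.card (K.map (QuotientGroup.mk' (Subgroup.center SL(2, F)))) := by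
  have hidx : (K.map (QuotientGroup.mk' (Subgroup.center SL(2, F)))).index = K.index :=
    Subgroup.index_map_eq K (QuotientGroup.mk'_surjective _)
      (by rw [QuotientGroup.ker_mk']; exact hK)
  have h1 := Subgroup.card_mul_index K
  have h2 := Subgroup.card_mul_index (K.map (QuotientGroup.mk' (Subgroup.center SL(2, F))))
  rw [hidx] at h2
  have h3 := card_PSL2_odd hF
  rw [← card_SL2] at h3
  have hpos : 0 < K.index := Nat.pos_of_ne_zero Subgroup.index_ne_zero_of_finite
  have h4 : Nat.card K * K.index =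
      (2 * Nat.card (K.map (QuotientGroup.mk' (Subgroup.center SL(2, F))))) * K.index := by
    rw [h1, mul_assoc, h2, ← h3]
  exact Nat.eq_of_mul_eq_mul_right hpos h4

omit [Fintype F] in
theorem conj_mem_map_slUnip (g : SL(2, F)) (hg : g ∈ slBorel F) (h : PSL(2, F))
    (hh : h ∈ (slUnip F).map (QuotientGroup.mk' (Subgroup.center SL(2, F)))) :
    (QuotientGroup.mk g : PSL(2, F)) * h * (QuotientGroup.mk g : PSL(2, F))⁻¹ ∈
      (slUnip F).map (QuotientGroup.mk' (Subgroup.center SL(2, F))) := by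
  obtain ⟨u, hu, rfl⟩ := hh
  refine ⟨g * u * g⁻¹, ?_, rfl⟩
  have hg' : (g⁻¹).1 1 0 = 0 := by
    rw [sl2_inv_10, (mem_slBorel_iff g).mp hg, neg_zero]
  have := sl2_conj_mem_of_borel g⁻¹ u hg' hu
  rwa [inv_inv] at this

omit [Fintype F] in
theorem normalizer_map_slUnip :
    Subgroup.normalizer (((slUnip F).map (QuotientGroup.mk' (Subgroup.center SL(2, F))) :
      Subgroup PSL(2, F)) : Set PSL(2, F)) =
      (slBorel F).map (QuotientGroup.mk' (Subgroup.center SL(2, F))) := by
  ext y
  obtain ⟨g, rfl⟩ := QuotientGroup.mk_surjective y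
  constructor
  · intro hy
    rw [Subgroup.mem_normalizer_iff] at hy
    have h1 := (hy (QuotientGroup.mk (slUpper 1))).mp ⟨slUpper 1, slUpper_mem 1, rfl⟩
    obtain ⟨u', hu', hu'eq⟩ := h1
    have h2 : (QuotientGroup.mk u' : PSL(2, F)) = QuotientGroup.mk (g * slUpper 1 * g⁻¹) :=
      hu'eq
    rw [QuotientGroup.eq, sl2_mem_center_iff] at h2
    obtain ⟨-, h10, -⟩ := h2
    refine ⟨g, ?_, rfl⟩
    show g.1 1 0 = 0
    have hu' : u' ∈ slUnip F := hu'
    rw [mem_slUnip_iff] at hu'
    obtain ⟨u00, u10, u11⟩ := hu'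
    have e00 : (slUpper (1 : F)).1 0 0 = 1 := rfl
    have e01 : (slUpper (1 : F)).1 0 1 = 1 := rfl
    have e10 : (slUpper (1 : F)).1 1 0 = 0 := rfl
    have e11 : (slUpper (1 : F)).1 1 1 = 1 := rfl
    simp only [sl2_mul_apply, sl2_inv_00, sl2_inv_01, sl2_inv_10, sl2_inv_11, u00, u10, u11,
      e00, e01, e10, e11] at h10
    have h3 : g.1 1 0 * g.1 1 0 = 0 := by linear_combination -h10
    exact mul_self_eq_zero.mp h3
  · rintro ⟨g', hg', hgg'⟩
    rw [Subgroup.mem_normalizer_iff]
    intro h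
    have e : (QuotientGroup.mk g : PSL(2, F)) = QuotientGroup.mk g' := hgg'.symm
    rw [e]
    constructor
    · exact conj_mem_map_slUnip g' hg' h
    · intro hh
      have h4 := conj_mem_map_slUnip g'⁻¹ (Subgroup.inv_mem _ hg') _ hh
      have h5 : (QuotientGroup.mk g'⁻¹ : PSL(2, F)) *
          ((QuotientGroup.mk g' : PSL(2, F)) * h * (QuotientGroup.mk g' : PSL(2, F))⁻¹) *
          (QuotientGroup.mk g'⁻¹ : PSL(2, F))⁻¹ = h := by
        rw [QuotientGroup.mk_inv]; group
      rwa [h5] at h4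

/-- The normaliser of a Sylow `p`-subgroup of `PSL₂(q)`, `q` odd, has order `q (q - 1) / 2`. -/
theorem card_normalizer_sylow_PSL2 (hF : Odd (Fintype.card F)) (p : ℕ) [Fact p.Prime]
    [CharP F p] (P : Sylow p PSL(2, F)) :
    2 * Nat.card (Subgroup.normalizer ((P : Subgroup PSL(2, F)) : Set PSL(2, F))) =
      Fintype.card F * (Fintype.card F - 1) := by
  let P₀ : Sylow p PSL(2, F) := (slUnipSylow F p).mapSurjective
    (QuotientGroup.mk'_surjective (Subgroup.center SL(2, F)))
  have h0 : (P₀ : Subgroup PSL(2, F)) =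
      (slUnip F).map (QuotientGroup.mk' (Subgroup.center SL(2, F))) := rfl
  have hidx : (Subgroup.normalizer ((P : Subgroup PSL(2, F)) : Set PSL(2, F))).index =
      (Subgroup.normalizer ((P₀ : Subgroup PSL(2, F)) : Set PSL(2, F))).index :=
    (Sylow.card_eq_index_normalizer P).symm.trans (Sylow.card_eq_index_normalizer P₀)
  have h1 := Subgroup.card_mul_index
    (Subgroup.normalizer ((P : Subgroup PSL(2, F)) : Set PSL(2, F)))
  have h2 := Subgroup.card_mul_index
    (Subgroup.normalizer ((P₀ : Subgroup PSL(2, F)) : Set PSL(2, F)))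
  rw [← hidx] at h2
  have hpos : 0 < (Subgroup.normalizer ((P : Subgroup PSL(2, F)) : Set PSL(2, F))).index :=
    Nat.pos_of_ne_zero Subgroup.index_ne_zero_of_finite
  have hc : Nat.card (Subgroup.normalizer ((P : Subgroup PSL(2, F)) : Set PSL(2, F))) =
      Nat.card (Subgroup.normalizer ((P₀ : Subgroup PSL(2, F)) : Set PSL(2, F))) :=
    Nat.eq_of_mul_eq_mul_right hpos (h1.trans h2.symm)
  rw [hc, h0, normalizer_map_slUnip, ← card_map_mk_of_center_le hF (slBorel F) center_le_slBorel,
    card_slBorel]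

end Borel

section OrderP

variable (K : Type*) [Field K] [Fintype K]

theorem prime_dvd_card_PSL2 (p : ℕ) [Fact p.Prime] [CharP K p] (hp2 : p ≠ 2) :
    p ∣ Nat.card PSL(2, K) := by
  have hp : p.Prime := Fact.out
  obtain ⟨n, hn⟩ := FiniteField.card K p
  have hodd : Odd (Fintype.card K) := by
    rw [hn.2]
    exact (hp.odd_of_ne_two hp2).pow
  have h := card_PSL2_odd hodd
  have h1 : p ∣ 2 * Nat.card PSL(2, K) := by
    rw [h, hn.2]
    exact Dvd.dvd.mul_right (dvd_pow_self p n.ne_zero) _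
  rcases hp.dvd_mul.mp h1 with h2 | h2
  · exact absurd ((Nat.prime_dvd_prime_iff_eq hp Nat.prime_two).mp h2) hp2
  · exact h2

theorem prime_dvd_card_PGL2 (p : ℕ) [Fact p.Prime] [CharP K p] (hp2 : p ≠ 2) :
    p ∣ Nat.card PGL(2, K) :=
  (prime_dvd_card_PSL2 K p hp2).trans
    (Subgroup.card_dvd_of_injective _ Matrix.ProjectiveSpecialLinearGroup.toPGL_injective)

end OrderP

section HallConstruct

variable {F : Type*} [Field F]

theorem sl2_mem_center_of_mul_self_eq_one (h2 : (2 : F) ≠ 0) (x : SL(2, F)) (hx : x * x = 1) :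
    x ∈ Subgroup.center SL(2, F) := by
  apply sl2_mem_center_of_sq x (by rw [hx]; exact Subgroup.one_mem _)
  intro ht
  have h00 : (x * x).1 0 0 = 1 := by rw [hx]; rfl
  have hdet := sl2_det x
  rw [sl2_mul_apply] at h00
  apply h2
  have h11 : x.1 1 1 = - x.1 0 0 := by linear_combination ht
  rw [h11] at hdet
  linear_combination -h00 - hdet

theorem sl2_center_mul_self (z : SL(2, F)) (hz : z ∈ Subgroup.center SL(2, F)) : z * z = 1 := by
  rw [sl2_mem_center_iff] at hz
  obtain ⟨h01, h10, h00⟩ := hz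
  have hdet := sl2_det z
  rw [h01, ← h00] at hdet
  apply Subtype.ext
  ext i j
  fin_cases i <;> fin_cases j
  · show (z * z).1 0 0 = 1
    rw [sl2_mul_apply, h01]; linear_combination hdet
  · show (z * z).1 0 1 = 0
    rw [sl2_mul_apply, h01]; ring
  · show (z * z).1 1 0 = 0
    rw [sl2_mul_apply, h10]; ring
  · show (z * z).1 1 1 = 1
    rw [sl2_mul_apply, h10, ← h00]; linear_combination hdet

variable [Fintype F]

/-- A subgroup of `PSL₂(q)` of order `m` for `12 ∣ m ∣ q ± 1`. -/
theorem exists_subgroup_PSL2_card (hF : Odd (Fintype.card F)) (m : ℕ) (hm : 12 ∣ m)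
    (hdvd : m ∣ Fintype.card F - 1 ∨ m ∣ Fintype.card F + 1) :
    ∃ D : Subgroup PSL(2, F), Nat.card D = m := by
  have h2 : (2 : F) ≠ 0 := two_ne_zero_of_odd_card hF
  have hq1 : 1 < Fintype.card F := Fintype.one_lt_card
  have hm0 : 0 < m := by
    rcases hdvd with h | h
    · exact Nat.pos_of_dvd_of_pos h (by omega)
    · exact Nat.pos_of_dvd_of_pos h (by omega)
  have hm12 : 12 ≤ m := Nat.le_of_dvd hm0 hm
  obtain ⟨τ, hτ4, hord⟩ := exists_slComp_orderOf (F := F) m (by omega) hdvd
  -- a point on the conic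
  obtain ⟨x, z, hxz⟩ : ∃ x z : F, x * x + τ * x * z + z * z = -1 := by
    obtain ⟨s, hs⟩ : ∃ s : F, τ = 2 * s := ⟨τ / 2, by field_simp⟩
    have hδ : (1 - s ^ 2 : F) ≠ 0 := by
      intro h
      apply hτ4
      rw [hs]
      linear_combination (-4 : F) * h
    have hf : (Polynomial.C (1 : F) * Polynomial.X ^ 2 + Polynomial.C 0 * Polynomial.X +
        Polynomial.C 1).degree = 2 := Polynomial.degree_quadratic one_ne_zero
    have hg : (Polynomial.C (1 - s ^ 2 : F) * Polynomial.X ^ 2 + Polynomial.C 0 * Polynomial.X +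
        Polynomial.C 0).degree = 2 := Polynomial.degree_quadratic hδ
    have hodd : Fintype.card F % 2 = 1 := Nat.odd_iff.mp hF
    obtain ⟨a, b, hab⟩ := FiniteField.exists_root_sum_quadratic hf hg hodd
    simp only [Polynomial.eval_add, Polynomial.eval_mul, Polynomial.eval_C, Polynomial.eval_pow,
      Polynomial.eval_X] at hab
    refine ⟨a - s * b, b, ?_⟩
    rw [hs]
    linear_combination hab
  obtain ⟨w, hw00, hw01, hw10, hw11⟩ : ∃ w : SL(2, F), w.1 0 0 = x ∧ w.1 0 1 = τ * x + z ∧
      w.1 1 0 = z ∧ w.1 1 1 = -x :=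
    ⟨slMk x (τ * x + z) z (-x) (by linear_combination -hxz), rfl, rfl, rfl, rfl⟩
  have hc00 : (slComp τ).1 0 0 = 0 := rfl
  have hc01 : (slComp τ).1 0 1 = -1 := rfl
  have hc10 : (slComp τ).1 1 0 = 1 := rfl
  have hc11 : (slComp τ).1 1 1 = τ := rfl
  have hwc : w * slComp τ = (slComp τ)⁻¹ * w := by
    apply Subtype.ext
    ext i j
    fin_cases i <;> fin_cases j
    · show (w * slComp τ).1 0 0 = ((slComp τ)⁻¹ * w).1 0 0
      simp only [sl2_mul_apply, sl2_inv_00, sl2_inv_01, hw00, hw01, hw10, hw11, hc00, hc01, hc10,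
        hc11]
      ring
    · show (w * slComp τ).1 0 1 = ((slComp τ)⁻¹ * w).1 0 1
      simp only [sl2_mul_apply, sl2_inv_00, sl2_inv_01, hw00, hw01, hw10, hw11, hc00, hc01, hc10,
        hc11]
      ring
    · show (w * slComp τ).1 1 0 = ((slComp τ)⁻¹ * w).1 1 0
      simp only [sl2_mul_apply, sl2_inv_10, sl2_inv_11, hw00, hw01, hw10, hw11, hc00, hc01, hc10,
        hc11]
      ring
    · show (w * slComp τ).1 1 1 = ((slComp τ)⁻¹ * w).1 1 1
      simp only [sl2_mul_apply, sl2_inv_10, sl2_inv_11, hw00, hw01, hw10, hw11, hc00, hc01, hc10,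
        hc11]
      ring
  have hwcw : w * slComp τ * w⁻¹ = (slComp τ)⁻¹ := by rw [hwc]; group
  have ht2 : (QuotientGroup.mk w : PSL(2, F)) * QuotientGroup.mk w = 1 :=
    mk_mul_self_of_trace_zero w (by rw [hw00, hw11]; ring)
  have hconj : (QuotientGroup.mk w : PSL(2, F)) * QuotientGroup.mk (slComp τ) *
      (QuotientGroup.mk w : PSL(2, F))⁻¹ = (QuotientGroup.mk (slComp τ) : PSL(2, F))⁻¹ := by
    rw [← QuotientGroup.mk_inv, ← QuotientGroup.mk_mul, ← QuotientGroup.mk_mul, hwcw]
    rfl
  have hpowcen : ∀ j : ℕ, (QuotientGroup.mk (slComp τ) : PSL(2, F)) ^ j = 1 → m ∣ 2 * j := by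
    intro j hj
    rw [← QuotientGroup.mk_pow, QuotientGroup.eq_one_iff] at hj
    have h1 := sl2_center_mul_self _ hj
    rw [← pow_add, ← two_mul] at h1
    rw [← hord]
    exact orderOf_dvd_of_pow_eq_one h1
  have hnot : (QuotientGroup.mk w : PSL(2, F)) ∉
      Subgroup.zpowers (QuotientGroup.mk (slComp τ) : PSL(2, F)) := by
    intro hmem
    obtain ⟨j, hj⟩ := Subgroup.mem_zpowers_iff.mp hmem
    have hcomm : (QuotientGroup.mk w : PSL(2, F)) * QuotientGroup.mk (slComp τ) =
        QuotientGroup.mk (slComp τ) * QuotientGroup.mk w := by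
      rw [← hj]
      exact ((Commute.refl _).zpow_left j).eq
    rw [hcomm, mul_inv_cancel_right] at hconj
    have hsq : (QuotientGroup.mk (slComp τ) : PSL(2, F)) ^ 2 = 1 := by
      rw [pow_two]
      nth_rewrite 2 [hconj]
      exact mul_inv_cancel _
    have := hpowcen 2 hsq
    have h4 : m ≤ 4 := Nat.le_of_dvd (by norm_num) this
    omega
  obtain ⟨k, hk⟩ : 2 ∣ m := dvd_trans (by norm_num) hm
  have hordρ : orderOf (QuotientGroup.mk (slComp τ) : PSL(2, F)) = k := by
    apply Nat.dvd_antisymm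
    · apply orderOf_dvd_of_pow_eq_one
      rw [← QuotientGroup.mk_pow, QuotientGroup.eq_one_iff]
      apply sl2_mem_center_of_mul_self_eq_one h2
      rw [← pow_add, ← two_mul, ← hk, ← hord]
      exact pow_orderOf_eq_one _
    · have h1 := hpowcen _ (pow_orderOf_eq_one (QuotientGroup.mk (slComp τ) : PSL(2, F)))
      rw [hk] at h1
      exact (Nat.mul_dvd_mul_iff_left (by norm_num)).mp h1
  obtain ⟨D, hD⟩ := exists_dihedral_subgroup _ _ ht2 hconj hnot
  exact ⟨D, by rw [hD, hordρ, hk]⟩

end HallConstruct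

section HallArith

/-- Recognising a Hall `{2,3}`-subgroup from its order. -/
theorem isPiHall_of_card {G : Type*} [Group G] [Finite G] (D : Subgroup G) (a b i : ℕ)
    (hD : Nat.card D = 2 ^ a * 3 ^ b) (hi : Nat.card G = 2 ^ a * 3 ^ b * i) (h2 : ¬ 2 ∣ i)
    (h3 : ¬ 3 ∣ i) : Cfsg.IsPiHall ({2, 3} : Set ℕ) D := by
  constructor
  · intro r hr hdvd
    rw [hD] at hdvd
    rcases hr.dvd_mul.mp hdvd with h | h
    · have := (Nat.prime_dvd_prime_iff_eq hr Nat.prime_two).mp (hr.dvd_of_dvd_pow h)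
      simp [this]
    · have := (Nat.prime_dvd_prime_iff_eq hr Nat.prime_three).mp (hr.dvd_of_dvd_pow h)
      simp [this]
  · have hidx : D.index = i := by
      have h1 := Subgroup.card_mul_index D
      rw [hD, hi] at h1
      exact Nat.eq_of_mul_eq_mul_left (by positivity) h1
    intro r _ hr
    rw [hidx]
    rcases hr with rfl | rfl
    · exact h2
    · exact h3

theorem factorization_two_three (M a b u : ℕ) (hM : M = 2 ^ a * 3 ^ b * u) (h2 : ¬ 2 ∣ u)
    (h3 : ¬ 3 ∣ u) : 2 ^ M.factorization 2 * 3 ^ M.factorization 3 = 2 ^ a * 3 ^ b := by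
  have hu : u ≠ 0 := by rintro rfl; exact h2 (dvd_zero 2)
  have e2 : M.factorization 2 = a := by
    rw [hM, Nat.factorization_mul (by positivity) hu, Nat.factorization_mul (by positivity)
      (by positivity), Nat.factorization_pow, Nat.factorization_pow]
    simp [Nat.factorization_eq_zero_of_not_dvd h2,
      Nat.factorization_eq_zero_of_not_dvd (show ¬ 2 ∣ 3 by norm_num),
      Nat.prime_two.factorization_self]
  have e3 : M.factorization 3 = b := by
    rw [hM, Nat.factorization_mul (by positivity) hu, Nat.factorization_mul (by positivity)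
      (by positivity), Nat.factorization_pow, Nat.factorization_pow]
    simp [Nat.factorization_eq_zero_of_not_dvd h3,
      Nat.factorization_eq_zero_of_not_dvd (show ¬ 3 ∣ 2 by norm_num),
      Nat.prime_three.factorization_self]
  rw [e2, e3]

theorem exists_two_three_split (n : ℕ) (hn : n ≠ 0) :
    ∃ a b u : ℕ, n = 2 ^ a * 3 ^ b * u ∧ ¬ 2 ∣ u ∧ ¬ 3 ∣ u := by
  obtain ⟨a, n', h2, rfl⟩ := Nat.exists_eq_pow_mul_and_not_dvd hn 2 (by norm_num)
  have hn' : n' ≠ 0 := by rintro rfl; exact h2 (dvd_zero 2)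
  obtain ⟨b, u, h3, rfl⟩ := Nat.exists_eq_pow_mul_and_not_dvd hn' 3 (by norm_num)
  refine ⟨a, b, u, by ring, fun h => h2 (Dvd.dvd.mul_left h _), h3⟩

end HallArith

end Cfsg.Agent.H7
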