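import Mathlib

/-!
# JZ-LT (S2951, case `T < S`): abstract core

Pure group theory: `Z ≤ Z₀`, `Z₀` elementary abelian, `Z₁ ≤ Z₀` of index at most 2, and the
fusion facts (U), (Y), (NoZ) of the J(T)-component set-up give clause 1 or clause 3.
-/

set_option autoImplicit false

namespace Cfsg.Agent.H7.JzLt

universe u

variable {G : Type u} [Group G]

theorem conj_mul' (g a b : G) : g * (a * b) * g⁻¹ = (g * a * g⁻¹) * (g * b * g⁻¹) := by group

theorem conj_eq_one {g a : G} (h : g * a * g⁻¹ = 1) : a = 1 := by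
  have h1 : a = g⁻¹ * (g * a * g⁻¹) * g := by group
  rw [h1, h]; group

/-- `Z₀ = Z₁ W`, `|W| = 2`, `Z₀` elementary abelian: `Z₁` has index at most 2 in `Z₀`. -/
theorem idx_two (Z0 Z1 W : Subgroup G)
    (hsq : ∀ a ∈ Z0, a * a = 1) (hcomm : ∀ a ∈ Z0, ∀ b ∈ Z0, a * b = b * a)
    (hdec : Z1 ⊔ W = Z0) (hW : Nat.card W = 2) :
    ∃ w ∈ Z0, ∀ a ∈ Z0, a ∈ Z1 ∨ a * w ∈ Z1 := by
  obtain ⟨w, hwW, hw⟩ : ∃ w ∈ W, ∀ v ∈ W, v = 1 ∨ v = w := by
    rw [Nat.card_eq_two_iff] at hW
    obtain ⟨p, q, hpq, huniv⟩ := hW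
    by_cases hp : p = 1
    · refine ⟨q, q.2, ?_⟩
      intro v hv
      have hmem : (⟨v, hv⟩ : W) ∈ ({p, q} : Set W) := by rw [huniv]; trivial
      rcases hmem with h | h
      · left; rw [hp] at h; exact congrArg Subtype.val h
      · right; exact congrArg Subtype.val h
    · refine ⟨p, p.2, ?_⟩
      intro v hv
      have hone : (1 : W) ∈ ({p, q} : Set W) := by rw [huniv]; trivial
      have hq : q = 1 := by
        rcases hone with h | h
        · exact absurd h.symm hp
        · exact h.symm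
      have hmem : (⟨v, hv⟩ : W) ∈ ({p, q} : Set W) := by rw [huniv]; trivial
      rcases hmem with h | h
      · right; exact congrArg Subtype.val h
      · left; rw [hq] at h; exact congrArg Subtype.val h
  have hWZ0 : W ≤ Z0 := hdec ▸ le_sup_right
  have hZ1Z0 : Z1 ≤ Z0 := hdec ▸ le_sup_left
  have hwZ0 : w ∈ Z0 := hWZ0 hwW
  have hww : w * w = 1 := hsq w hwZ0
  refine ⟨w, hwZ0, ?_⟩
  intro a ha
  have hcl : Z1 ⊔ W = Subgroup.closure ((Z1 : Set G) ∪ W) := by
    rw [Subgroup.closure_union, Subgroup.closure_eq, Subgroup.closure_eq]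
  rw [← hdec, hcl] at ha
  have key : a ∈ Z0 ∧ (a ∈ Z1 ∨ a * w ∈ Z1) := by
    refine Subgroup.closure_induction (p := fun a _ => a ∈ Z0 ∧ (a ∈ Z1 ∨ a * w ∈ Z1))
      ?_ ?_ ?_ ?_ ha
    · intro y hy
      rcases hy with h | h
      · exact ⟨hZ1Z0 h, Or.inl h⟩
      · refine ⟨hWZ0 h, ?_⟩
        rcases hw y h with h1 | h1
        · left; rw [h1]; exact one_mem _
        · right; rw [h1, hww]; exact one_mem _
    · exact ⟨one_mem _, Or.inl (one_mem _)⟩
    · rintro y y' - - ⟨hy0, hy⟩ ⟨hy0', hy'⟩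
      refine ⟨mul_mem hy0 hy0', ?_⟩
      rcases hy with h | h <;> rcases hy' with h' | h'
      · exact Or.inl (mul_mem h h')
      · right; rw [mul_assoc]; exact mul_mem h h'
      · right
        have e : y * y' * w = (y * w) * y' := by
          have e1 : y' * w = w * y' := hcomm y' hy0' w hwZ0
          calc y * y' * w = y * (y' * w) := by group
            _ = y * (w * y') := by rw [e1]
            _ = (y * w) * y' := by group
        rw [e]; exact mul_mem h h'
      · left
        have e : y * y' = (y * w) * (y' * w) := by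
          have e1 : w * y' = y' * w := hcomm w hwZ0 y' hy0'
          calc y * y' = y * y' * (w * w) := by rw [hww, mul_one]
            _ = y * (y' * w) * w := by group
            _ = y * (w * y') * w := by rw [e1]
            _ = (y * w) * (y' * w) := by group
        rw [e]; exact mul_mem h h'
    · rintro y - ⟨hy0, hy⟩
      refine ⟨inv_mem hy0, ?_⟩
      rcases hy with h | h
      · exact Or.inl (inv_mem h)
      · right
        have e : y⁻¹ * w = (y * w)⁻¹ := by
          have e1 : w * y = y * w := hcomm w hwZ0 y hy0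
          have e2 : w⁻¹ = w := inv_eq_of_mul_eq_one_left hww
          calc y⁻¹ * w = y⁻¹ * (w * y) * y⁻¹ := by group
            _ = y⁻¹ * (y * w) * y⁻¹ := by rw [e1]
            _ = w * y⁻¹ := by group
            _ = w⁻¹ * y⁻¹ := by rw [e2]
            _ = (y * w)⁻¹ := by group
        rw [e]; exact inv_mem h
  exact key.2

/-- The abstract core of the case `T < S`. -/
theorem lt_core (Z Z0 Z1 T L : Subgroup G) (x w : G)
    (hZZ0 : Z ≤ Z0)
    (hsq : ∀ a ∈ Z0, a * a = 1) (hcomm : ∀ a ∈ Z0, ∀ b ∈ Z0, a * b = b * a)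
    (hZ1 : Z1 ≤ Z0) (hw : w ∈ Z0) (hidx : ∀ a ∈ Z0, a ∈ Z1 ∨ a * w ∈ Z1)
    (hU : ∀ y ∈ Z1, y ≠ 1 → Subgroup.centralizer {y} ≤ L)
    (hY : ∀ g : G, ∀ y ∈ Z1, y ≠ 1 → g * y * g⁻¹ ∈ Z1 → g ∈ L)
    (hNoZ : ∀ g : G, ∀ y ∈ Z1, y ≠ 1 → g * y * g⁻¹ ∉ Z)
    (hZne : ¬ Z ≤ Z1)
    (hxL : x ∉ L) (hxN : x ∈ Subgroup.normalizer (Z0 : Set G))
    (hxZ : ∀ z ∈ Z, x * z * x⁻¹ = z)
    (hTL : T ≤ L) (hTN : T ≤ Subgroup.normalizer (Z0 : Set G))
    (hTZ : ∀ t ∈ T, ∀ z ∈ Z, t * z * t⁻¹ = z) :
    (Z = Z0 ∧ Nat.card Z0 = 2) ∨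
    ((∀ t ∈ T, ∀ a ∈ Z0, t * a * t⁻¹ = a) ∧ Nat.card Z0 = 4 ∧
      (L ⊓ Subgroup.centralizer (Z0 : Set G)).relIndex
        (Subgroup.normalizer (Z0 : Set G)) = 2) := by
  classical
  have hprod : ∀ a ∈ Z0, ∀ b ∈ Z0, a ∉ Z1 → b ∉ Z1 → a * b ∈ Z1 := by
    intro a ha b hb ha1 hb1
    have h1 := (hidx a ha).resolve_left ha1
    have h2 := (hidx b hb).resolve_left hb1
    have h3 : a * b = (a * w) * (b * w) := by
      have e1 : w * b = b * w := hcomm w hw b hb
      calc a * b = a * b * (w * w) := by rw [hsq w hw, mul_one]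
        _ = a * (b * w) * w := by group
        _ = a * (w * b) * w := by rw [e1]
        _ = (a * w) * (b * w) := by group
    rw [h3]; exact mul_mem h1 h2
  have hconjN : ∀ g ∈ Subgroup.normalizer (Z0 : Set G), ∀ a ∈ Z0, g * a * g⁻¹ ∈ Z0 := by
    intro g hg a ha
    exact (Subgroup.mem_normalizer_iff.mp hg a).mp ha
  obtain ⟨z, hzZ, hzZ1⟩ := SetLike.not_le_iff_exists.mp hZne
  have hz0 : z ∈ Z0 := hZZ0 hzZ
  have hz1 : z ≠ 1 := fun h => hzZ1 (h ▸ one_mem _)
  have hx1 : ∀ a ∈ Z1, a ≠ 1 → x * a * x⁻¹ ∉ Z1 := fun a ha ha1 h => hxL (hY x a ha ha1 h)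
  have hZ1two : ∀ a ∈ Z1, ∀ b ∈ Z1, a ≠ 1 → b ≠ 1 → a = b := by
    intro a ha b hb ha1 hb1
    have h1 := hprod _ (hconjN x hxN a (hZ1 ha)) _ (hconjN x hxN b (hZ1 hb))
      (hx1 a ha ha1) (hx1 b hb hb1)
    rw [← conj_mul'] at h1
    by_contra hab
    have hab1 : a * b ≠ 1 := by
      intro h
      apply hab
      have hb2 := hsq b (hZ1 hb)
      calc a = a * (b * b) := by rw [hb2, mul_one]
        _ = (a * b) * b := by group
        _ = b := by rw [h, one_mul]
    exact hx1 (a * b) (mul_mem ha hb) hab1 h1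
  by_cases hZ1bot : ∀ a ∈ Z1, a = 1
  · left
    have hZ0 : ∀ a ∈ Z0, a = 1 ∨ a = w := by
      intro a ha
      rcases hidx a ha with h | h
      · left; exact hZ1bot a h
      · right
        have h1 := hZ1bot _ h
        calc a = a * (w * w) := by rw [hsq w hw, mul_one]
          _ = (a * w) * w := by group
          _ = w := by rw [h1, one_mul]
    have hzw : z = w := (hZ0 z hz0).resolve_left hz1
    have hZeq : Z = Z0 := by
      apply le_antisymm hZZ0
      intro a ha
      rcases hZ0 a ha with h | h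
      · rw [h]; exact one_mem _
      · rw [h, ← hzw]; exact hzZ
    refine ⟨hZeq, ?_⟩
    rw [Nat.card_eq_two_iff]
    refine ⟨⟨1, one_mem _⟩, ⟨z, hz0⟩, ?_, ?_⟩
    · intro h; exact hz1 (congrArg Subtype.val h).symm
    · ext ⟨a, ha⟩
      simp only [Set.mem_insert_iff, Set.mem_singleton_iff, Set.mem_univ, iff_true]
      rcases hZ0 a ha with h | h
      · left; exact Subtype.ext h
      · right; exact Subtype.ext (h.trans hzw.symm)
  · right
    push Not at hZ1bot
    obtain ⟨z1, hz1Z1, hz1ne⟩ := hZ1bot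
    have hz10 : z1 ∈ Z0 := hZ1 hz1Z1
    have hZ1' : ∀ a ∈ Z1, a = 1 ∨ a = z1 := by
      intro a ha
      by_cases h : a = 1
      · left; exact h
      · right; exact hZ1two a ha z1 hz1Z1 h hz1ne
    have hZ0 : ∀ a ∈ Z0, a = 1 ∨ a = z1 ∨ a = z ∨ a = z * z1 := by
      intro a ha
      by_cases h : a ∈ Z1
      · rcases hZ1' a h with h | h
        · exact Or.inl h
        · exact Or.inr (Or.inl h)
      · have h2 := hprod a ha z hz0 h hzZ1
        have hz2 := hsq z hz0
        rcases hZ1' _ h2 with h3 | h3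
        · right; right; left
          calc a = a * (z * z) := by rw [hz2, mul_one]
            _ = (a * z) * z := by group
            _ = z := by rw [h3, one_mul]
        · right; right; right
          calc a = a * (z * z) := by rw [hz2, mul_one]
            _ = (a * z) * z := by group
            _ = z1 * z := by rw [h3]
            _ = z * z1 := hcomm z1 hz10 z hz0
    have hzz1 : z ≠ z1 := fun h => hzZ1 (h ▸ hz1Z1)
    have hzz1' : z * z1 ≠ z1 := by
      intro h
      apply hz1
      calc z = z * z1 * z1⁻¹ := by group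
        _ = z1 * z1⁻¹ := by rw [h]
        _ = 1 := by group
    have hzz1'' : z * z1 ≠ z := by
      intro h
      apply hz1ne
      calc z1 = z⁻¹ * (z * z1) := by group
        _ = z⁻¹ * z := by rw [h]
        _ = 1 := by group
    have hzz1ne : z * z1 ≠ 1 := by
      intro h
      apply hzZ1
      have h' : z = z1⁻¹ := eq_inv_of_mul_eq_one_left h
      rw [h']; exact inv_mem hz1Z1
    have hzz10 : z * z1 ∈ Z0 := mul_mem hz0 hz10
    have hxz1 : x * z1 * x⁻¹ = z * z1 := by
      rcases hZ0 _ (hconjN x hxN z1 hz10) with h | h | h | h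
      · exact absurd (conj_eq_one h) hz1ne
      · exact absurd (show x * z1 * x⁻¹ ∈ Z1 by rw [h]; exact hz1Z1) (hx1 z1 hz1Z1 hz1ne)
      · exact absurd (show x * z1 * x⁻¹ ∈ Z by rw [h]; exact hzZ) (hNoZ x z1 hz1Z1 hz1ne)
      · exact h
    have hTz1 : ∀ t ∈ T, t * z1 * t⁻¹ = z1 := by
      intro t ht
      rcases hZ0 _ (hconjN t (hTN ht) z1 hz10) with h | h | h | h
      · exact absurd (conj_eq_one h) hz1ne
      · exact h
      · exact absurd (show t * z1 * t⁻¹ ∈ Z by rw [h]; exact hzZ) (hNoZ t z1 hz1Z1 hz1ne)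
      · exfalso
        apply hxL
        have hc : t⁻¹ * x ∈ Subgroup.centralizer ({z1} : Set G) := by
          rw [Subgroup.mem_centralizer_iff]
          intro y hy
          rw [Set.mem_singleton_iff] at hy
          subst hy
          have e : x * y * x⁻¹ = t * y * t⁻¹ := by rw [hxz1, h]
          calc y * (t⁻¹ * x) = t⁻¹ * (t * y * t⁻¹) * x := by group
            _ = t⁻¹ * (x * y * x⁻¹) * x := by rw [e]
            _ = t⁻¹ * x * y := by group
        have h2 := hU z1 hz1Z1 hz1ne hc
        have h3 : x = t * (t⁻¹ * x) := by group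
        rw [h3]; exact mul_mem (hTL ht) h2
    have hTcent : ∀ t ∈ T, ∀ a ∈ Z0, t * a * t⁻¹ = a := by
      intro t ht a ha
      rcases hZ0 a ha with h | h | h | h
      · rw [h]; group
      · rw [h]; exact hTz1 t ht
      · rw [h]; exact hTZ t ht z hzZ
      · rw [h, conj_mul', hTZ t ht z hzZ, hTz1 t ht]
    refine ⟨hTcent, ?_, ?_⟩
    · have hset : (Z0 : Set G) = {1, z1, z, z * z1} := by
        ext a
        constructor
        · intro ha
          rcases hZ0 a ha with h | h | h | h <;> simp [h]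
        · intro ha
          simp only [Set.mem_insert_iff, Set.mem_singleton_iff] at ha
          rcases ha with h | h | h | h
          · rw [h]; exact one_mem _
          · rw [h]; exact hz10
          · rw [h]; exact hz0
          · rw [h]; exact hzz10
      have hc : Nat.card Z0 = (Z0 : Set G).ncard := rfl
      rw [hc, hset]
      rw [Set.ncard_insert_of_notMem, Set.ncard_insert_of_notMem, Set.ncard_pair]
      · exact hzz1''.symm
      · simp only [Set.mem_insert_iff, Set.mem_singleton_iff, not_or]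
        exact ⟨fun h => hzz1 h.symm, fun h => hzz1' h.symm⟩
      · simp only [Set.mem_insert_iff, Set.mem_singleton_iff, not_or]
        exact ⟨fun h => hz1ne h.symm, fun h => hz1 h.symm, fun h => hzz1ne h.symm⟩
    · have hCL : Subgroup.centralizer (Z0 : Set G) ≤ L := by
        intro g hg
        apply hU z1 hz1Z1 hz1ne
        rw [Subgroup.mem_centralizer_iff] at hg ⊢
        intro y hy
        rw [Set.mem_singleton_iff] at hy
        subst hy
        exact hg y hz10
      rw [inf_eq_right.mpr hCL]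
      have hCiff : ∀ b : G, b ∈ Subgroup.centralizer (Z0 : Set G) ↔
          (b * z * b⁻¹ = z ∧ b * z1 * b⁻¹ = z1) := by
        intro b
        rw [Subgroup.mem_centralizer_iff]
        constructor
        · intro h
          refine ⟨?_, ?_⟩
          · have h' := h z hz0
            calc b * z * b⁻¹ = (z * b) * b⁻¹ := by rw [h']
              _ = z := by group
          · have h' := h z1 hz10
            calc b * z1 * b⁻¹ = (z1 * b) * b⁻¹ := by rw [h']
              _ = z1 := by group
        · rintro ⟨h1, h2⟩ a ha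
          have key : ∀ c : G, b * c * b⁻¹ = c → c * b = b * c := by
            intro c hc
            calc c * b = (b * c * b⁻¹) * b := by rw [hc]
              _ = b * c := by group
          rcases hZ0 a ha with h | h | h | h
          · rw [h]; group
          · rw [h]; exact key _ h2
          · rw [h]; exact key _ h1
          · rw [h]; apply key; rw [conj_mul', h1, h2]
      have hNz : ∀ b ∈ Subgroup.normalizer (Z0 : Set G), b * z * b⁻¹ = z := by
        intro b hb
        rcases hZ0 _ (hconjN b hb z hz0) with h | h | h | h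
        · exact absurd (conj_eq_one h) hz1
        · exfalso
          apply hNoZ b⁻¹ z1 hz1Z1 hz1ne
          have e : b⁻¹ * z1 * b⁻¹⁻¹ = z := by
            rw [← h]; group
          rw [e]; exact hzZ
        · exact h
        · exfalso
          apply hNoZ (b⁻¹ * x) z1 hz1Z1 hz1ne
          have e : (b⁻¹ * x) * z1 * (b⁻¹ * x)⁻¹ = z := by
            calc (b⁻¹ * x) * z1 * (b⁻¹ * x)⁻¹ = b⁻¹ * (x * z1 * x⁻¹) * b := by group
              _ = b⁻¹ * (b * z * b⁻¹) * b := by rw [hxz1, h]
              _ = z := by group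
          rw [e]; exact hzZ
      have hNz1 : ∀ b ∈ Subgroup.normalizer (Z0 : Set G),
          b * z1 * b⁻¹ = z1 ∨ b * z1 * b⁻¹ = z * z1 := by
        intro b hb
        rcases hZ0 _ (hconjN b hb z1 hz10) with h | h | h | h
        · exact absurd (conj_eq_one h) hz1ne
        · exact Or.inl h
        · exact absurd (show b * z1 * b⁻¹ ∈ Z by rw [h]; exact hzZ) (hNoZ b z1 hz1Z1 hz1ne)
        · exact Or.inr h
      unfold Subgroup.relIndex
      rw [Subgroup.index_eq_two_iff]
      refine ⟨⟨x, hxN⟩, ?_⟩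
      intro b
      have hbN := b.2
      have hxz : x * z * x⁻¹ = z := hxZ z hzZ
      have e1 : (b * ⟨x, hxN⟩ : ↥(Subgroup.normalizer (Z0 : Set G))) ∈
          (Subgroup.centralizer (Z0 : Set G)).subgroupOf (Subgroup.normalizer (Z0 : Set G)) ↔
          ((b : G) * x) ∈ Subgroup.centralizer (Z0 : Set G) := by
        rw [Subgroup.mem_subgroupOf]; rfl
      have e2 : b ∈ (Subgroup.centralizer (Z0 : Set G)).subgroupOf
          (Subgroup.normalizer (Z0 : Set G)) ↔ (b : G) ∈ Subgroup.centralizer (Z0 : Set G) :=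
        Subgroup.mem_subgroupOf
      rw [e1, e2, hCiff, hCiff]
      have hbx_z : (b : G) * x * z * ((b : G) * x)⁻¹ = z := by
        calc (b : G) * x * z * ((b : G) * x)⁻¹ = b * (x * z * x⁻¹) * (b : G)⁻¹ := by group
          _ = z := by rw [hxz, hNz b hbN]
      have hbx_z1 : (b : G) * x * z1 * ((b : G) * x)⁻¹ = b * (z * z1) * (b : G)⁻¹ := by
        calc (b : G) * x * z1 * ((b : G) * x)⁻¹ = b * (x * z1 * x⁻¹) * (b : G)⁻¹ := by group
          _ = _ := by rw [hxz1]
      unfold Xor
      rcases hNz1 b hbN with h | h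
      · right
        refine ⟨⟨hNz b hbN, h⟩, ?_⟩
        rintro ⟨-, h2⟩
        rw [hbx_z1, conj_mul', hNz b hbN, h] at h2
        exact hzz1' h2
      · left
        refine ⟨⟨hbx_z, ?_⟩, ?_⟩
        · rw [hbx_z1, conj_mul', hNz b hbN, h]
          calc z * (z * z1) = (z * z) * z1 := by group
            _ = z1 := by rw [hsq z hz0, one_mul]
        · rintro ⟨-, h2⟩
          rw [h] at h2
          exact hzz1' h2

end Cfsg.Agent.H7.JzLt
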