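import Mathlib
import Cfsg.Agent.H7.PsAsm
import Cfsg.Agent.H71.PsCrit
import Cfsg.Agent.H16.PsTrans
import Cfsg.Agent.H16.PsPrimes
import Cfsg.Agent.H16.PsF1
import Cfsg.Agent.H65.PsEx6
import Cfsg.Agent.H65.PsEx15
import Cfsg.Agent.Helper55.PsEx10
import Cfsg.Agent.Helper55.PsEx13
import Cfsg.Agent.Helper55.PsEx14
import Cfsg.Agent.H65.PsOdd
import Cfsg.Agent.H19.PsF2
import Cfsg.Agent.H75.PsF3
import Cfsg.Agent.H75.PsNo26
import Cfsg.Agent.H11.PsFam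
import Cfsg.Agent.H98.PsInst

/-! # S3664: the final statement from the landed pieces (helper7).

Pieces: PS-CRIT (helper71), PS-TRANS / PS-PRIMES / PS-F1 (helper16), PS-EX6 / PS-EX15 / PS-ODD
(helper65), PS-EX10 / PS-EX13 / PS-EX14 (helper55), PS-F2 (helper19), PS-F3 / PS-NO26 (helper75),
PS-FAM (helper11), PS-INST (helper98 with helper44, helper63, helper71, helper25, helper5,
helper99, helper20). -/

set_option autoImplicit false

namespace Cfsg.Agent.H7.Ps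

universe u

theorem final : StMain.{u} :=
  main Cfsg.Agent.H71.Ps.crit Cfsg.Agent.H16.Ps.trans Cfsg.Agent.H16.Ps.primes
    Cfsg.Agent.H65.Ps.ex6 Cfsg.Agent.Helper55.Ps.ex10 Cfsg.Agent.H65.Ps.ex15
    Cfsg.Agent.Helper55.Ps.ex14 Cfsg.Agent.Helper55.Ps.ex13 Cfsg.Agent.H65.Ps.odd
    (Cfsg.Agent.H75.Ps.no26 (Cfsg.Agent.H19.Ps.f2 Cfsg.Agent.H16.Ps.f1)
      (Cfsg.Agent.H75.Ps.f3 Cfsg.Agent.H16.Ps.f1))
    Cfsg.Agent.H11.Ps.fam Cfsg.Agent.H98.Ps.inst'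

end Cfsg.Agent.H7.Ps
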