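import Mathlib
import Cfsg.Agent.H7.PsDefs

/-! # S3664, piece PS-TW13 (helper7): the twisted commutant of an element of order 13 in
`Mat₄(𝔽₈)` without fixed vectors is zero. -/

set_option autoImplicit false

namespace Cfsg.Agent.H7.Ps

open Matrix

section counting

variable {V : Type} [AddCommGroup V]

theorem tw_iter_mem (G : V →+ V) (W : AddSubgroup V) (hW : ∀ w ∈ W, G w ∈ W) (n : ℕ) :
    ∀ w ∈ W, (⇑G)^[n] w ∈ W := by
  induction n with
  | zero => intro w hw; simpa using hw
  | succ n ih => intro w hw; rw [Function.iterate_succ_apply']; exact hW _ (ih w hw)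

variable [Finite V]

/-- an additive map of order 13 without fixed points: invariant subgroups have `≡ 1 mod 13`
elements -/
theorem tw_card_modEq (G : V →+ V) (h13 : ∀ v, (⇑G)^[13] v = v) (hfix : ∀ v, G v = v → v = 0)
    (W : AddSubgroup V) (hW : ∀ w ∈ W, G w ∈ W) : Nat.card W ≡ 1 [MOD 13] := by
  classical
  let π : Equiv.Perm ↥W :=
    { toFun := fun w => ⟨G w, hW w w.2⟩
      invFun := fun w => ⟨(⇑G)^[12] w, tw_iter_mem G W hW 12 w w.2⟩
      left_inv := fun w => Subtype.ext (by
        show (⇑G)^[12] (G w) = w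
        rw [← Function.iterate_succ_apply]; exact h13 w)
      right_inv := fun w => Subtype.ext (by
        show G ((⇑G)^[12] w) = w
        exact (Function.iterate_succ_apply' (⇑G) 12 w.1).symm.trans (h13 w)) }
  have hsemi : Function.Semiconj (Subtype.val : ↥W → V) ⇑π ⇑G := fun w => rfl
  have hπ : π ^ 13 = 1 := by
    ext w
    rw [← Equiv.Perm.iterate_eq_pow]
    have := hsemi.iterate_right 13 w
    rw [this, h13]
    rfl
  have hp : IsPGroup 13 (Subgroup.zpowers π) := by
    rintro ⟨x, hx⟩
    obtain ⟨j, rfl⟩ := Subgroup.mem_zpowers_iff.1 hx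
    refine ⟨1, Subtype.ext ?_⟩
    show (π ^ j) ^ 13 ^ 1 = 1
    rw [pow_one, ← zpow_natCast, ← _root_.zpow_mul, mul_comm, _root_.zpow_mul, zpow_natCast, hπ, _root_.one_zpow]
  have : Fact (Nat.Prime 13) := ⟨by norm_num⟩
  have hmod := hp.card_modEq_card_fixedPoints ↥W
  have hfp : Nat.card (MulAction.fixedPoints (Subgroup.zpowers π) ↥W) = 1 := by
    rw [Nat.card_eq_one_iff_unique]
    refine ⟨⟨?_⟩, ⟨⟨0, ?_⟩⟩⟩
    · have key : ∀ a : ↥W, a ∈ MulAction.fixedPoints (Subgroup.zpowers π) ↥W → a = 0 := by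
        intro a ha
        have h1 : π a = a := ha ⟨π, Subgroup.mem_zpowers π⟩
        have h2 : G a.1 = a.1 := congrArg Subtype.val h1
        exact Subtype.ext (hfix _ h2)
      rintro ⟨a, ha⟩ ⟨b, hb⟩
      exact Subtype.ext ((key a ha).trans (key b hb).symm)
    · rintro ⟨x, hx⟩
      obtain ⟨j, rfl⟩ := Subgroup.mem_zpowers_iff.1 hx
      show (π ^ j) 0 = 0
      apply Equiv.Perm.zpow_apply_eq_self_of_apply_eq_self
      exact Subtype.ext (map_zero G)
  rw [hfp] at hmod
  exact hmod

/-- … hence, when `|V| = 2 ^ 12`, they are `⊥` or `⊤` -/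
theorem tw_inv_top (hV : Nat.card V = 2 ^ 12) (G : V →+ V) (h13 : ∀ v, (⇑G)^[13] v = v)
    (hfix : ∀ v, G v = v → v = 0) (W : AddSubgroup V) (hW : ∀ w ∈ W, G w ∈ W) (hne : W ≠ ⊥) :
    W = ⊤ := by
  have hmod := tw_card_modEq G h13 hfix W hW
  have hdvd := W.card_addSubgroup_dvd_card
  rw [hV] at hdvd
  obtain ⟨e, he, hc⟩ := (Nat.dvd_prime_pow Nat.prime_two).1 hdvd
  rw [hc] at hmod
  have he' : e = 0 ∨ e = 12 := by
    interval_cases e <;> first | exact Or.inl rfl | exact Or.inr rfl | (exfalso; revert hmod; decide)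
  rcases he' with rfl | rfl
  · exact absurd (W.eq_bot_of_card_eq (by rw [hc]; rfl)) hne
  · exact (W.card_eq_iff_eq_top).1 (by rw [hc, hV])

/-- the additive endomorphisms commuting with `G` commute with each other -/
theorem tw_comm (hV : Nat.card V = 2 ^ 12) (G : AddMonoid.End V) (h13 : ∀ v, (⇑G)^[13] v = v)
    (hfix : ∀ v, G v = v → v = 0) (v₀ : V) (hv₀ : v₀ ≠ 0) (S T : AddMonoid.End V)
    (hS : G * S = S * G) (hT : G * T = T * G) : S * T = T * S := by
  -- `D` = commutant of `G`, `Z` = its centre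
  set D : Subring (AddMonoid.End V) := Subring.centralizer {G} with hD
  set Z : Subring (AddMonoid.End V) := Subring.centralizer (D : Set (AddMonoid.End V)) with hZ
  have memD : ∀ {R : AddMonoid.End V}, R ∈ D ↔ G * R = R * G := by
    intro R
    rw [hD, Subring.mem_centralizer_iff]
    constructor
    · intro h; exact h G rfl
    · intro h g hg; rw [Set.mem_singleton_iff.1 hg]; exact h
  have GD : G ∈ D := memD.2 rfl
  have GZ : G ∈ Z := by
    rw [hZ, Subring.mem_centralizer_iff]
    intro d hd
    exact (memD.1 hd).symm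
  have ZD : ∀ {R : AddMonoid.End V}, R ∈ Z → R ∈ D := by
    intro R hR
    rw [hZ, Subring.mem_centralizer_iff] at hR
    exact memD.2 (hR G GD)
  -- an element of `D` killing `v₀` is zero
  have kill : ∀ R : AddMonoid.End V, R ∈ D → R v₀ = 0 → R = 0 := by
    intro R hR h0
    have hR' := memD.1 hR
    let K : AddSubgroup V :=
      { carrier := {w | R w = 0}
        add_mem' := by
          intro a b ha hb
          show R (a + b) = 0
          rw [map_add, show R a = 0 from ha, show R b = 0 from hb, add_zero]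
        zero_mem' := map_zero R
        neg_mem' := by
          intro a ha
          show R (-a) = 0
          rw [map_neg, show R a = 0 from ha, neg_zero] }
    have htop := tw_inv_top hV G h13 hfix K (by
      intro w hw
      show R (G w) = 0
      have : R (G w) = G (R w) := by
        have := congrArg (fun Q : AddMonoid.End V => Q w) hR'
        exact this.symm
      rw [this, show R w = 0 from hw]; exact map_zero G) (by
      intro hbot
      have : v₀ ∈ K := h0
      rw [hbot] at this
      exact hv₀ ((AddSubgroup.mem_bot).1 this))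
    ext w
    have : w ∈ K := by rw [htop]; exact AddSubgroup.mem_top w
    exact this
  -- `Z v₀` is everything
  have surj : ∀ w : V, ∃ R ∈ Z, R v₀ = w := by
    let W : AddSubgroup V :=
      { carrier := {w | ∃ R ∈ Z, R v₀ = w}
        add_mem' := by
          rintro a b ⟨R₁, h₁, rfl⟩ ⟨R₂, h₂, rfl⟩
          exact ⟨R₁ + R₂, Z.add_mem h₁ h₂, rfl⟩
        zero_mem' := ⟨0, Z.zero_mem, rfl⟩
        neg_mem' := by
          rintro a ⟨R, h, rfl⟩
          exact ⟨-R, Z.neg_mem h, rfl⟩ }
    have htop := tw_inv_top hV G h13 hfix W (by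
      rintro w ⟨R, h, rfl⟩
      exact ⟨G * R, Z.mul_mem GZ h, rfl⟩) (by
      intro hbot
      have : v₀ ∈ W := ⟨1, Z.one_mem, rfl⟩
      rw [hbot] at this
      exact hv₀ ((AddSubgroup.mem_bot).1 this))
    intro w
    have : w ∈ W := by rw [htop]; exact AddSubgroup.mem_top w
    exact this
  -- so `D = Z`
  have DZ : ∀ R : AddMonoid.End V, R ∈ D → R ∈ Z := by
    intro R hR
    obtain ⟨R', hR', he⟩ := surj (R v₀)
    have h0 : R - R' = 0 := kill (R - R') (D.sub_mem hR (ZD hR')) (by
      show R v₀ - R' v₀ = 0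
      rw [he, sub_self])
    rw [sub_eq_zero.1 h0]; exact hR'
  have hSZ := DZ S (memD.2 hS)
  rw [hZ, Subring.mem_centralizer_iff] at hSZ
  exact (hSZ T (memD.2 hT)).symm

end counting

section field

variable {F : Type} [Field F]

theorem tw_sq_mulVec [CharP F 2] (g : Matrix (Fin 4) (Fin 4) F) (v : Fin 4 → F) :
    (g.map (fun a => a ^ 2)).mulVec (fun i => (v i) ^ 2) = fun i => (g.mulVec v i) ^ 2 := by
  funext i
  simp only [Matrix.mulVec, dotProduct, Matrix.map_apply]
  have := map_sum (frobenius F 2) (fun j => g i j * v j) Finset.univ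
  simp only [frobenius_def, mul_pow] at this
  exact this.symm

theorem tw_iter_mulVec (g : Matrix (Fin 4) (Fin 4) F) (n : ℕ) (v : Fin 4 → F) :
    (fun w : Fin 4 → F => g.mulVec w)^[n] v = (g ^ n).mulVec v := by
  induction n with
  | zero => simp
  | succ n ih =>
    rw [Function.iterate_succ_apply', ih, Matrix.mulVec_mulVec, ← pow_succ']

variable [Fintype F]

theorem tw_charP (h : Fintype.card F = 8) : CharP F 2 := by
  have h8 : ((8 : ℕ) : F) = 0 := by rw [← h]; exact Nat.cast_card_eq_zero F
  have h2 : (2 : F) = 0 := by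
    have h3 : (2 : F) ^ 3 = 0 := by
      have : ((8 : ℕ) : F) = (2 : F) ^ 3 := by norm_num
      rw [← this]; exact h8
    exact (pow_eq_zero_iff (by norm_num)).1 h3
  exact CharTwo.of_one_ne_zero_of_two_eq_zero one_ne_zero h2

theorem tw_exists_c (h : Fintype.card F = 8) : ∃ c : F, c ^ 2 ≠ c := by
  classical
  by_contra hcon
  have hcon : ∀ c : F, c ^ 2 = c := fun c => by
    by_contra h
    exact hcon ⟨c, h⟩
  have hsub : (Finset.univ : Finset F) ⊆ {0, 1} := by
    intro c _
    have h1 : c * (c - 1) = 0 := by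
      have := hcon c
      linear_combination this
    rcases mul_eq_zero.1 h1 with h0 | h0
    · simp [h0]
    · simp [sub_eq_zero.1 h0]
  have := Finset.card_le_card hsub
  rw [Finset.card_univ, h] at this
  have h2 : ({0, 1} : Finset F).card ≤ 2 := Finset.card_le_two
  omega

end field

/-- [PS-TW13] -/
theorem tw13 : StTw13 := by
  intro F _ _ hF g hg hfix X hX
  have := tw_charP hF
  classical
  -- the three additive maps
  let G : AddMonoid.End (Fin 4 → F) := AddMonoidHom.mk' (fun v => g.mulVec v) (Matrix.mulVec_add g)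
  let Θ : AddMonoid.End (Fin 4 → F) :=
    AddMonoidHom.mk' (fun v => X.mulVec (fun i => (v i) ^ 2)) (by
      intro a b
      have : (fun i => ((a + b) i) ^ 2) = (fun i => (a i) ^ 2) + (fun i => (b i) ^ 2) := by
        funext i
        exact CharTwo.add_sq (a i) (b i)
      rw [this, Matrix.mulVec_add])
  have hGΘ : G * Θ = Θ * G := by
    ext v : 1
    show g.mulVec (X.mulVec (fun i => (v i) ^ 2)) = X.mulVec (fun i => (g.mulVec v i) ^ 2)
    rw [Matrix.mulVec_mulVec, hX, ← Matrix.mulVec_mulVec, tw_sq_mulVec]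
  have h13 : ∀ v, (⇑G)^[13] v = v := by
    intro v
    have := tw_iter_mulVec g 13 v
    rw [hg, Matrix.one_mulVec] at this
    exact this
  have hV : Nat.card (Fin 4 → F) = 2 ^ 12 := by
    rw [Nat.card_eq_fintype_card, Fintype.card_fun, hF]
    rfl
  obtain ⟨c, hc⟩ := tw_exists_c hF
  let μ : AddMonoid.End (Fin 4 → F) := AddMonoidHom.mk' (fun v => c • v) (smul_add c)
  have hGμ : G * μ = μ * G := by
    ext v : 1
    show g.mulVec (c • v) = c • g.mulVec v
    rw [Matrix.mulVec_smul]
  have hv₀ : (Pi.single 0 1 : Fin 4 → F) ≠ 0 := by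
    intro h
    have := congrFun h 0
    simp at this
  have hcomm := tw_comm hV G h13 (fun v hv => hfix v hv) _ hv₀ Θ μ hGΘ hGμ
  have hΘ : ∀ v : Fin 4 → F, X.mulVec (fun i => (v i) ^ 2) = 0 := by
    intro v
    have h1 : Θ (μ v) = μ (Θ v) := congrArg (fun Q : AddMonoid.End (Fin 4 → F) => Q v) hcomm
    have h2 : Θ (μ v) = c ^ 2 • Θ v := by
      show X.mulVec (fun i => ((c • v) i) ^ 2) = c ^ 2 • X.mulVec (fun i => (v i) ^ 2)
      rw [← Matrix.mulVec_smul]
      congr 1
      funext i
      simp [mul_pow]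
    have h3 : (c ^ 2 - c) • Θ v = 0 := by
      rw [sub_smul, ← h2, h1]
      exact sub_self _
    rcases smul_eq_zero.1 h3 with h4 | h4
    · exact absurd (sub_eq_zero.1 h4) hc
    · exact h4
  ext i j
  have h := hΘ (Pi.single j 1)
  have e : (fun k => (Pi.single j (1 : F) : Fin 4 → F) k ^ 2) = Pi.single j 1 := by
    funext k
    by_cases hk : k = j
    · subst hk; simp
    · simp [Pi.single_eq_of_ne hk]
  rw [e, Matrix.mulVec_single_one] at h
  exact congrFun h i

example : StTw13 := tw13

end Cfsg.Agent.H7.Ps
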