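import Cfsg.Agent.H7.RCDefs
import Cfsg.Agent.H22.ReeOrd
import Cfsg.Agent.H44.SL2Card
/-!
Team project S1156 (helper7): the generic Sylow lemma (SYLCYC), the `GL₇` piece, the case of the
torus `H¹`, and the assembly of the pieces.
-/
set_option autoImplicit false
open Cfsg Cfsg.Lie

namespace Cfsg.Agent.H7.RC

open Cfsg.Agent.H22 Cfsg.Agent.H22.GEx Cfsg.Agent.H22.Ree Cfsg.Agent.H45.R2 Matrix

universe u

/-- (SYLCYC) -/
theorem sylCyc : StSylCyc.{u} := by
  intro G _ _ p _ Q hQ hle P hP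
  have hpp : p.Prime := Fact.out
  -- a Sylow `p`-subgroup of the cyclic group `Q`
  obtain ⟨S⟩ : Nonempty (Sylow p ↥Q) := inferInstance
  have hScyc : IsCyclic ↥(S : Subgroup ↥Q) := inferInstance
  have hScard : Nat.card ↥(S : Subgroup ↥Q) = p ^ (Nat.card ↥Q).factorization p :=
    Sylow.card_eq_multiplicity S
  -- its image in `G`
  have hinj : Function.Injective Q.subtype := Subgroup.subtype_injective Q
  have e1 : ↥(S : Subgroup ↥Q) ≃* ↥((S : Subgroup ↥Q).map Q.subtype) :=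
    Subgroup.equivMapOfInjective _ _ hinj
  have hS'cyc : IsCyclic ↥((S : Subgroup ↥Q).map Q.subtype) := e1.isCyclic.mp hScyc
  have hS'card : Nat.card ↥((S : Subgroup ↥Q).map Q.subtype) =
      p ^ (Nat.card ↥Q).factorization p := by
    rw [← Nat.card_congr e1.toEquiv, hScard]
  have hS'p : IsPGroup p ↥((S : Subgroup ↥Q).map Q.subtype) := S.isPGroup'.map Q.subtype
  obtain ⟨R, hR⟩ := hS'p.exists_le_sylow
  have hRcard : Nat.card ↥(R : Subgroup G) = p ^ (Nat.card G).factorization p :=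
    Sylow.card_eq_multiplicity R
  have hge : Nat.card ↥(R : Subgroup G) ≤ Nat.card ↥((S : Subgroup ↥Q).map Q.subtype) := by
    rw [hRcard, hS'card]
    exact Nat.pow_le_pow_right hpp.pos hle
  have hEq : (S : Subgroup ↥Q).map Q.subtype = (R : Subgroup G) :=
    Subgroup.eq_of_le_of_card_ge hR hge
  have hRcyc : IsCyclic ↥(R : Subgroup G) := by rw [← hEq]; exact hS'cyc
  -- every `p`-subgroup lies in a Sylow subgroup, and all Sylow subgroups are isomorphic
  obtain ⟨R₂, hR₂⟩ := hP.exists_le_sylow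
  have hR₂cyc : IsCyclic ↥(R₂ : Subgroup G) := (Sylow.equiv R R₂).isCyclic.mp hRcyc
  exact Subgroup.isCyclic_of_le hR₂

/-- (GL7) from the Singer cycle and the number theory -/
theorem gl7 (hS : StSinger.{u}) (hN : StNTC) (hC : StSylCyc.{u}) : StGL7.{u} := by
  intro K _ _ p _ hp hdvd P hP
  obtain ⟨Z, hZ, hcard⟩ := hS K
  have hq : 2 ≤ Fintype.card K := Fintype.one_lt_card
  refine hC (GL (Fin 7) K) p Z hZ ?_ P hP
  rw [Matrix.card_GL_field, hcard]
  exact hN _ p hq Fact.out hp hdvd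

section ree

variable {K : Type u} [Field K] [Fintype K] [CharP K 3] {m : ℕ} (C : Ctx K (3 ^ m))

include C in
/-- the torus `H¹` as a cyclic subgroup of order `q - 1` of `²G₂(q)` -/
theorem hcyc (hK : Fintype.card K = 3 ^ (2 * m + 1)) :
    ∃ Q : Subgroup ↥(twistedG2 K (3 ^ m)), IsCyclic ↥Q ∧ Nat.card ↥Q = 3 ^ (2 * m + 1) - 1 := by
  have hle : chevG2.diagonalSubgroup K ⊓ twistedG2 K (3 ^ m) ≤ twistedG2 K (3 ^ m) := inf_le_right
  have e1 := Subgroup.subgroupOfEquivOfLe hle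
  refine ⟨(chevG2.diagonalSubgroup K ⊓ twistedG2 K (3 ^ m)).subgroupOf (twistedG2 K (3 ^ m)),
    e1.isCyclic.mpr C.H1_cyclic, ?_⟩
  rw [Nat.card_congr e1.toEquiv, C.card_H1 hK]

include C in
/-- the assembly: Sylow `p`-subgroups of `²G₂(q)` are cyclic for `p > 3` -/
theorem main (hK : Fintype.card K = 3 ^ (2 * m + 1)) (hcan : CanonG2 K) (hW : WeylG2 K)
    (hSyl : StSylCyc.{u}) (hGL : StGL7.{u}) (hNA : StNTA) (hSL : StSL2Syl.{u})
    (hPsi : StPsiImg C) (hF : StFaith K (3 ^ m))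
    {p : ℕ} [Fact p.Prime] (hp : 3 < p) (P : Sylow p ↥(twistedG2 K (3 ^ m))) :
    IsCyclic ↥(P : Subgroup ↥(twistedG2 K (3 ^ m))) := by
  have hpp : p.Prime := Fact.out
  have hcard := C.card_twisted hK hcan hW
  have hfin : Finite ↥(twistedG2 K (3 ^ m)) := inferInstance
  have hq2 : 2 ≤ 3 ^ (2 * m + 1) := by
    calc 2 ≤ 3 ^ 1 := by norm_num
      _ ≤ 3 ^ (2 * m + 1) := Nat.pow_le_pow_right (by norm_num) (by omega)
  have hpq : ¬ p ∣ 3 ^ (2 * m + 1) := by
    intro h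
    have h3 := (Nat.prime_dvd_prime_iff_eq hpp Nat.prime_three).mp (hpp.dvd_of_dvd_pow h)
    omega
  obtain ⟨h1, h2, h3⟩ := hNA (3 ^ (2 * m + 1)) p hq2 hpp hp hpq
  by_cases hdiv : p ∣ Nat.card ↥(twistedG2 K (3 ^ m))
  · have hdiv' := hdiv
    rw [hcard] at hdiv'
    rcases h3 hdiv' with ha | hb | hc
    · -- `p ∣ q - 1`
      obtain ⟨Q, hQ, hQc⟩ := hcyc C hK
      exact hSyl _ p Q hQ (by rw [hcard, hQc]; exact h1 ha) _ P.isPGroup'
    · -- `p ∣ q + 1`
      have hodd : Odd (Fintype.card K) := by rw [hK]; exact Odd.pow (by decide)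
      obtain ⟨P₀⟩ : Nonempty (Sylow p (SpecialLinearGroup (Fin 2) K)) := inferInstance
      have hP₀ := hSL K hodd p (by omega) (by rw [hK]; exact hb) P₀
      obtain ⟨Q, hQ, hQc⟩ := hPsi p hpp (by omega) _ P₀.isPGroup' hP₀
      refine hSyl _ p Q hQ ?_ _ P.isPGroup'
      rw [hcard, hQc, Sylow.card_eq_multiplicity, Cfsg.Agent.H44.card_SL2, hK,
        hpp.factorization_pow, Finsupp.single_eq_same]
      exact h2 hb
    · -- `p ∣ q² - q + 1`
      obtain ⟨f, hf⟩ := hF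
      have e0 : SIdx ≃ Fin 7 := Fintype.equivFinOfCardEq card_SIdx
      have e1 : GL SIdx K ≃* GL (Fin 7) K :=
        Units.mapEquiv (Matrix.reindexAlgEquiv K K e0).toMulEquiv
      have hg : Function.Injective (e1.toMonoidHom.comp f) := e1.injective.comp hf
      have e2 := Subgroup.equivMapOfInjective (P : Subgroup ↥(twistedG2 K (3 ^ m))) _ hg
      have hcyc' : IsCyclic
          ↥((P : Subgroup ↥(twistedG2 K (3 ^ m))).map (e1.toMonoidHom.comp f)) :=
        hGL K p hp (by rw [hK]; exact hc) _ (P.isPGroup'.map _)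
      exact e2.isCyclic.mpr hcyc'
  · -- `p ∤ |G|`: the Sylow subgroup is trivial
    have h1' : Nat.card ↥(P : Subgroup ↥(twistedG2 K (3 ^ m))) = 1 := by
      rw [Sylow.card_eq_multiplicity, Nat.factorization_eq_zero_of_not_dvd hdiv, pow_zero]
    have hsub : Subsingleton ↥(P : Subgroup ↥(twistedG2 K (3 ^ m))) :=
      (Nat.card_eq_one_iff_unique.mp h1').1
    exact isCyclic_of_subsingleton

end ree

end Cfsg.Agent.H7.RC
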