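import Cfsg.Agent.H45.R2Defs
import Cfsg.Agent.H7.RCDefs1
/-!
Team project S1156 (helper7): the piece on the image of `ψ : SL₂(K) → ²G₂(K)` (helper45's
`H45.R2Defs`), on top of helper22's Ree library.
-/
set_option autoImplicit false
open Cfsg Cfsg.Lie

namespace Cfsg.Agent.H7.RC

open Cfsg.Agent.H22 Cfsg.Agent.H22.GEx Cfsg.Agent.H22.Ree Cfsg.Agent.H45.R2 Matrix

/-- (PSIIMG) a cyclic `p`-subgroup of `SL₂(K)`, `p` odd, has an isomorphic copy in `²G₂(K)` -/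
def StPsiImg {K : Type*} [Field K] [CharP K 3] {e : ℕ} (_C : Ctx K e) : Prop :=
  ∀ p : ℕ, p.Prime → p ≠ 2 → ∀ P₀ : Subgroup (SpecialLinearGroup (Fin 2) K),
    IsPGroup p P₀ → IsCyclic P₀ →
    ∃ Q : Subgroup ↥(twistedG2 K e), IsCyclic Q ∧ Nat.card Q = Nat.card P₀

end Cfsg.Agent.H7.RC
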