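import Cfsg.Agent.H7.RTDefs
/-!
Team project S2359 (helper7): the assembly. Every piece enters as a hypothesis (a `Prop` of
`RTDefs0` / `RTDefs`).
-/
set_option autoImplicit false
open Cfsg Cfsg.Lie

namespace Cfsg.Agent.H7.RT

open Cfsg.Agent.H22 Cfsg.Agent.H22.GEx Cfsg.Agent.H22.Ree Cfsg.Agent.H45.R2 Matrix

universe u

/-- (ABSB) from the normal complement and its containment in `D` -/
theorem absB (hnc : StAbsNC.{u}) (hk : StAbsK.{u}) : StAbsB.{u} := by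
  intro G _ _ x a D V hDx hDab ha1 ha2 haV hVD hV4 hV2 hDa hab h2 h3 hcyc y hy
  obtain ⟨K, hKx, hKn, hKodd, hKV⟩ :=
    hnc G x a D V hDx hDab ha1 ha2 haV hVD hV4 hV2 hDa hab h2 h3
  have hKD := hk G x a D V K hDx hDab ha1 ha2 haV hVD hV4 hV2 hDa hab h3 hcyc hKx hKn hKodd hKV
  obtain ⟨k, hk', v, hv, rfl⟩ := hKV y hy
  exact mul_mem (hKD hk') (hVD hv)

variable {K : Type u} [Field K] [Fintype K] [CharP K 3] {m : ℕ}

/-- (DSTRUCT) from its four parts -/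
theorem dStruct (C : Ctx K (3 ^ m)) (hc : CommStmt (K := K)) (hmem : MemStmt C)
    (hdab : StDAb C hc hmem) (hdcard : StDCard C hc hmem) (hdv : StDV C hc hmem)
    (hno4 : StNo4.{u}) : StDStruct C hc hmem := by
  intro t ht1 hodd hdvd
  obtain ⟨hab, hcen⟩ := hdab t ht1 hodd hdvd
  have hcard := hdcard t ht1 hodd hdvd
  obtain ⟨V, hVD, hV4, hV2, haV⟩ := hdv t ht1 hodd hdvd
  refine ⟨hab, hcard, ?_, hcen, V, hVD, hV4, hV2, haV⟩
  apply hno4 _ (DSub C hc hmem t) V hab _ hVD hV4 hV2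
  rw [hcard]
  have := q_mod8 m
  omega

theorem neg_one_not_odd (t : SpecialLinearGroup (Fin 2) K) (ht1 : t ≠ 1)
    (hodd : Odd (orderOf t)) : t ≠ -1 := by
  intro h
  subst h
  have h2 : orderOf (-1 : SpecialLinearGroup (Fin 2) K) ∣ 2 :=
    orderOf_dvd_of_pow_eq_one (by rw [pow_two, neg_mul_neg, one_mul])
  have h1 : orderOf (-1 : SpecialLinearGroup (Fin 2) K) = 1 := by
    rcases (Nat.dvd_prime Nat.prime_two).mp h2 with h | h
    · exact h
    · rw [h] at hodd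
      exact absurd hodd (by decide)
  exact ht1 (orderOf_eq_one_iff.mp h1)

/-- (COREB') `C_G(ψ(t)) = D_t` -/
theorem coreB' (C : Ctx K (3 ^ m)) (hc : CommStmt (K := K)) (hmem : MemStmt C) (hk : KerStmt C)
    (habs : StAbsB.{u}) (htb : StTwoBound.{u})
    (h1152 : ∀ S : Sylow 2 ↥(twistedG2 K (3 ^ m)), Nat.card S = 8 ∧ ∀ x ∈ S, x * x = 1)
    (h1157 : ∀ S : Sylow 2 ↥(twistedG2 K (3 ^ m)),
      Subgroup.centralizer ((S : Subgroup ↥(twistedG2 K (3 ^ m))) : Set ↥(twistedG2 K (3 ^ m))) =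
        S)
    (h1156 : ∀ (p : ℕ) [Fact p.Prime], 3 < p → ∀ P : Sylow p ↥(twistedG2 K (3 ^ m)),
      IsCyclic ↥(P : Subgroup ↥(twistedG2 K (3 ^ m))))
    (hds : StDStruct C hc hmem) (hdc : StDCent C hc hmem) (hh3 : StH3 C hc hmem)
    (hno3 : StNoThree K m) : StCoreB' C hc hmem := by
  intro t ht1 hodd hdvd y hy
  obtain ⟨hab, hcard, hno4, hcen, V, hVD, hV4, hV2, haV⟩ := hds t ht1 hodd hdvd
  have hx1 : psiG C hc hmem t ≠ 1 := by
    intro h
    rcases psiG_eq_one C hc hmem hk t h with h | h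
    · exact ht1 h
    · exact neg_one_not_odd t ht1 hodd h
  have hxo : orderOf (psiG C hc hmem t) ∣ orderOf t := orderOf_map_dvd _ t
  have hxodd : Odd (orderOf (psiG C hc hmem t)) := Odd.of_dvd_nat hodd hxo
  have hxdvd : orderOf (psiG C hc hmem t) ∣ 3 ^ (2 * m + 1) + 1 := dvd_trans hxo hdvd
  refine habs ↥(twistedG2 K (3 ^ m)) (psiG C hc hmem t) (aEl C) (DSub C hc hmem t) V hcen hab
    (aEl_ne_one C) (aEl_mul_self C) haV hVD hV4 hV2 ?_ ?_ ?_ ?_ ?_ y hy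
  · intro y hyx hya
    exact hdc t ht1 hodd y hyx hya
  · intro v hv hv1 y₁ y₂ h1x h1v h2x h2v
    exact hh3 t ht1 hodd hdvd v hv1 (hV2 v hv) (hcen v (hVD hv)) y₁ y₂ h1x h1v h2x h2v
  · intro T hT hT2
    exact htb ↥(twistedG2 K (3 ^ m)) (fun S => (h1152 S).1) h1157 (psiG C hc hmem t) hx1 hxodd T
      hT hT2
  · intro y hy
    exact hno3 (psiG C hc hmem t) y hx1 hxodd hxdvd hy
  · intro r _ hr R _ hRp
    obtain ⟨P, hP⟩ := hRp.exists_le_sylow
    have := h1156 r hr P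
    exact Subgroup.isCyclic_of_le hP

/-- the statement of S2359, from the two core statements -/
theorem main (hm : 1 ≤ m) (hcoreA : StCoreA K m) (hcoreB : StCoreB K m) (hfin : StFinal.{u})
    (H : Subgroup ↥(twistedG2 K (3 ^ m))) (hH : IsCyclic H) :
    (Nat.card H = (3 ^ (2 * m + 1) - 1) / 2 →
      IsCyclic ↥(Subgroup.centralizer (H : Set ↥(twistedG2 K (3 ^ m)))) ∧
        Nat.card ↥(Subgroup.centralizer (H : Set ↥(twistedG2 K (3 ^ m)))) = 3 ^ (2 * m + 1) - 1 ∧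
        ∀ A : Subgroup ↥(twistedG2 K (3 ^ m)), A ≤ H → A ≠ ⊥ →
          Subgroup.centralizer (A : Set ↥(twistedG2 K (3 ^ m))) =
            Subgroup.centralizer (H : Set ↥(twistedG2 K (3 ^ m)))) ∧
    (Nat.card H = (3 ^ (2 * m + 1) + 1) / 4 →
      IsMulCommutative ↥(Subgroup.centralizer (H : Set ↥(twistedG2 K (3 ^ m)))) ∧
        Nat.card ↥(Subgroup.centralizer (H : Set ↥(twistedG2 K (3 ^ m)))) = 3 ^ (2 * m + 1) + 1 ∧
        (∀ x ∈ Subgroup.centralizer (H : Set ↥(twistedG2 K (3 ^ m))), orderOf x ≠ 4) ∧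
        ∀ A : Subgroup ↥(twistedG2 K (3 ^ m)), A ≤ H → A ≠ ⊥ →
          Subgroup.centralizer (A : Set ↥(twistedG2 K (3 ^ m))) =
            Subgroup.centralizer (H : Set ↥(twistedG2 K (3 ^ m)))) := by
  have hq : 27 ≤ 3 ^ (2 * m + 1) := by
    calc 27 = 3 ^ 3 := by norm_num
      _ ≤ 3 ^ (2 * m + 1) := Nat.pow_le_pow_right (by norm_num) (by omega)
  have hne : ∀ n : ℕ, 1 < n → Nat.card H = n → ∃ y ∈ H, y ≠ 1 := by
    intro n hn hcard
    have : Nontrivial H := by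
      rw [← Finite.one_lt_card_iff_nontrivial, hcard]
      exact hn
    obtain ⟨y, hy⟩ := exists_ne (1 : H)
    exact ⟨y.1, y.2, fun h => hy (Subtype.ext h)⟩
  constructor
  · intro hcard
    have hf := hfin ↥(twistedG2 K (3 ^ m)) _ H hH hcard (fun y hy1 hyn z₁ hz₁ z₂ hz₂ => by
      have hcy := (hcoreA y hy1 hyn).1
      have e := (IsCyclic.commGroup (α := ↥(Subgroup.centralizer
        ({y} : Set ↥(twistedG2 K (3 ^ m)))))).mul_comm ⟨z₁, hz₁⟩ ⟨z₂, hz₂⟩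
      exact congrArg Subtype.val e)
    obtain ⟨y, hyH, hy1⟩ := hne _ (by omega) hcard
    have hyn : orderOf y ∣ (3 ^ (2 * m + 1) - 1) / 2 := by
      rw [← hcard]
      exact Subgroup.orderOf_dvd_natCard H hyH
    have heq := hf.1 y hyH hy1
    obtain ⟨h1, h2⟩ := hcoreA y hy1 hyn
    rw [heq]
    exact ⟨h1, h2, fun A hA hAb => by rw [hf.2 A hA hAb, heq]⟩
  · intro hcard
    have hf := hfin ↥(twistedG2 K (3 ^ m)) _ H hH hcard (fun y hy1 hyn z₁ hz₁ z₂ hz₂ =>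
      (hcoreB y hy1 hyn).1 z₁ hz₁ z₂ hz₂)
    obtain ⟨y, hyH, hy1⟩ := hne _ (by omega) hcard
    have hyn : orderOf y ∣ (3 ^ (2 * m + 1) + 1) / 4 := by
      rw [← hcard]
      exact Subgroup.orderOf_dvd_natCard H hyH
    have heq := hf.1 y hyH hy1
    obtain ⟨h1, h2, h3⟩ := hcoreB y hy1 hyn
    rw [heq]
    exact ⟨⟨⟨fun a b => Subtype.ext (h1 a.1 a.2 b.1 b.2)⟩⟩, h2, h3,
      fun A hA hAb => by rw [hf.2 A hA hAb, heq]⟩

end Cfsg.Agent.H7.RT
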