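import Cfsg.Agent.H7.RTDefs
/-!
Team project S2359 (helper7), piece CENTH: the centralizer in `²G₂` of an element `h ∈ H¹` with
`h² ≠ 1` lies in `H`.
-/
set_option autoImplicit false
open Cfsg Cfsg.Lie

namespace Cfsg.Agent.H7.RT

open Cfsg.Agent.H22 Cfsg.Agent.H22.GEx Cfsg.Agent.H22.Ree Cfsg.Agent.H45.R2 Matrix

universe u

variable {K : Type u} [Field K] [Fintype K] [CharP K 3] {m : ℕ}

theorem centH (C : Ctx K (3 ^ m)) (hK : Fintype.card K = 3 ^ (2 * m + 1)) (hcan : CanonG2 K)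
    (hW : WeylG2 K) (hn : StNInv C) : StCentH C := by
  intro h hh hh2 y hy hyh
  have hH : h ∈ chevG2.diagonalSubgroup K := hh.1
  have Hcomm : ∀ a b : GL chevG2.Idx K, a ∈ chevG2.diagonalSubgroup K →
      b ∈ chevG2.diagonalSubgroup K → a * b = b * a := by
    intro a b ha hb
    obtain ⟨s₁, s₂, h1, h2, rfl⟩ := C.exists_hh a ha
    obtain ⟨t₁, t₂, h3, h4, rfl⟩ := C.exists_hh b hb
    apply Units.ext
    rw [Units.val_mul, Units.val_mul, C.hh_val _ _ h1 h2, C.hh_val _ _ h3 h4, dg_mul, dg_mul,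
      mul_comm s₁, mul_comm s₂]
  rcases C.mem_decomp hK hcan hW y hy with hb | ⟨b, hb, u, hu, rfl⟩
  · obtain ⟨u₁, hu₁, h₁, hh₁, rfl⟩ := C.exists_mul_of_mem_B y hb.1
    have hU : h⁻¹ * u₁ * h ∈ chevG2.posUnipotent K := by
      have := C.H_conj_U h⁻¹ u₁ (inv_mem hH) hu₁
      rwa [inv_inv] at this
    have e0 : h⁻¹ * u₁ * h * (h⁻¹ * h₁ * h) = u₁ * h₁ := by
      calc h⁻¹ * u₁ * h * (h⁻¹ * h₁ * h) = h⁻¹ * (u₁ * h₁ * h) := by group
        _ = h⁻¹ * (h * (u₁ * h₁)) := by rw [hyh]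
        _ = u₁ * h₁ := by group
    have e : u₁⁻¹ * (h⁻¹ * u₁ * h) = h₁ * (h⁻¹ * h₁ * h)⁻¹ := by
      rw [eq_mul_inv_iff_mul_eq, mul_assoc, e0]
      group
    have h1 : u₁⁻¹ * (h⁻¹ * u₁ * h) = 1 :=
      C.U_inf_H hcan _ (mul_mem (inv_mem hu₁) hU)
        (by rw [e]; exact mul_mem hh₁ (inv_mem (mul_mem (mul_mem (inv_mem hH) hh₁) hH)))
    have h2 : h * u₁ = u₁ * h := by
      have h3 : u₁ = h⁻¹ * u₁ * h := inv_mul_eq_one.mp h1
      calc h * u₁ = h * (h⁻¹ * u₁ * h) := by rw [← h3]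
        _ = u₁ * h := by group
    have hu1 : u₁ = 1 := C.centralizer_trivial h u₁ hh hh2 hu₁ h2
    rw [hu1, one_mul]
    exact hh₁
  · exfalso
    have key : h * (C.n0 : GL chevG2.Idx K) * h = (C.n0 : GL chevG2.Idx K) := by
      have h3 := hn h hh
      rw [mul_inv_eq_iff_eq_mul] at h3
      rw [mul_assoc, h3]
      group
    have heq : b * (C.n0 : GL chevG2.Idx K) * u =
        (h * b * h) * (C.n0 : GL chevG2.Idx K) * (h * u * h⁻¹) := by
      calc b * (C.n0 : GL chevG2.Idx K) * u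
          = h * (b * (C.n0 : GL chevG2.Idx K) * u) * h⁻¹ := by rw [← hyh]; group
        _ = h * b * (C.n0 : GL chevG2.Idx K) * u * h⁻¹ := by group
        _ = h * b * (h * (C.n0 : GL chevG2.Idx K) * h) * u * h⁻¹ := by rw [key]
        _ = (h * b * h) * (C.n0 : GL chevG2.Idx K) * (h * u * h⁻¹) := by group
    have huUm : u ∈ Um K (C.n0 : GL chevG2.Idx K) := by rw [C.Um_n0]; exact hu.1
    have huUm' : h * u * h⁻¹ ∈ Um K (C.n0 : GL chevG2.Idx K) := by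
      rw [C.Um_n0]; exact C.H_conj_U h u hH hu.1
    have hb_eq := ((hcan.2 b (h * b * h) C.n0 C.n0 u (h * u * h⁻¹) hb.1
      (mul_mem (mul_mem (H_le_B hH) hb.1) (H_le_B hH)) C.n0_mem_N C.n0_mem_N huUm huUm' heq).2
      rfl).1
    obtain ⟨u₁, hu₁, h₁, hh₁, rfl⟩ := C.exists_mul_of_mem_B b hb.1
    have hU : h * u₁ * h⁻¹ ∈ chevG2.posUnipotent K := C.H_conj_U h u₁ hH hu₁
    have e0 : h * u₁ * h⁻¹ * (h * h₁ * h) = u₁ * h₁ := by
      rw [hb_eq]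
      group
    have e : (h * u₁ * h⁻¹)⁻¹ * u₁ = h * h₁ * h * h₁⁻¹ := by
      rw [eq_mul_inv_iff_mul_eq, mul_assoc, ← e0]
      group
    have h1 : (h * u₁ * h⁻¹)⁻¹ * u₁ = 1 :=
      C.U_inf_H hcan _ (mul_mem (inv_mem hU) hu₁)
        (by rw [e]; exact mul_mem (mul_mem (mul_mem hH hh₁) hH) (inv_mem hh₁))
    rw [e] at h1
    apply hh2
    have h4 : h * h₁ * h = h₁ := mul_inv_eq_one.mp h1
    rw [Hcomm h h₁ hH hh₁, mul_assoc] at h4
    exact mul_left_cancel (a := h₁) (by rw [h4, mul_one])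

example (C : Ctx K (3 ^ m)) (hK : Fintype.card K = 3 ^ (2 * m + 1)) (hcan : CanonG2 K)
    (hW : WeylG2 K) (hn : StNInv C) : StCentH C := centH C hK hcan hW hn

end Cfsg.Agent.H7.RT
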