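import Cfsg.Agent.H7.RTDefs
/-!
Team project S2359 (helper7), pieces DCENT and LIFT: elements of `C_G(a)` are `ψ(s)` or `a ψ(s)`.
-/
set_option autoImplicit false
open Cfsg Cfsg.Lie

namespace Cfsg.Agent.H7.RT

open Cfsg.Agent.H22 Cfsg.Agent.H22.GEx Cfsg.Agent.H22.Ree Cfsg.Agent.H45.R2 Matrix

universe u

variable {K : Type u} [Field K] [CharP K 3]

theorem sl_neg_one_ne_one : (-1 : SpecialLinearGroup (Fin 2) K) ≠ 1 := by
  intro h
  have h00 := congrArg (fun g : SpecialLinearGroup (Fin 2) K => g.1 0 0) h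
  simp at h00
  have h3 : (3 : K) = 0 := by
    have := CharP.cast_eq_zero K 3
    exact_mod_cast this
  have h2 : (2 : K) = 0 := by linear_combination (-1 : K) * h00
  have : (1 : K) = 0 := by linear_combination h3 - h2
  exact one_ne_zero this

/-- elements of `C_G(a)` -/
theorem cent_form {e : ℕ} (C : Ctx K e) (hc : CommStmt (K := K)) (hmem : MemStmt C)
    (hcent : CentStmt C) (y : ↥(twistedG2 K e)) (hya : y * aEl C = aEl C * y) :
    ∃ s : SpecialLinearGroup (Fin 2) K,
      y = psiG C hc hmem s ∨ y = aEl C * psiG C hc hmem s := by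
  obtain ⟨s, hs⟩ := hcent (y : GL chevG2.Idx K) y.2 (congrArg Subtype.val hya)
  refine ⟨s, ?_⟩
  rcases hs with h | h
  · left; exact Subtype.ext h
  · right; exact Subtype.ext h

theorem dCent {e : ℕ} (C : Ctx K e) (hc : CommStmt (K := K)) (hmem : MemStmt C)
    (hac : ACommStmt C) (hk : KerStmt C) (hcent : CentStmt C) (hdm : StDMem C hc hmem) :
    StDCent C hc hmem := by
  intro t ht1 hodd y hyt hya
  obtain ⟨s, hs'⟩ := cent_form C hc hmem hcent y hya
  have hcomm : psiG C hc hmem s * psiG C hc hmem t = psiG C hc hmem t * psiG C hc hmem s := by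
    rcases hs' with rfl | rfl
    · exact hyt
    · have h := hyt
      rw [mul_assoc, ← mul_assoc (psiG C hc hmem t), ← aEl_comm C hc hmem hac t, mul_assoc] at h
      exact mul_left_cancel h
  have h1 : psiG C hc hmem (s * t * s⁻¹ * t⁻¹) = 1 := by
    rw [map_mul, map_mul, map_mul, map_inv, map_inv, hcomm]
    group
  rcases psiG_eq_one C hc hmem hk _ h1 with h | h
  · have hst : t * s = s * t := by
      have h' := congrArg (fun z => z * t * s) h
      simp only [one_mul] at h'
      rw [← h']
      group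
    exact (hdm t y).mpr ⟨s, Subgroup.mem_centralizer_singleton_iff.mpr hst.symm, hs'⟩
  · exfalso
    have hconj : s * t * s⁻¹ = -t := by
      have h' := congrArg (fun z => z * t) h
      simp only [neg_mul, one_mul] at h'
      rw [← h']
      group
    have hpow : (s * t * s⁻¹) ^ orderOf t = 1 := by
      rw [conj_pow, pow_orderOf_eq_one, mul_one, mul_inv_cancel]
    rw [hconj, neg_pow, hodd.neg_one_pow, pow_orderOf_eq_one, mul_one] at hpow
    exact sl_neg_one_ne_one hpow

theorem lift {e : ℕ} (C : Ctx K e) (hc : CommStmt (K := K)) (hmem : MemStmt C)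
    (hac : ACommStmt C) (hk : KerStmt C) (hcent : CentStmt C) : StLift C hc hmem := by
  intro x hx1 hodd hxa
  obtain ⟨s, hs'⟩ := cent_form C hc hmem hcent x hxa
  have hxn : x ^ orderOf x = 1 := pow_orderOf_eq_one x
  have key : ∀ s : SpecialLinearGroup (Fin 2) K, x = psiG C hc hmem s →
      ∃ t : SpecialLinearGroup (Fin 2) K, psiG C hc hmem t = x ∧ t ≠ 1 ∧
        orderOf t ∣ orderOf x := by
    intro s hs
    have h1 : psiG C hc hmem (s ^ orderOf x) = 1 := by rw [map_pow, ← hs, hxn]
    rcases psiG_eq_one C hc hmem hk _ h1 with h | h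
    · refine ⟨s, hs.symm, ?_, orderOf_dvd_of_pow_eq_one h⟩
      rintro rfl
      exact hx1 (by rw [hs, map_one])
    · refine ⟨-s, ?_, ?_, orderOf_dvd_of_pow_eq_one ?_⟩
      · rw [← neg_one_mul, map_mul, psiG_neg_one C hc hmem hk, one_mul, hs]
      · intro h'
        apply hx1
        rw [hs]
        have : s = -1 := by rw [← neg_neg s, h']
        rw [this, psiG_neg_one C hc hmem hk]
      · rw [neg_pow, hodd.neg_one_pow, h, neg_mul_neg, one_mul]
  rcases hs' with h | h
  · exact key s h
  · exfalso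
    -- x = a ψ(s): then a = ψ(s^n)⁻¹ lies in the image
    have hcomm := aEl_comm C hc hmem hac s
    have hpow' : ∀ n : ℕ, x ^ n = aEl C ^ n * psiG C hc hmem s ^ n := by
      intro n
      rw [h]
      exact (Commute.mul_pow hcomm n)
    have hpow := hpow' (orderOf x)
    have ha : aEl C ^ orderOf x = aEl C := by
      obtain ⟨k, hk'⟩ := hodd
      rw [hk', pow_succ, pow_mul, pow_two, aEl_mul_self, one_pow, one_mul]
    rw [hxn, ha, ← map_pow] at hpow
    apply psiG_ne_aEl C hc hmem hk ((s ^ orderOf x)⁻¹)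
    rw [map_inv]
    exact inv_eq_of_mul_eq_one_left hpow.symm

example {e : ℕ} (C : Ctx K e) (hc : CommStmt (K := K)) (hmem : MemStmt C)
    (hac : ACommStmt C) (hk : KerStmt C) (hcent : CentStmt C) (hdm : StDMem C hc hmem) :
    StDCent C hc hmem := dCent C hc hmem hac hk hcent hdm

example {e : ℕ} (C : Ctx K e) (hc : CommStmt (K := K)) (hmem : MemStmt C)
    (hac : ACommStmt C) (hk : KerStmt C) (hcent : CentStmt C) : StLift C hc hmem :=
  lift C hc hmem hac hk hcent

end Cfsg.Agent.H7.RT
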