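import Cfsg.Agent.H7.RTDefs
/-!
Team project S2359 (helper7), piece DMEM: the elements of `D_t = ψ(C(t)) ⊔ ⟨a⟩`.
-/
set_option autoImplicit false
open Cfsg Cfsg.Lie

namespace Cfsg.Agent.H7.RT

open Cfsg.Agent.H22 Cfsg.Agent.H22.GEx Cfsg.Agent.H22.Ree Cfsg.Agent.H45.R2 Matrix

universe u

variable {K : Type u} [Field K] [CharP K 3]

theorem dMem {e : ℕ} (C : Ctx K e) (hc : CommStmt (K := K)) (hmem : MemStmt C)
    (hac : ACommStmt C) : StDMem C hc hmem := by
  intro t y
  have hcomm : ∀ s, aEl C * psiG C hc hmem s = psiG C hc hmem s * aEl C :=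
    aEl_comm C hc hmem hac
  have haa := aEl_mul_self C
  let S : Subgroup ↥(twistedG2 K e) :=
    { carrier := {y | ∃ s ∈ Subgroup.centralizer ({t} : Set (SpecialLinearGroup (Fin 2) K)),
        y = psiG C hc hmem s ∨ y = aEl C * psiG C hc hmem s}
      one_mem' := ⟨1, one_mem _, Or.inl (map_one _).symm⟩
      mul_mem' := by
        rintro x y ⟨s, hs, hx⟩ ⟨s', hs', hy⟩
        refine ⟨s * s', mul_mem hs hs', ?_⟩
        rcases hx with rfl | rfl <;> rcases hy with rfl | rfl
        · left; rw [map_mul]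
        · right; rw [map_mul, ← mul_assoc, ← hcomm, mul_assoc]
        · right; rw [map_mul, mul_assoc]
        · left
          rw [map_mul]
          calc aEl C * psiG C hc hmem s * (aEl C * psiG C hc hmem s')
              = aEl C * (psiG C hc hmem s * aEl C) * psiG C hc hmem s' := by group
            _ = aEl C * (aEl C * psiG C hc hmem s) * psiG C hc hmem s' := by rw [hcomm]
            _ = (aEl C * aEl C) * psiG C hc hmem s * psiG C hc hmem s' := by group
            _ = _ := by rw [haa, one_mul]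
      inv_mem' := by
        rintro x ⟨s, hs, hx⟩
        refine ⟨s⁻¹, inv_mem hs, ?_⟩
        rcases hx with rfl | rfl
        · left; rw [map_inv]
        · right; rw [_root_.mul_inv_rev, aEl_inv, ← map_inv, hcomm] }
  constructor
  · intro hy
    have hle : DSub C hc hmem t ≤ S := by
      unfold DSub
      apply sup_le
      · rintro _ ⟨s, hs, rfl⟩
        exact ⟨s, hs, Or.inl rfl⟩
      · rw [Subgroup.zpowers_le]
        exact ⟨1, one_mem _, Or.inr (by rw [map_one, mul_one])⟩
    exact hle hy
  · rintro ⟨s, hs, rfl | rfl⟩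
    · exact (le_sup_left : _ ≤ DSub C hc hmem t) (Subgroup.mem_map_of_mem _ hs)
    · exact mul_mem ((le_sup_right : _ ≤ DSub C hc hmem t) (Subgroup.mem_zpowers _))
        ((le_sup_left : _ ≤ DSub C hc hmem t) (Subgroup.mem_map_of_mem _ hs))

example {e : ℕ} (C : Ctx K e) (hc : CommStmt (K := K)) (hmem : MemStmt C)
    (hac : ACommStmt C) : StDMem C hc hmem := dMem C hc hmem hac

end Cfsg.Agent.H7.RT
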