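import Cfsg.Agent.H7.RTDefs
/-!
Team project S2359 (helper7), piece NINV: `n₀` inverts `H¹`.
-/
set_option autoImplicit false
open Cfsg Cfsg.Lie

namespace Cfsg.Agent.H7.RT

open Cfsg.Agent.H22 Cfsg.Agent.H22.GEx Cfsg.Agent.H22.Ree Cfsg.Agent.H45.R2 Matrix

universe u

variable {K : Type u} [Field K] [CharP K 3]

omit [CharP K 3] in
theorem nM_dM (p : K) (hp : p ≠ 0) :
    (SL2.nM : SpecialLinearGroup (Fin 2) K) * dM K p hp * SL2.nM⁻¹ = (dM K p hp)⁻¹ := by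
  have h1 : (SL2.nM : SpecialLinearGroup (Fin 2) K) * dM K p hp =
      dM K p⁻¹ (inv_ne_zero hp) * SL2.nM := by
    apply SL2.sl_ext <;>
      rw [Matrix.SpecialLinearGroup.coe_mul, Matrix.SpecialLinearGroup.coe_mul] <;>
      simp [SL2.nM, dM, Matrix.mul_apply, Fin.sum_univ_two]
  have h2 : dM K p hp * dM K p⁻¹ (inv_ne_zero hp) = 1 := by
    apply SL2.sl_ext <;>
      rw [Matrix.SpecialLinearGroup.coe_mul] <;>
      simp [dM, Matrix.mul_apply, Fin.sum_univ_two, hp]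
  rw [h1, mul_assoc, mul_inv_cancel, mul_one]
  exact (inv_eq_of_mul_eq_one_right h2).symm

theorem n0_eq_psi {e : ℕ} (C : Ctx K e) (hc : CommStmt (K := K)) (hv : ValStmt C) :
    (C.n0 : GL chevG2.Idx K) = psiHom hc C.τ SL2.nM := by
  rw [psiHom_apply, nM_eq, psi_mul hc, psi_mul hc, hv.1, hv.2, _root_.neg_neg]
  show ((C.SP.R C.τ 0 1 0 * C.SN.R C.τ 0 1 0 * C.SP.R C.τ 0 1 0 : ↥(chevG2.group K)) :
    GL chevG2.Idx K) = _
  rw [Subgroup.coe_mul, Subgroup.coe_mul, mul_assoc]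

theorem nInv {e : ℕ} (C : Ctx K e) (hc : CommStmt (K := K)) (hv : ValStmt C) (ht : TorStmt C)
    (hac : ACommStmt C) (hh : HFormStmt C) : StNInv C := by
  intro h hmemh
  have hn0 := n0_eq_psi C hc hv
  obtain ⟨a, ha⟩ : ∃ a : GL chevG2.Idx K, a = (C.hh (-1) (-1) : GL chevG2.Idx K) := ⟨_, rfl⟩
  have haa : a * a = 1 := by
    rw [ha]
    exact congrArg Subtype.val (aEl_mul_self C)
  have hainv : a⁻¹ = a := inv_eq_of_mul_eq_one_left haa
  have hacomm : ∀ s : SpecialLinearGroup (Fin 2) K,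
      a * psiHom hc C.τ s = psiHom hc C.τ s * a := by
    intro s
    rw [ha, psiHom_apply]
    exact hac s
  obtain ⟨p, hp, hcase⟩ := hh h hmemh
  rw [← ht p hp, ← psiHom_apply hc, ← ha] at hcase
  have hconj : psiHom hc C.τ SL2.nM * psiHom hc C.τ (dM K p hp) * (psiHom hc C.τ SL2.nM)⁻¹ =
      (psiHom hc C.τ (dM K p hp))⁻¹ := by
    rw [← map_inv, ← map_mul, ← map_mul, nM_dM, map_inv]
  rw [hn0]
  rcases hcase with rfl | rfl
  · exact hconj
  · rw [_root_.mul_inv_rev, hainv, ← hconj]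
    have h1 := hacomm SL2.nM
    have h2 := hacomm (dM K p hp)
    have h3 : a * (psiHom hc C.τ SL2.nM)⁻¹ = (psiHom hc C.τ SL2.nM)⁻¹ * a := by
      rw [← map_inv]
      exact hacomm _
    calc psiHom hc C.τ SL2.nM * (a * psiHom hc C.τ (dM K p hp)) * (psiHom hc C.τ SL2.nM)⁻¹
        = (psiHom hc C.τ SL2.nM * a) * psiHom hc C.τ (dM K p hp) *
            (psiHom hc C.τ SL2.nM)⁻¹ := by group
      _ = (a * psiHom hc C.τ SL2.nM) * psiHom hc C.τ (dM K p hp) *
            (psiHom hc C.τ SL2.nM)⁻¹ := by rw [h1]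
      _ = a * (psiHom hc C.τ SL2.nM * psiHom hc C.τ (dM K p hp) *
            (psiHom hc C.τ SL2.nM)⁻¹) := by group
      _ = psiHom hc C.τ SL2.nM * psiHom hc C.τ (dM K p hp) *
            (psiHom hc C.τ SL2.nM)⁻¹ * a := by
          rw [hconj, ← map_inv]
          exact hacomm _

example {e : ℕ} (C : Ctx K e) (hc : CommStmt (K := K)) (hv : ValStmt C) (ht : TorStmt C)
    (hac : ACommStmt C) (hh : HFormStmt C) : StNInv C := nInv C hc hv ht hac hh

end Cfsg.Agent.H7.RT
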