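import Cfsg.Agent.H7.RTAsm
import Cfsg.Agent.H7.RTDMem
import Cfsg.Agent.H7.RTDCent
import Cfsg.Agent.H7.RTCentH
import Cfsg.Agent.H7.RTNInv
import Cfsg.Agent.H7.R2Ker
import Cfsg.Agent.H37.RTBurn
import Cfsg.Agent.H37.RTConjInto
import Cfsg.Agent.H37.RTTwoBound
import Cfsg.Agent.H72.RTAbsK
import Cfsg.Agent.H72.RTAbsNC
import Cfsg.Agent.H72.RTFinal
import Cfsg.Agent.H72.RTNo4
import Cfsg.Agent.H80.RTFourCyc
import Cfsg.Agent.H80.RTInvSyl
import Cfsg.Agent.H80.RTNormCent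
import Cfsg.Agent.H80.RTInvConj
import Cfsg.Agent.H19.RCNTA
import Cfsg.Agent.H45.R2Comm
import Cfsg.Agent.H45.R2Val
import Cfsg.Agent.H45.R2Cent
import Cfsg.Agent.H15.R2Mem
import Cfsg.Agent.H15.R2ACom
import Cfsg.Agent.H40.R2Form
import Cfsg.Agent.H40.R2HForm
import Cfsg.Agent.H19.R2UFix
import Cfsg.Agent.H19.R2ConjR
/-!
Team project S2359 (helper7): all pieces plugged in.
-/
set_option autoImplicit false
open Cfsg Cfsg.Lie

namespace Cfsg.Agent.H7.RT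

open Cfsg.Agent.H22 Cfsg.Agent.H22.GEx Cfsg.Agent.H22.Ree Cfsg.Agent.H45.R2 Cfsg.Agent.H7.RC Matrix

universe u

theorem s2359_of {K : Type u} [Field K] [Fintype K] [CharP K 3] {m : ℕ} (C : Ctx K (3 ^ m))
    (hK : Fintype.card K = 3 ^ (2 * m + 1)) (hm : 1 ≤ m) (hcan : CanonG2 K) (hW : WeylG2 K)
    (h1152 : ∀ S : Sylow 2 ↥(twistedG2 K (3 ^ m)), Nat.card S = 8 ∧ ∀ x ∈ S, x * x = 1)
    (h1157 : ∀ S : Sylow 2 ↥(twistedG2 K (3 ^ m)),
      Subgroup.centralizer ((S : Subgroup ↥(twistedG2 K (3 ^ m))) : Set ↥(twistedG2 K (3 ^ m))) =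
        S ∧ Nat.card ↥(Subgroup.normalizer
          ((S : Subgroup ↥(twistedG2 K (3 ^ m))) : Set ↥(twistedG2 K (3 ^ m)))) = 168)
    (h1156 : ∀ (p : ℕ) [Fact p.Prime], 3 < p → ∀ P : Sylow p ↥(twistedG2 K (3 ^ m)),
      IsCyclic ↥(P : Subgroup ↥(twistedG2 K (3 ^ m))))
    -- pending pieces
    (p_sl2Tor : StSL2Tor.{u}) (p_sl2I : StSL2Tor.{u} → StSL2I.{u})
    (p_conjH1 : StConjInto.{u} → StNTA → StConjH1 K m)
    (p_conjH : StCentH C → StConjH1 K m → StConjH K m)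
    (p_coreA : StCentH C → StConjH K m → StCoreA K m)
    (p_dAb : ∀ (hc : CommStmt (K := K)) (hmem : MemStmt C), ACommStmt C → StDMem C hc hmem →
      StSL2Tor.{u} → StDAb C hc hmem)
    (p_dCard : ∀ (hc : CommStmt (K := K)) (hmem : MemStmt C), ACommStmt C → KerStmt C →
      StDMem C hc hmem → StSL2Tor.{u} → StDCard C hc hmem)
    (p_dV : ∀ (hc : CommStmt (K := K)) (hmem : MemStmt C), ACommStmt C → KerStmt C →
      StDMem C hc hmem → StSL2I.{u} → StDV C hc hmem)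
    (p_noThree : StNoThree K m)
    (p_h3 : ∀ (hc : CommStmt (K := K)) (hmem : MemStmt C),
      (∀ u v : ↥(twistedG2 K (3 ^ m)), u ≠ 1 → u * u = 1 → v ≠ 1 → v * v = 1 →
        ∃ g, g * u * g⁻¹ = v) → StLift C hc hmem → StDAb C hc hmem → StDCent C hc hmem →
      StH3 C hc hmem)
    (p_conjPsi1 : ∀ (hc : CommStmt (K := K)) (hmem : MemStmt C), KerStmt C → StConjInto.{u} →
      StNTA → StConjPsi1 C hc hmem)
    (p_conjPsi : ∀ (hc : CommStmt (K := K)) (hmem : MemStmt C), ACommStmt C → StDMem C hc hmem →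
      StLift C hc hmem → StCoreB' C hc hmem → StConjPsi1 C hc hmem → StConjPsi C hc hmem)
    (p_coreB : ∀ (hc : CommStmt (K := K)) (hmem : MemStmt C), StConjPsi C hc hmem →
      StCoreB' C hc hmem → StDStruct C hc hmem → StCoreB K m)
    (H : Subgroup ↥(twistedG2 K (3 ^ m))) (hH : IsCyclic H) :
    (Nat.card H = (3 ^ (2 * m + 1) - 1) / 2 →
      IsCyclic ↥(Subgroup.centralizer (H : Set ↥(twistedG2 K (3 ^ m)))) ∧
        Nat.card ↥(Subgroup.centralizer (H : Set ↥(twistedG2 K (3 ^ m)))) = 3 ^ (2 * m + 1) - 1 ∧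
        ∀ A : Subgroup ↥(twistedG2 K (3 ^ m)), A ≤ H → A ≠ ⊥ →
          Subgroup.centralizer (A : Set ↥(twistedG2 K (3 ^ m))) =
            Subgroup.centralizer (H : Set ↥(twistedG2 K (3 ^ m)))) ∧
    (Nat.card H = (3 ^ (2 * m + 1) + 1) / 4 →
      IsMulCommutative ↥(Subgroup.centralizer (H : Set ↥(twistedG2 K (3 ^ m)))) ∧
        Nat.card ↥(Subgroup.centralizer (H : Set ↥(twistedG2 K (3 ^ m)))) = 3 ^ (2 * m + 1) + 1 ∧
        (∀ x ∈ Subgroup.centralizer (H : Set ↥(twistedG2 K (3 ^ m))), orderOf x ≠ 4) ∧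
        ∀ A : Subgroup ↥(twistedG2 K (3 ^ m)), A ≤ H → A ≠ ⊥ →
          Subgroup.centralizer (A : Set ↥(twistedG2 K (3 ^ m))) =
            Subgroup.centralizer (H : Set ↥(twistedG2 K (3 ^ m)))) := by
  have hc := Cfsg.Agent.H45.R2.comm C
  have hv := Cfsg.Agent.H45.R2.val C
  have ht := Cfsg.Agent.H45.R2.tor C
  have hmem := Cfsg.Agent.H15.R2.mem C hc hv
  have hac := Cfsg.Agent.H15.R2.acomm C
  have hf := Cfsg.Agent.H40.R2.form C hc hv ht
  have hhf := Cfsg.Agent.H40.R2.hform C hK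
  have hk := Cfsg.Agent.H7.R2.ker C hcan hf
  have hufix := Cfsg.Agent.H19.R2.ufix C (Cfsg.Agent.H19.R2.conjR C)
  have hcent := Cfsg.Agent.H45.R2.cent C hK hcan hW hc hv ht hac hufix hhf
  -- generic pieces
  have hconj : StConjInto.{u} := Cfsg.Agent.H37.RT.conjInto
  have hinvc : StInvConj.{u} := Cfsg.Agent.H80.RT.invConj
  have htb : StTwoBound.{u} := Cfsg.Agent.H37.RT.twoBound
  have habs : StAbsB.{u} :=
    absB (Cfsg.Agent.H72.RT.absNC Cfsg.Agent.H80.RT.normCent Cfsg.Agent.H37.RT.burn)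
      (Cfsg.Agent.H72.RT.absK Cfsg.Agent.H80.RT.invSyl Cfsg.Agent.H80.RT.fourCyc)
  have hT : StSL2Tor.{u} := p_sl2Tor
  have hI : StSL2I.{u} := p_sl2I hT
  have hnta : StNTA := Cfsg.Agent.H19.RC.nta
  -- part A
  have hn : StNInv C := nInv C hc hv ht hac hhf
  have hcen : StCentH C := centH C hK hcan hW hn
  have hcj : StConjH K m := p_conjH hcen (p_conjH1 hconj hnta)
  have hA : StCoreA K m := p_coreA hcen hcj
  -- part B
  have hdm : StDMem C hc hmem := dMem C hc hmem hac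
  have hdab : StDAb C hc hmem := p_dAb hc hmem hac hdm hT
  have hds : StDStruct C hc hmem :=
    dStruct C hc hmem hdab (p_dCard hc hmem hac hk hdm hT) (p_dV hc hmem hac hk hdm hI)
      Cfsg.Agent.H72.RT.no4
  have hdc : StDCent C hc hmem := dCent C hc hmem hac hk hcent hdm
  have hl : StLift C hc hmem := lift C hc hmem hac hk hcent
  have hinv := hinvc ↥(twistedG2 K (3 ^ m)) h1152 h1157
  have hh3 : StH3 C hc hmem := p_h3 hc hmem hinv hl hdab hdc
  have hcore : StCoreB' C hc hmem :=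
    coreB' C hc hmem hk habs htb h1152 (fun S => (h1157 S).1) h1156 hds hdc hh3 p_noThree
  have hcp : StConjPsi C hc hmem :=
    p_conjPsi hc hmem hac hdm hl hcore (p_conjPsi1 hc hmem hk hconj hnta)
  have hB : StCoreB K m := p_coreB hc hmem hcp hcore hds
  exact main hm hA hB Cfsg.Agent.H72.RT.final H hH

end Cfsg.Agent.H7.RT
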