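import Mathlib
import Cfsg.Agent.H7.SL2

/-!
# Redundant Sylow subgroups: general lemmas (helper7)

A Sylow `p`-subgroup `Q` is *redundant* when every `p`-element lies in a Sylow `p`-subgroup
other than `Q`.
-/

set_option autoImplicit false

namespace Cfsg.Agent.H7

open scoped Pointwise

/-- Some Sylow `p`-subgroup is redundant. -/
def HasRedundantSylow (p : ℕ) (G : Type*) [Group G] : Prop :=
  ∃ Q : Sylow p G, ∀ x : G, (∃ k : ℕ, orderOf x = p ^ k) → ∃ P : Sylow p G, P ≠ Q ∧ x ∈ P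

section RedGeneral

variable {G : Type*} [Group G] {p : ℕ} [Fact p.Prime]

theorem mem_inv_smul_sylow (P : Sylow p G) (g x : G) :
    x ∈ (g⁻¹ • P : Sylow p G) ↔ g * x * g⁻¹ ∈ P := by
  change x ∈ MulAut.conj g⁻¹ • (P : Subgroup G) ↔ g * x * g⁻¹ ∈ (P : Subgroup G)
  rw [Subgroup.mem_pointwise_smul_iff_inv_smul_mem]
  simp [MulAut.smul_def]

/-- A `p`-element normalising a Sylow `p`-subgroup lies in it. -/
theorem mem_sylow_of_mem_normalizer (Q : Sylow p G) {g : G}
    (hg : g ∈ Subgroup.normalizer ((Q : Subgroup G) : Set G)) (hk : ∃ k : ℕ, g ^ p ^ k = 1) :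
    g ∈ Q := by
  have hp : p.Prime := Fact.out
  obtain ⟨k, hk⟩ := hk
  have h1 : IsPGroup p (Subgroup.zpowers g) := by
    obtain ⟨j, -, hj⟩ := (Nat.dvd_prime_pow hp).mp (orderOf_dvd_of_pow_eq_one hk)
    exact IsPGroup.of_card (n := j) (by rw [Nat.card_zpowers, hj])
  have h2 : Subgroup.zpowers g ≤ Subgroup.normalizer ((Q : Subgroup G) : Set G) := by
    rw [Subgroup.zpowers_le]; exact hg
  have h3 := IsPGroup.to_sup_of_normal_right' h1 Q.isPGroup' h2
  have h4 := Q.is_maximal' h3 le_sup_right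
  have h5 : g ∈ Subgroup.zpowers g ⊔ (Q : Subgroup G) :=
    (le_sup_left : Subgroup.zpowers g ≤ _) (Subgroup.mem_zpowers g)
  rw [h4] at h5
  exact h5

/-- If `Q` is the only Sylow `p`-subgroup containing `x` and `g x g⁻¹ ∈ Q`, then `g`
normalises `Q`. -/
theorem mem_normalizer_of_unique (Q : Sylow p G) {x g : G}
    (hu : ∀ P : Sylow p G, x ∈ P → P = Q) (hg : g * x * g⁻¹ ∈ Q) :
    g ∈ Subgroup.normalizer ((Q : Subgroup G) : Set G) := by
  have h1 : x ∈ (g⁻¹ • Q : Sylow p G) := (mem_inv_smul_sylow Q g x).mpr hg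
  have h2 := hu _ h1
  have h3 : g⁻¹ ∈ Subgroup.normalizer ((Q : Subgroup G) : Set G) :=
    Sylow.smul_eq_iff_mem_normalizer.mp h2
  simpa using inv_mem h3

variable [Finite G]

/-- If some `p`-element lies in a unique Sylow `p`-subgroup, no Sylow `p`-subgroup is
redundant. -/
theorem not_redundant_of_unique (x₀ : G) (Q₀ : Sylow p G) (hx₀ : ∃ k : ℕ, orderOf x₀ = p ^ k)
    (hu : ∀ P : Sylow p G, x₀ ∈ P → P = Q₀) : ¬ HasRedundantSylow p G := by
  rintro ⟨Q, hQ⟩
  obtain ⟨g, hg⟩ := MulAction.exists_smul_eq G Q₀ Q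
  have ho : orderOf (g * x₀ * g⁻¹) = orderOf x₀ := (MulAut.conj g).orderOf_eq x₀
  obtain ⟨P, hPQ, hxP⟩ := hQ (g * x₀ * g⁻¹) (by rw [ho]; exact hx₀)
  apply hPQ
  have h1 : x₀ ∈ (g⁻¹ • P : Sylow p G) := (mem_inv_smul_sylow P g x₀).mpr hxP
  have h2 := hu _ h1
  rw [← hg, ← h2, smul_smul, mul_inv_cancel, one_smul]

theorem not_redundant_of_not_dvd (h : ¬ p ∣ Nat.card G) : ¬ HasRedundantSylow p G := by
  rintro ⟨Q, hQ⟩
  obtain ⟨P, hPQ, -⟩ := hQ 1 ⟨0, by simp⟩
  apply hPQ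
  have hb : ∀ R : Sylow p G, (R : Subgroup G) = ⊥ := by
    intro R
    rw [← Subgroup.card_eq_one, R.card_eq_multiplicity, Nat.factorization_eq_zero_of_not_dvd h,
      pow_zero]
  exact Sylow.ext ((hb P).trans (hb Q).symm)

theorem not_redundant_of_isCyclic (Q₀ : Sylow p G) (hc : IsCyclic (Q₀ : Subgroup G)) :
    ¬ HasRedundantSylow p G := by
  obtain ⟨x, hx⟩ := hc.exists_generator
  apply not_redundant_of_unique (x : G) Q₀
  · refine ⟨(Nat.card G).factorization p, ?_⟩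
    rw [Subgroup.orderOf_coe, orderOf_eq_card_of_forall_mem_zpowers hx, Q₀.card_eq_multiplicity]
  · intro P hxP
    have hle : (Q₀ : Subgroup G) ≤ P := by
      intro y hy
      obtain ⟨n, hn⟩ := Subgroup.mem_zpowers_iff.mp (hx ⟨y, hy⟩)
      have e : y = (x : G) ^ n := by
        have := congrArg Subtype.val hn
        simpa using this.symm
      rw [e]
      exact zpow_mem hxP n
    exact Sylow.ext (Q₀.is_maximal' P.isPGroup' hle)

/-! ### Transfer along a central quotient of exponent two -/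

theorem mem_of_map_mem (N : Subgroup G) [N.Normal] (hc : N ≤ Subgroup.center G)
    (P : Sylow p G) (x : G) (hx : ∃ k : ℕ, orderOf x = p ^ k)
    (h : (QuotientGroup.mk' N) x ∈ (P : Subgroup G).map (QuotientGroup.mk' N)) : x ∈ P := by
  obtain ⟨y, hyP, hyx⟩ := h
  have hz : y⁻¹ * x ∈ N := QuotientGroup.eq.mp hyx
  have hxN : x ∈ Subgroup.normalizer ((P : Subgroup G) : Set G) := by
    have e : x = y * (y⁻¹ * x) := by group
    rw [e]
    exact mul_mem (Subgroup.le_normalizer hyP) (Subgroup.center_le_normalizer _ (hc hz))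
  obtain ⟨k, hk⟩ := hx
  exact mem_sylow_of_mem_normalizer P hxN ⟨k, by rw [← hk]; exact pow_orderOf_eq_one x⟩

theorem exists_lift_pelt (N : Subgroup G) [N.Normal] (hc : N ≤ Subgroup.center G)
    (h2 : ∀ z ∈ N, z * z = 1) (y : G ⧸ N) (hy : ∃ k : ℕ, orderOf y = p ^ k) :
    ∃ x : G, (QuotientGroup.mk' N) x = y ∧ ∃ k : ℕ, orderOf x = p ^ k := by
  have hp : p.Prime := Fact.out
  obtain ⟨x, rfl⟩ := QuotientGroup.mk'_surjective N y
  obtain ⟨k, hk⟩ := hy
  have hzN : x ^ p ^ k ∈ N := by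
    rw [← QuotientGroup.eq_one_iff]
    have : ((QuotientGroup.mk' N) x) ^ p ^ k = 1 := by rw [← hk]; exact pow_orderOf_eq_one _
    simpa using this
  have hz2 := h2 _ hzN
  by_cases hp2 : p = 2
  · refine ⟨x, rfl, ?_⟩
    have e : x ^ p ^ (k + 1) = 1 := by
      rw [pow_succ, pow_mul, hp2, pow_two]
      rw [hp2] at hz2
      exact hz2
    obtain ⟨j, -, hj⟩ := (Nat.dvd_prime_pow hp).mp (orderOf_dvd_of_pow_eq_one e)
    exact ⟨j, hj⟩
  · have hodd : Odd p := hp.odd_of_ne_two hp2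
    have hoddk : Odd (p ^ k) := hodd.pow
    obtain ⟨m, hm⟩ := hoddk
    have hz1 : (QuotientGroup.mk' N) (x ^ p ^ k) = 1 :=
      (QuotientGroup.eq_one_iff (N := N) (x ^ p ^ k)).mpr hzN
    refine ⟨x * x ^ p ^ k, ?_, ?_⟩
    · rw [map_mul, hz1, mul_one]
    · have hcomm : Commute x (x ^ p ^ k) := (Commute.refl x).pow_right _
      have e : (x * x ^ p ^ k) ^ p ^ k = 1 := by
        rw [hcomm.mul_pow]
        obtain ⟨z, hzdef⟩ : ∃ z, z = x ^ p ^ k := ⟨_, rfl⟩
        rw [← hzdef] at hz2 ⊢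
        have e2 : z ^ p ^ k = z := by
          rw [hm, pow_succ, pow_mul, pow_two, hz2, one_pow, one_mul]
        rw [e2, hz2]
      obtain ⟨j, -, hj⟩ := (Nat.dvd_prime_pow hp).mp (orderOf_dvd_of_pow_eq_one e)
      exact ⟨j, hj⟩

theorem redundant_quotient_iff (N : Subgroup G) [N.Normal] (hc : N ≤ Subgroup.center G)
    (h2 : ∀ z ∈ N, z * z = 1) :
    HasRedundantSylow p (G ⧸ N) ↔ HasRedundantSylow p G := by
  have hp : p.Prime := Fact.out
  have hsurj : Function.Surjective (QuotientGroup.mk' N) := QuotientGroup.mk'_surjective N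
  constructor
  · rintro ⟨Qb, hQb⟩
    obtain ⟨Q, rfl⟩ := Sylow.mapSurjective_surjective hsurj p Qb
    refine ⟨Q, fun x hx => ?_⟩
    have hx' : ∃ k : ℕ, orderOf ((QuotientGroup.mk' N) x) = p ^ k := by
      obtain ⟨k, hk⟩ := hx
      have hd : orderOf ((QuotientGroup.mk' N) x) ∣ p ^ k := by
        rw [← hk]; exact orderOf_map_dvd _ x
      obtain ⟨j, -, hj⟩ := (Nat.dvd_prime_pow hp).mp hd
      exact ⟨j, hj⟩
    obtain ⟨Pb, hPb, hxPb⟩ := hQb _ hx'
    obtain ⟨P, rfl⟩ := Sylow.mapSurjective_surjective hsurj p Pb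
    refine ⟨P, fun h => hPb (by rw [h]), ?_⟩
    apply mem_of_map_mem N hc P x hx
    rw [← Sylow.coe_mapSurjective hsurj P]
    exact hxPb
  · rintro ⟨Q, hQ⟩
    refine ⟨Q.mapSurjective hsurj, fun y hy => ?_⟩
    obtain ⟨x, rfl, hx⟩ := exists_lift_pelt N hc h2 y hy
    obtain ⟨P, hPQ, hxP⟩ := hQ x hx
    refine ⟨P.mapSurjective hsurj, fun h => hPQ ?_, ?_⟩
    · have hsub : ∀ A B : Sylow p G, A.mapSurjective hsurj = B.mapSurjective hsurj →
          (A : Subgroup G) ≤ B := by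
        intro A B hAB w hw
        apply mem_of_map_mem N hc B w
        · obtain ⟨k, hk⟩ := A.isPGroup' ⟨w, hw⟩
          have hk' : w ^ p ^ k = 1 := by
            have := congrArg Subtype.val hk
            simpa using this
          obtain ⟨j, -, hj⟩ := (Nat.dvd_prime_pow hp).mp (orderOf_dvd_of_pow_eq_one hk')
          exact ⟨j, hj⟩
        · rw [← Sylow.coe_mapSurjective hsurj B, ← hAB, Sylow.coe_mapSurjective hsurj A]
          exact Subgroup.mem_map_of_mem _ hw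
      exact Sylow.ext (le_antisymm (hsub P Q h) (hsub Q P h.symm))
    · change (QuotientGroup.mk' N) x ∈ ((P.mapSurjective hsurj : Sylow p (G ⧸ N)) : Subgroup (G ⧸ N))
      rw [Sylow.coe_mapSurjective hsurj P]
      exact Subgroup.mem_map_of_mem _ hxP

end RedGeneral

end Cfsg.Agent.H7
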