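import Mathlib
import Cfsg.Agent.H7.Redundant
import Cfsg.Agent.H18.DkTor
import Cfsg.Agent.H44.SL2Sylow

/-!
# Redundant Sylow subgroups of `SL₂(q)` (helper7)
-/

set_option autoImplicit false

namespace Cfsg.Agent.H7

open Matrix
open scoped MatrixGroups
open Cfsg.Agent.H65.SL2 (tr)

section RedSL2

variable {F : Type*} [Field F] [Fintype F]

/-- The defining-characteristic case: `[[1,1],[0,1]]` lies in a unique Sylow subgroup. -/
theorem sl2_not_redundant_char (p : ℕ) [Fact p.Prime] [CharP F p] :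
    ¬ HasRedundantSylow p SL(2, F) := by
  have hp : p.Prime := Fact.out
  apply not_redundant_of_unique (slUpper (1 : F)) (slUnipSylow F p)
  · have h : slUpper (1 : F) ^ p = 1 :=
      Cfsg.Agent.H65.SL2.pow_char_eq_one p _ (by
        unfold Cfsg.Agent.H65.SL2.tr
        simp [slUpper]
        norm_num)
    obtain ⟨j, -, hj⟩ := (Nat.dvd_prime_pow hp).mp
      (by simpa using orderOf_dvd_of_pow_eq_one h : orderOf (slUpper (1 : F)) ∣ p ^ 1)
    exact ⟨j, hj⟩
  · intro P hP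
    obtain ⟨g, hg⟩ := sl2_sylow_conj p P
    have h1 := (hg _).mp hP
    have hg10 : g.1 1 0 = 0 := by
      rw [mem_slUnip_iff] at h1
      have h10 := h1.2.1
      simp only [sl2_mul_apply, sl2_inv_10, sl2_inv_11] at h10
      simp [slUpper] at h10
      have : g.1 1 0 ^ 2 = 0 := by linear_combination -h10
      exact pow_eq_zero_iff (two_ne_zero) |>.mp this
    apply Sylow.ext
    ext x
    exact (hg x).trans (sl2_conj_mem_iff_of_borel g x hg10)

/-- Odd primes different from the characteristic: cyclic Sylow subgroups. -/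
theorem sl2_not_redundant_odd (p ℓ : ℕ) [Fact p.Prime] [Fact ℓ.Prime] [CharP F ℓ] (hpl : p ≠ ℓ)
    (hp2 : p ≠ 2) (hdvd : p ∣ Nat.card SL(2, F)) : ¬ HasRedundantSylow p SL(2, F) := by
  have hp : p.Prime := Fact.out
  have hl : ℓ.Prime := Fact.out
  obtain ⟨Q₀⟩ : Nonempty (Sylow p SL(2, F)) := inferInstance
  apply not_redundant_of_isCyclic Q₀
  have hne := Q₀.ne_bot_of_dvd_card hdvd
  have hnt : Nontrivial (Q₀ : Subgroup SL(2, F)) := (Subgroup.nontrivial_iff_ne_bot _).mpr hne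
  haveI := IsPGroup.center_nontrivial (Q₀.isPGroup')
  obtain ⟨z, hz⟩ := exists_ne (1 : Subgroup.center (Q₀ : Subgroup SL(2, F)))
  have hz1 : (z.1.1 : SL(2, F)) ≠ 1 := by
    intro h
    apply hz
    apply Subtype.ext
    apply Subtype.ext
    exact h
  have htr : tr (z.1.1 : SL(2, F)) ^ 2 ≠ 4 := by
    intro h4
    have e1 := Cfsg.Agent.H65.SL2.pow_two_mul_char_eq_one ℓ _ h4
    obtain ⟨k, hk⟩ := Q₀.isPGroup' z.1
    have e2 : (z.1.1 : SL(2, F)) ^ p ^ k = 1 := by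
      have := congrArg Subtype.val hk
      simpa using this
    have hd1 := orderOf_dvd_of_pow_eq_one e1
    have hd2 := orderOf_dvd_of_pow_eq_one e2
    have hcop : Nat.Coprime (2 * ℓ) (p ^ k) := by
      apply Nat.Coprime.pow_right
      apply Nat.Coprime.mul_left
      · exact (Nat.coprime_primes Nat.prime_two hp).mpr (Ne.symm hp2)
      · exact (Nat.coprime_primes hl hp).mpr (Ne.symm hpl)
    have : orderOf (z.1.1 : SL(2, F)) = 1 := Nat.eq_one_of_dvd_coprimes hcop hd1 hd2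
    exact hz1 (orderOf_eq_one_iff.mp this)
  haveI := Cfsg.Agent.H18.Dk.cen_isCyclic htr
  apply Subgroup.isCyclic_of_le (H' := Subgroup.centralizer {(z.1.1 : SL(2, F))})
  intro y hy
  rw [Subgroup.mem_centralizer_iff]
  intro w hw
  rw [Set.mem_singleton_iff] at hw
  rw [hw]
  have := Subgroup.mem_center_iff.mp z.2 ⟨y, hy⟩
  exact (congrArg Subtype.val this).symm

/-- A torus of `2`-power order whose normaliser is a Sylow `2`-subgroup. -/
theorem sl2_not_redundant_two_of_torus (hodd : Odd (Fintype.card F)) (x : SL(2, F))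
    (htr : tr x ^ 2 ≠ 4) (k m : ℕ)
    (hT : Nat.card (Subgroup.centralizer ({x} : Set SL(2, F))) = 2 ^ k)
    (hG : Nat.card SL(2, F) = 2 ^ (k + 1) * m) (hm : Odd m) :
    ¬ HasRedundantSylow 2 SL(2, F) := by
  have ht : (x.1 0 0 + x.1 1 1) ^ 2 ≠ 4 := htr
  haveI hcyc := Cfsg.Agent.H18.Dk.cen_isCyclic htr
  obtain ⟨c, hc⟩ := hcyc.exists_generator
  have hord : orderOf (c : SL(2, F)) = 2 ^ k := by
    rw [Subgroup.orderOf_coe, orderOf_eq_card_of_forall_mem_zpowers hc, hT]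
  have hNcard := Cfsg.Agent.H44.sl2_card_normalizer hodd ht
  have hsyl : ∀ P : Sylow 2 SL(2, F), Nat.card P = 2 ^ (k + 1) := by
    intro P
    rw [P.card_eq_multiplicity, hG]
    congr 1
    have hm0 : m ≠ 0 := by
      rintro rfl
      simp at hm
    have hnd : ¬ 2 ∣ m := fun h => (Nat.not_even_iff_odd.mpr hm) (even_iff_two_dvd.mpr h)
    rw [Nat.factorization_mul (pow_ne_zero _ two_ne_zero) hm0,
      Nat.Prime.factorization_pow Nat.prime_two]
    simp [Nat.factorization_eq_zero_of_not_dvd hnd]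
  have key : ∀ P : Sylow 2 SL(2, F), (c : SL(2, F)) ∈ P →
      (P : Subgroup SL(2, F)) =
        Subgroup.normalizer (Subgroup.centralizer ({x} : Set SL(2, F)) : Set SL(2, F)) := by
    intro P hcP
    have hTP : Subgroup.centralizer ({x} : Set SL(2, F)) ≤ P := by
      intro y hy
      obtain ⟨n, hn⟩ := Subgroup.mem_zpowers_iff.mp (hc ⟨y, hy⟩)
      have e : y = (c : SL(2, F)) ^ n := by
        have := congrArg Subtype.val hn
        simpa using this.symm
      rw [e]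
      exact zpow_mem hcP n
    have hidx : ((Subgroup.centralizer ({x} : Set SL(2, F))).subgroupOf
        (P : Subgroup SL(2, F))).index = 2 := by
      have h1 := Subgroup.card_mul_index ((Subgroup.centralizer ({x} : Set SL(2, F))).subgroupOf
        (P : Subgroup SL(2, F)))
      rw [Nat.card_congr (Subgroup.subgroupOfEquivOfLe hTP).toEquiv, hT, hsyl P, pow_succ] at h1
      exact Nat.eq_of_mul_eq_mul_left (pow_pos two_pos k) h1
    haveI := Subgroup.normal_of_index_eq_two hidx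
    have hPN := Subgroup.le_normalizer_of_normal_subgroupOf hTP
    apply Subgroup.eq_of_le_of_card_ge hPN
    rw [hNcard, hT, hsyl P, pow_succ, mul_comm]
  obtain ⟨Q₀, hQ₀⟩ := IsPGroup.exists_le_sylow (p := 2) (P := Subgroup.zpowers (c : SL(2, F)))
    (IsPGroup.of_card (n := k) (by rw [Nat.card_zpowers, hord]))
  have hcQ : (c : SL(2, F)) ∈ Q₀ := hQ₀ (Subgroup.mem_zpowers _)
  apply not_redundant_of_unique (c : SL(2, F)) Q₀ ⟨k, hord⟩
  intro P hcP
  exact Sylow.ext ((key P hcP).trans (key Q₀ hcQ).symm)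

theorem sl2_not_redundant_two_add (hodd : Odd (Fintype.card F)) (k : ℕ)
    (hk : Fintype.card F + 1 = 2 ^ k) : ¬ HasRedundantSylow 2 SL(2, F) := by
  obtain ⟨t, ht⟩ := Cfsg.Agent.H18.Dk.exists_no_root (F := F)
  have hroot : ∀ a : F, a ^ 2 - tr (Cfsg.Agent.H18.Dk.elE t) * a + 1 ≠ 0 := by
    rw [Cfsg.Agent.H18.Dk.tr_elE]; exact ht
  obtain ⟨hc, -⟩ := Cfsg.Agent.H18.Dk.ell_card_cen hroot
  have hq : 2 ≤ Fintype.card F := Fintype.one_lt_card
  obtain ⟨j, rfl⟩ : ∃ j, k = j + 2 := by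
    have : 2 ≤ k := by
      by_contra hlt
      have : k = 0 ∨ k = 1 := by omega
      rcases this with rfl | rfl <;> simp at hk <;> omega
    exact ⟨k - 2, by omega⟩
  obtain ⟨c, hc2⟩ : ∃ c, Fintype.card F = 2 * c + 1 := id hodd
  have hpow : 2 ^ (j + 2) = 4 * 2 ^ j := by ring
  have hc3 : c + 1 = 2 * 2 ^ j := by omega
  have hcodd : Odd c := ⟨2 ^ j - 1, by have := Nat.one_le_two_pow (n := j); omega⟩
  apply sl2_not_redundant_two_of_torus hodd _ (Cfsg.Agent.H18.Dk.tr_sq_of_no_root hroot) (j + 2)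
    (Fintype.card F * c)
  · rw [hc, hk]
  · rw [card_SL2]
    have : Fintype.card F ^ 2 - 1 = 2 ^ (j + 2 + 1) * c := by
      have e : Fintype.card F ^ 2 = 2 ^ (j + 2 + 1) * c + 1 := by
        have e2 : 2 ^ (j + 2 + 1) = 4 * (c + 1) := by rw [hc3]; ring
        rw [e2, hc2]; ring
      omega
    rw [this]; ring
  · exact hodd.mul hcodd

theorem sl2_not_redundant_two_sub (hodd : Odd (Fintype.card F)) (k : ℕ)
    (hk : Fintype.card F = 2 ^ k + 1) : ¬ HasRedundantSylow 2 SL(2, F) := by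
  rcases Nat.lt_or_ge k 2 with hlt | hge
  · have : k = 0 ∨ k = 1 := by omega
    rcases this with rfl | rfl
    · exfalso
      rw [hk] at hodd
      exact absurd hodd (by decide)
    · exact sl2_not_redundant_two_add hodd 2 (by rw [hk]; norm_num)
  obtain ⟨j, rfl⟩ : ∃ j, k = j + 2 := ⟨k - 2, by omega⟩
  have hpow : 2 ^ (j + 2) = 4 * 2 ^ j := by ring
  have hq4 : 4 ≤ Fintype.card F := by
    have := Nat.one_le_two_pow (n := j)
    omega
  obtain ⟨u, hu⟩ := Cfsg.Agent.H18.Dk.exists_sq_ne_one hq4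
  have hc := Cfsg.Agent.H44.sl2_card_centralizer_diag (Cfsg.Agent.H18.Dk.boEl 0 u) rfl rfl hu
  have htr : tr (Cfsg.Agent.H18.Dk.boEl 0 u) ^ 2 ≠ 4 :=
    Cfsg.Agent.H44.sl2_trace_sq_diag (Cfsg.Agent.H18.Dk.boEl 0 u) rfl hu
  apply sl2_not_redundant_two_of_torus hodd _ htr (j + 2) (Fintype.card F * (2 * 2 ^ j + 1))
  · rw [hc, hk]; simp
  · rw [card_SL2]
    have : Fintype.card F ^ 2 - 1 = 2 ^ (j + 2 + 1) * (2 * 2 ^ j + 1) := by
      have e : Fintype.card F ^ 2 = 2 ^ (j + 2 + 1) * (2 * 2 ^ j + 1) + 1 := by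
        rw [hk]; ring
      omega
    rw [this]; ring
  · exact hodd.mul ⟨2 ^ j, by ring⟩

theorem sl2_exists_torus_data (hodd : Odd (Fintype.card F)) (x : SL(2, F))
    (hx : ∃ k : ℕ, orderOf x = 2 ^ k) :
    ∃ g : SL(2, F), tr g ^ 2 ≠ 4 ∧
      (∀ y ∈ Subgroup.centralizer ({g} : Set SL(2, F)), y * x * y⁻¹ = x) ∧
      (∀ b ∈ Subgroup.normalizer (Subgroup.centralizer ({g} : Set SL(2, F)) : Set SL(2, F)),
        b ∉ Subgroup.centralizer ({g} : Set SL(2, F)) → b * x * b⁻¹ = x ∨ b * x * b⁻¹ = x⁻¹) := by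
  have h2 : (2 : F) ≠ 0 := Cfsg.Agent.H44.two_ne_zero_of_odd hodd
  by_cases htr : tr x ^ 2 = 4
  · obtain ⟨ℓ, hℓ⟩ := CharP.exists F
    haveI : CharP F ℓ := hℓ
    haveI : Fact ℓ.Prime := ⟨CharP.char_is_prime F ℓ⟩
    have hl : ℓ.Prime := Fact.out
    have hl2 : ℓ ≠ 2 := by
      rintro rfl
      apply h2
      have := CharP.cast_eq_zero F 2
      exact_mod_cast this
    have e1 := Cfsg.Agent.H65.SL2.pow_two_mul_char_eq_one ℓ x htr
    obtain ⟨k, hk⟩ := hx
    have hd1 := orderOf_dvd_of_pow_eq_one e1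
    have hd2 : orderOf x ∣ 2 := by
      rw [hk] at hd1 ⊢
      have hcop : Nat.Coprime (2 ^ k) ℓ :=
        Nat.Coprime.pow_left _ ((Nat.coprime_primes Nat.prime_two hl).mpr (Ne.symm hl2))
      exact hcop.dvd_of_dvd_mul_right hd1
    have e2 : x * x = 1 := by
      rw [← pow_two]; exact orderOf_dvd_iff_pow_eq_one.mp hd2
    have hxZ : x ∈ (Cfsg.Agent.H29.Dk.Ze : Subgroup SL(2, F)) :=
      Cfsg.Agent.H29.Dk.mem_Ze_of_mul_self h2 e2
    have hcomm : ∀ y : SL(2, F), y * x * y⁻¹ = x := by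
      intro y
      rw [← Cfsg.Agent.H29.Dk.Ze_comm hxZ y]; group
    obtain ⟨t, ht⟩ := Cfsg.Agent.H18.Dk.exists_no_root (F := F)
    have hroot : ∀ a : F, a ^ 2 - tr (Cfsg.Agent.H18.Dk.elE t) * a + 1 ≠ 0 := by
      rw [Cfsg.Agent.H18.Dk.tr_elE]; exact ht
    exact ⟨Cfsg.Agent.H18.Dk.elE t, Cfsg.Agent.H18.Dk.tr_sq_of_no_root hroot,
      fun y _ => hcomm y, fun b _ _ => Or.inl (hcomm b)⟩
  · refine ⟨x, htr, ?_, ?_⟩
    · intro y hy
      have := Subgroup.mem_centralizer_iff.mp hy x (Set.mem_singleton x)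
      rw [← this]; group
    · intro b hbN hbT
      right
      have := Cfsg.Agent.H44.sl2_normalizer_not_mem h2 htr hbN hbT
      rw [this]; group

/-- If `q` is odd and neither `q - 1` nor `q + 1` is a power of two, every Sylow `2`-subgroup of
`SL₂(q)` is redundant. -/
theorem sl2_redundant (hodd : Odd (Fintype.card F)) (h1 : ¬ ∃ k : ℕ, Fintype.card F + 1 = 2 ^ k)
    (h3 : ¬ ∃ k : ℕ, Fintype.card F = 2 ^ k + 1) : HasRedundantSylow 2 SL(2, F) := by
  have h2 : (2 : F) ≠ 0 := Cfsg.Agent.H44.two_ne_zero_of_odd hodd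
  obtain ⟨Q⟩ : Nonempty (Sylow 2 SL(2, F)) := inferInstance
  refine ⟨Q, fun x hx => ?_⟩
  by_contra hcon
  push Not at hcon
  have hu : ∀ P : Sylow 2 SL(2, F), x ∈ P → P = Q := fun P hP => by_contra fun h => hcon P h hP
  have hxQ : x ∈ Q := by
    obtain ⟨k, hk⟩ := hx
    obtain ⟨P, hP⟩ := IsPGroup.exists_le_sylow (p := 2) (P := Subgroup.zpowers x)
      (IsPGroup.of_card (n := k) (by rw [Nat.card_zpowers, hk]))
    have hxP : x ∈ P := hP (Subgroup.mem_zpowers x)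
    rw [← hu P hxP]; exact hxP
  obtain ⟨g, htr, hcen, hnor⟩ := sl2_exists_torus_data hodd x hx
  have ht : (g.1 0 0 + g.1 1 1) ^ 2 ≠ 4 := htr
  have hTcard : ¬ ∃ k : ℕ, Nat.card (Subgroup.centralizer ({g} : Set SL(2, F))) = 2 ^ k := by
    by_cases hell : Cfsg.Agent.H44.Elliptic (g : Matrix (Fin 2) (Fin 2) F)
    · rw [Cfsg.Agent.H44.sl2_card_centralizer_elliptic hodd g hell]; exact h1
    · rw [Cfsg.Agent.H44.sl2_card_centralizer_split hodd g ht hell]
      rintro ⟨k, hk⟩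
      apply h3
      have hq : 2 ≤ Fintype.card F := Fintype.one_lt_card
      exact ⟨k, by omega⟩
  obtain ⟨r, hr, hrd, hrodd⟩ :=
    (Nat.eq_two_pow_or_exists_odd_prime_and_dvd _).resolve_left hTcard
  haveI : Fact r.Prime := ⟨hr⟩
  obtain ⟨t, ht_ord⟩ := exists_prime_orderOf_dvd_card' r hrd
  obtain ⟨b, hbN, hbT⟩ := Cfsg.Agent.H44.sl2_exists_normalizer_not_mem hodd ht
  have hbsq := Cfsg.Agent.H44.sl2_normalizer_sq h2 ht hbN hbT
  have hbinv := Cfsg.Agent.H44.sl2_normalizer_invert h2 ht hbN hbT t.2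
  have hb4 : b ^ 2 ^ 2 = 1 := by
    have e : b ^ 2 ^ 2 = (b * b) * (b * b) := by
      rw [show (2 : ℕ) ^ 2 = 2 * 2 from rfl, pow_mul, pow_two, pow_two]
    rw [e, hbsq]; simp
  have htN : (t : SL(2, F)) ∈ Subgroup.normalizer ((Q : Subgroup SL(2, F)) : Set SL(2, F)) :=
    mem_normalizer_of_unique Q hu (by rw [hcen _ t.2]; exact hxQ)
  have hbNQ : b ∈ Subgroup.normalizer ((Q : Subgroup SL(2, F)) : Set SL(2, F)) := by
    apply mem_normalizer_of_unique Q hu
    rcases hnor b hbN hbT with h | h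
    · rw [h]; exact hxQ
    · rw [h]; exact inv_mem hxQ
  have hbQ : b ∈ Q := mem_sylow_of_mem_normalizer Q hbNQ ⟨2, hb4⟩
  have hb'Q : (t : SL(2, F)) * b * (t : SL(2, F))⁻¹ ∈ Q := by
    apply mem_sylow_of_mem_normalizer Q (mul_mem (mul_mem htN hbNQ) (inv_mem htN))
    exact ⟨2, by rw [conj_pow, hb4]; group⟩
  have ht2 : (t : SL(2, F)) * (t : SL(2, F)) ∈ Q := by
    have e0 : b * (t : SL(2, F))⁻¹ * b⁻¹ = (t : SL(2, F)) := by
      calc b * (t : SL(2, F))⁻¹ * b⁻¹ = (b * (t : SL(2, F)) * b⁻¹)⁻¹ := by group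
        _ = ((t : SL(2, F))⁻¹)⁻¹ := by rw [hbinv]
        _ = (t : SL(2, F)) := inv_inv _
    have e : (t : SL(2, F)) * (t : SL(2, F)) =
        ((t : SL(2, F)) * b * (t : SL(2, F))⁻¹) * b⁻¹ := by
      calc (t : SL(2, F)) * (t : SL(2, F))
          = (t : SL(2, F)) * (b * (t : SL(2, F))⁻¹ * b⁻¹) := by rw [e0]
        _ = _ := by group
    rw [e]; exact mul_mem hb'Q (inv_mem hbQ)
  obtain ⟨j, hj⟩ := Q.isPGroup' ⟨_, ht2⟩
  have hj' : (t : SL(2, F)) ^ 2 ^ (j + 1) = 1 := by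
    have h := congrArg Subtype.val hj
    simp only [Subgroup.coe_pow, Subgroup.coe_one] at h
    rw [pow_succ', pow_mul, pow_two]; exact h
  have hd := orderOf_dvd_of_pow_eq_one hj'
  rw [Subgroup.orderOf_coe, ht_ord] at hd
  have hr2 := (Nat.prime_dvd_prime_iff_eq hr Nat.prime_two).mp (hr.dvd_of_dvd_pow hd)
  rw [hr2] at hrodd
  exact absurd hrodd (by decide)

theorem sl2_redundant_iff (p : ℕ) [Fact p.Prime] :
    HasRedundantSylow p SL(2, F) ↔
      (p = 2 ∧ (¬ ∃ k : ℕ, Fintype.card F + 1 = 2 ^ k) ∧ (¬ ∃ k : ℕ, Fintype.card F = 2 ^ k) ∧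
        ¬ ∃ k : ℕ, Fintype.card F = 2 ^ k + 1) := by
  have hp : p.Prime := Fact.out
  obtain ⟨ℓ, hℓ⟩ := CharP.exists F
  haveI : CharP F ℓ := hℓ
  haveI : Fact ℓ.Prime := ⟨CharP.char_is_prime F ℓ⟩
  have hl : ℓ.Prime := Fact.out
  obtain ⟨n, -, hqn⟩ := FiniteField.card F ℓ
  have hodd_of : ℓ ≠ 2 → Odd (Fintype.card F) := by
    intro h
    rw [hqn]; exact (hl.odd_of_ne_two h).pow
  constructor
  · intro hR
    by_contra hne
    by_cases hpl : p = ℓ
    · subst hpl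
      exact sl2_not_redundant_char p hR
    by_cases hdvd : p ∣ Nat.card SL(2, F)
    swap
    · exact not_redundant_of_not_dvd hdvd hR
    by_cases hp2 : p = 2
    · subst hp2
      have hodd := hodd_of (Ne.symm hpl)
      have hB : ¬ ∃ k : ℕ, Fintype.card F = 2 ^ k := by
        rintro ⟨k, hk⟩
        rcases Nat.eq_zero_or_pos k with rfl | hk0
        · have : 2 ≤ Fintype.card F := Fintype.one_lt_card
          simp at hk
          omega
        · rw [hk] at hodd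
          exact absurd hodd (Nat.not_odd_iff_even.mpr (Nat.even_pow.mpr ⟨even_two, hk0.ne'⟩))
      have hAC : (∃ k : ℕ, Fintype.card F + 1 = 2 ^ k) ∨ (∃ k : ℕ, Fintype.card F = 2 ^ k + 1) := by
        by_contra h
        push Not at h
        exact hne ⟨rfl, fun ⟨k, hk⟩ => h.1 k hk, hB, fun ⟨k, hk⟩ => h.2 k hk⟩
      rcases hAC with ⟨k, hk⟩ | ⟨k, hk⟩
      · exact sl2_not_redundant_two_add hodd k hk hR
      · exact sl2_not_redundant_two_sub hodd k hk hR
    · exact sl2_not_redundant_odd p ℓ hpl hp2 hdvd hR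
  · rintro ⟨rfl, h1, h2, h3⟩
    have hodd : Odd (Fintype.card F) := by
      apply hodd_of
      rintro rfl
      exact h2 ⟨n, hqn⟩
    exact sl2_redundant hodd h1 h3

end RedSL2

end Cfsg.Agent.H7
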