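import Mathlib
import Cfsg.Prelude.Def_Classical
import Cfsg.Prelude.Def_LieClassical
import Cfsg.Agent.H7.SUCenter
import Cfsg.Agent.H7.SL2

set_option autoImplicit false

namespace Cfsg.Agent.H7

open Cfsg Matrix

section SU2

variable {F : Type*} [Field F] [Fintype F]

omit [Fintype F] in
theorem hermForm_two (q : ℕ) (a b : Fin 2 → F) :
    hermForm 2 F q a b = a 0 * b 0 ^ q + a 1 * b 1 ^ q := by
  simp [hermForm, Fin.sum_univ_two]

/-- A basis of two isotropic vectors in which the Hermitian form becomes `η` times the standard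
twisted alternating form, with `η ^ q = -η`. -/
theorem exists_herm_hyp {q : ℕ} (hF : Fintype.card F = q ^ 2) :
    ∃ (P : Matrix (Fin 2) (Fin 2) F) (η : F), η ≠ 0 ∧ IsUnit P.det ∧
      ∀ u v : Fin 2 → F, hermForm 2 F q (P *ᵥ u) (P *ᵥ v) =
        η * (u 0 * v 1 ^ q - u 1 * v 0 ^ q) := by
  have hq := two_le_of_card_sq hF
  have hneg : (-1 : F) ^ q = -1 := by
    have := neg_pow_q hF (1 : F)
    rwa [one_pow] at this
  have hneg0 : (-1 : F) ≠ 0 := neg_ne_zero.mpr one_ne_zero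
  obtain ⟨b0u, hb0⟩ := exists_norm_eq hF (-1) hneg0 hneg
  obtain ⟨β0, hβ0⟩ : ∃ β0 : F, β0 ^ (q + 1) = -1 := ⟨b0u, hb0⟩
  have hcard := card_norm_fiber_ne hF (-1) hneg0 hneg
  obtain ⟨β1, hβ1, hne⟩ : ∃ β1 : F, β1 ^ (q + 1) = -1 ∧ β1 ≠ β0 := by
    by_contra hcon
    push Not at hcon
    have hsub : Subsingleton {x : F // x ^ (q + 1) = -1} :=
      ⟨fun a b => Subtype.ext (by rw [hcon a.1 a.2, hcon b.1 b.2])⟩
    have := Finite.card_le_one_iff_subsingleton.mpr hsub
    omega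
  obtain ⟨θ, hθ1, hθ2⟩ := exists_norm_one_sq_ne_one hF
  obtain ⟨η, hη⟩ : ∃ η : F, η = θ - θ ^ q := ⟨_, rfl⟩
  have hη0 : η ≠ 0 := by
    intro h
    rw [hη] at h
    have h1 : θ ^ q = θ := (sub_eq_zero.mp h).symm
    apply hθ2
    rw [pow_two]
    nth_rewrite 2 [← h1]
    rw [← pow_succ']
    exact hθ1
  have hηq : η ^ q = -η := by
    rw [hη, sub_pow_q hF, pow_q_pow_q hF]; ring
  have hε0 : 1 + β0 * β1 ^ q ≠ 0 := by
    intro h
    apply hne
    have h1 : β1 * (1 + β0 * β1 ^ q) = β1 - β0 := by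
      have : β1 * (1 + β0 * β1 ^ q) = β1 + β0 * β1 ^ (q + 1) := by ring
      rw [this, hβ1]; ring
    rw [h, mul_zero] at h1
    exact sub_eq_zero.mp h1.symm
  obtain ⟨s, hs⟩ : ∃ s : F, s = (η / (1 + β0 * β1 ^ q)) ^ q := ⟨_, rfl⟩
  have hsq : s ^ q = η / (1 + β0 * β1 ^ q) := by rw [hs]; exact pow_q_pow_q hF _
  have hs1 : s ^ q * (1 + β0 * β1 ^ q) = η := by rw [hsq]; field_simp
  have hs2 : s * (1 + β1 * β0 ^ q) = -η := by
    have h1 : (s ^ q * (1 + β0 * β1 ^ q)) ^ q = s * (1 + β1 * β0 ^ q) := by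
      rw [mul_pow, add_pow_q hF, one_pow, mul_pow, pow_q_pow_q hF, pow_q_pow_q hF]; ring
    rw [← h1, hs1, hηq]
  have hs0 : s ≠ 0 := by
    intro h
    rw [h, zero_mul] at hs2
    exact hη0 (neg_eq_zero.mp hs2.symm)
  refine ⟨!![1, s; β0, β1 * s], η, hη0, ?_, ?_⟩
  · rw [isUnit_iff_ne_zero, Matrix.det_fin_two_of]
    intro h
    have : s * (β1 - β0) = 0 := by linear_combination h
    rcases mul_eq_zero.mp this with h1 | h1
    · exact hs0 h1
    · exact hne (sub_eq_zero.mp h1)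
  · intro u v
    rw [hermForm_two]
    have e0 : ∀ x : Fin 2 → F, (!![1, s; β0, β1 * s] *ᵥ x) 0 = x 0 + s * x 1 := by
      intro x
      simp [Matrix.mulVec, dotProduct, Fin.sum_univ_two]
    have e1 : ∀ x : Fin 2 → F, (!![1, s; β0, β1 * s] *ᵥ x) 1 = β0 * x 0 + β1 * s * x 1 := by
      intro x
      simp [Matrix.mulVec, dotProduct, Fin.sum_univ_two]
    rw [e0, e1, e0, e1, add_pow_q hF, add_pow_q hF, mul_pow, mul_pow, mul_pow, mul_pow]
    have hb0' : β0 * β0 ^ q = -1 := by rw [← pow_succ']; exact hβ0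
    have hb1' : β1 * β1 ^ q = -1 := by rw [← pow_succ']; exact hβ1
    linear_combination (u 0 * v 0 ^ q) * hb0' + (u 1 * v 1 ^ q * s * s ^ q) * hb1' +
      (u 0 * v 1 ^ q) * hs1 + (u 1 * v 0 ^ q) * hs2

/-- Matrices of determinant one with entries fixed by `x ↦ x ^ q` preserve the twisted
alternating form. -/
theorem twisted_alt_preserved {q : ℕ} (hF : Fintype.card F = q ^ 2)
    (N : Matrix (Fin 2) (Fin 2) F) (hN : ∀ i j, N i j ^ q = N i j) (hdet : N.det = 1)
    (u v : Fin 2 → F) :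
    (N *ᵥ u) 0 * (N *ᵥ v) 1 ^ q - (N *ᵥ u) 1 * (N *ᵥ v) 0 ^ q =
      u 0 * v 1 ^ q - u 1 * v 0 ^ q := by
  have e : ∀ (x : Fin 2 → F) (i : Fin 2), (N *ᵥ x) i = N i 0 * x 0 + N i 1 * x 1 := by
    intro x i
    simp [Matrix.mulVec, dotProduct, Fin.sum_univ_two]
  rw [e, e, e, e, add_pow_q hF, add_pow_q hF, mul_pow, mul_pow, mul_pow, mul_pow, hN, hN, hN, hN]
  rw [Matrix.det_fin_two] at hdet
  linear_combination (u 0 * v 1 ^ q - u 1 * v 0 ^ q) * hdet

/-- `SU_2(q) ≅ SL_2(q)`. -/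
theorem su2_equiv_sl2 {K : Type*} [Field K] [Fintype K] {q : ℕ} (hF : Fintype.card F = q ^ 2)
    (hK : Fintype.card K = q) :
    Nonempty (SU 2 F q ≃* Matrix.SpecialLinearGroup (Fin 2) K) := by
  classical
  have hq := two_le_of_card_sq hF
  obtain ⟨p, hpK⟩ := CharP.exists K
  haveI := hpK
  haveI hpp : Fact p.Prime := ⟨CharP.char_is_prime K p⟩
  have hcF : CharP F p := by
    obtain ⟨p', hp'⟩ := CharP.exists F
    haveI := hp'
    haveI hpp' : Fact p'.Prime := ⟨CharP.char_is_prime F p'⟩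
    obtain ⟨a, ha0, ha⟩ := card_field_eq_prime_pow K p
    obtain ⟨b, hb0, hb⟩ := card_field_eq_prime_pow F p'
    have h1 : p' ∣ p ^ (a * 2) := by
      rw [pow_mul, ← ha, hK, ← hF, hb]
      exact dvd_pow_self p' (by omega)
    have h2 : p' = p :=
      (Nat.prime_dvd_prime_iff_eq hpp'.out hpp.out).mp (hpp'.out.dvd_of_dvd_pow h1)
    rw [← h2]
    exact hp'
  haveI := hcF
  letI : Algebra (ZMod p) K := ZMod.algebra K p
  letI : Algebra (ZMod p) F := ZMod.algebra F p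
  have hfr : Module.finrank (ZMod p) K ∣ Module.finrank (ZMod p) F := by
    have h1 := FiniteField.pow_finrank_eq_card p K
    have h2 := FiniteField.pow_finrank_eq_card p F
    rw [hF, ← hK, ← h1, ← pow_mul] at h2
    have h3 := Nat.pow_right_injective hpp.out.two_le h2
    rw [h3]
    exact dvd_mul_right _ _
  obtain ⟨ι'⟩ := FiniteField.nonempty_algHom_of_finrank_dvd hfr
  let ι : K →+* F := ι'.toRingHom
  have hιq : ∀ x : K, ι x ^ q = ι x := by
    intro x
    rw [← map_pow, ← hK, FiniteField.pow_card]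
  obtain ⟨P, η, hη0, hPdet, hP⟩ := exists_herm_hyp hF
  have hPP : P * P⁻¹ = 1 := Matrix.mul_nonsing_inv P hPdet
  have hPP' : P⁻¹ * P = 1 := Matrix.nonsing_inv_mul P hPdet
  let Ψ : Matrix.SpecialLinearGroup (Fin 2) K →* Matrix.SpecialLinearGroup (Fin 2) F :=
    { toFun := fun g => ⟨P * ι.mapMatrix g.1 * P⁻¹, by
        rw [Matrix.det_mul, Matrix.det_mul, mul_right_comm, ← Matrix.det_mul, hPP, Matrix.det_one,
          one_mul, ← RingHom.map_det, g.2, map_one]⟩
      map_one' := by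
        apply Subtype.ext
        show P * ι.mapMatrix (1 : Matrix (Fin 2) (Fin 2) K) * P⁻¹ = 1
        rw [map_one, mul_one, hPP]
      map_mul' := by
        intro g h
        apply Subtype.ext
        show P * ι.mapMatrix (g.1 * h.1) * P⁻¹ =
          (P * ι.mapMatrix g.1 * P⁻¹) * (P * ι.mapMatrix h.1 * P⁻¹)
        rw [map_mul]
        calc P * (ι.mapMatrix g.1 * ι.mapMatrix h.1) * P⁻¹
            = P * ι.mapMatrix g.1 * 1 * ι.mapMatrix h.1 * P⁻¹ := by
              simp only [mul_one, mul_assoc]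
          _ = (P * ι.mapMatrix g.1 * P⁻¹) * (P * ι.mapMatrix h.1 * P⁻¹) := by
              rw [← hPP']
              simp only [mul_assoc] }
  have hΨ : ∀ g, (Ψ g).1 = P * ι.mapMatrix g.1 * P⁻¹ := fun g => rfl
  have hmem : ∀ g, Ψ g ∈ SU 2 F q := by
    intro g
    refine (mem_SU_iff 2 q _).2 ?_
    intro u v
    rw [hΨ, ← Matrix.mulVec_mulVec, ← Matrix.mulVec_mulVec, ← Matrix.mulVec_mulVec,
      ← Matrix.mulVec_mulVec, hP, twisted_alt_preserved hF, ← hP, Matrix.mulVec_mulVec,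
      Matrix.mulVec_mulVec, hPP, Matrix.one_mulVec, Matrix.one_mulVec]
    · intro i j
      exact hιq (g.1 i j)
    · rw [← RingHom.map_det, g.2, map_one]
  have hinj : Function.Injective Ψ := by
    intro g h hgh
    have h1 : P * ι.mapMatrix g.1 * P⁻¹ = P * ι.mapMatrix h.1 * P⁻¹ := by
      rw [← hΨ, ← hΨ, hgh]
    have h2 : ι.mapMatrix g.1 = ι.mapMatrix h.1 := by
      calc ι.mapMatrix g.1 = P⁻¹ * (P * ι.mapMatrix g.1 * P⁻¹) * P := by
            simp only [mul_assoc, hPP', mul_one]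
            rw [← mul_assoc, hPP', one_mul]
        _ = P⁻¹ * (P * ι.mapMatrix h.1 * P⁻¹) * P := by rw [h1]
        _ = ι.mapMatrix h.1 := by
            simp only [mul_assoc, hPP', mul_one]
            rw [← mul_assoc, hPP', one_mul]
    apply Subtype.ext
    exact Matrix.map_injective ι.injective h2
  let Ψ' : Matrix.SpecialLinearGroup (Fin 2) K →* SU 2 F q := Ψ.codRestrict (SU 2 F q) hmem
  have hinj' : Function.Injective Ψ' := by
    intro g h hgh
    apply hinj
    exact congrArg Subtype.val hgh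
  have hcardSU : Nat.card (SU 2 F q) = q * (q ^ 2 - 1) := by
    have h1 := card_SU_mul hF 2 (by norm_num)
    rw [card_GU hF 2] at h1
    have h2 : (∏ i ∈ Finset.range 2, (if Even i then q ^ (i + 1) + 1 else q ^ (i + 1) - 1)) =
        (q + 1) * (q ^ 2 - 1) := by
      simp [Finset.prod_range_succ]
    rw [h2] at h1
    have h3 : (q + 1) * Nat.card (SU 2 F q) = (q + 1) * (q * (q ^ 2 - 1)) := by
      rw [h1]; norm_num; ring
    exact Nat.eq_of_mul_eq_mul_left (by omega) h3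
  have hcardSL : Nat.card (Matrix.SpecialLinearGroup (Fin 2) K) = q * (q ^ 2 - 1) := by
    rw [card_SL2, hK]
  have hbij : Function.Bijective Ψ' :=
    hinj'.bijective_of_nat_card_le (by rw [hcardSU, hcardSL])
  exact ⟨(MulEquiv.ofBijective Ψ' hbij).symm⟩

end SU2

end Cfsg.Agent.H7
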